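import Cfsg.Agent.OddOrder.BG1Stab
import Cfsg.Prelude.Def_OddOrderLocal
import Mathlib.GroupTheory.SemidirectProduct
import Mathlib.GroupTheory.GroupAction.ConjAct
import Mathlib.GroupTheory.GroupAction.Quotient

/-!
# Small rank `p`-groups, preliminaries (Bender–Glauberman, section 4)

* `le_center_of_normal_card_prime`, `index_centralizer_le`: elementary facts on `p`-groups.
* `mem_of_commute_maximalNormalElem` (Alperin): for odd `p`, an element of order `p` centralising a
  maximal normal elementary abelian subgroup lies in it.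
* `pRankLE_two_of_no_normal`: no normal elementary abelian subgroup of order `p³` gives rank `≤ 2`.
* `card_le_of_exponent`: exponent `p` and rank `≤ 2` gives order `≤ p³`.
* `exists_critical_exponent`: a characteristic subgroup of exponent dividing `p`, of class at most
  two, on which every coprime automorphism of the `p`-group acts faithfully.
-/

namespace CfsgLib.OddOrder.BG4

open Subgroup
open scoped commutatorElement

variable {R : Type*} [Group R] {p : ℕ}

/-- A normal subgroup of order `p` of a `p`-group is central. -/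
theorem le_center_of_normal_card_prime [Finite R] [hp : Fact p.Prime] (hR : IsPGroup p R)
    {Z : Subgroup R} [hZn : Z.Normal] (hZ : Nat.card Z = p) : Z ≤ center R := by
  have h := (hR.of_equiv ConjAct.toConjAct).card_modEq_card_fixedPoints (α := Z)
  intro z hz
  rw [mem_center_iff]
  by_contra hne
  obtain ⟨g, hg⟩ := not_forall.mp hne
  -- the fixed points of conjugation on `Z` are more than one, hence all
  have h1 : (1 : Z) ∈ MulAction.fixedPoints (ConjAct R) Z := fun a => by
    ext; simp [ConjAct.smul_def]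
  have hlt : Nat.card (MulAction.fixedPoints (ConjAct R) Z) < p := by
    rw [← hZ]
    refine lt_of_le_of_ne (Finite.card_subtype_le _) fun heq => hg ?_
    have huniv : MulAction.fixedPoints (ConjAct R) Z = Set.univ := by
      apply Set.eq_of_subset_of_ncard_le (Set.subset_univ _)
      rw [Set.ncard_univ, ← Nat.card_coe_set_eq, heq]
    have := congrArg Subtype.val ((huniv ▸ Set.mem_univ (⟨z, hz⟩ : Z) :
      (⟨z, hz⟩ : Z) ∈ MulAction.fixedPoints (ConjAct R) Z) (ConjAct.toConjAct g))
    rw [ConjAct.Subgroup.val_conj_smul, ConjAct.toConjAct_smul] at this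
    calc g * z = g * z * g⁻¹ * g := by group
      _ = z * g := by rw [this]
  have hpos : 0 < Nat.card (MulAction.fixedPoints (ConjAct R) Z) :=
    Nat.card_pos_iff.mpr ⟨⟨⟨1, h1⟩⟩, inferInstance⟩
  rw [hZ] at h
  exact absurd (Nat.le_of_dvd hpos (Nat.modEq_zero_iff_dvd.mp
    (h.symm.trans (Nat.modEq_zero_iff_dvd.mpr dvd_rfl)))) (not_le.mpr hlt)

/-- A nontrivial normal subgroup of a `p`-group contains a central element of order `p`. -/
theorem exists_central_orderOf_prime [Finite R] [hp : Fact p.Prime] (hR : IsPGroup p R)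
    {N : Subgroup R} [N.Normal] (hN : N ≠ ⊥) : ∃ z ∈ N, z ∈ center R ∧ orderOf z = p := by
  haveI : Nontrivial N := (nontrivial_iff_ne_bot N).mpr hN
  have hdvd : p ∣ Nat.card N := (hR.to_subgroup N).card_eq_or_dvd.resolve_left
    (by have := Finite.one_lt_card (α := N); omega)
  obtain ⟨b, hb, hb1⟩ := (hR.of_equiv ConjAct.toConjAct).exists_fixed_point_of_prime_dvd_card_of_fixed_point
    N hdvd (a := (1 : N)) fun g => by ext; simp [ConjAct.smul_def]
  have hbc : (b : R) ∈ center R := by
    rw [mem_center_iff]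
    intro g
    have := congrArg Subtype.val (hb (ConjAct.toConjAct g))
    rw [ConjAct.Subgroup.val_conj_smul, ConjAct.toConjAct_smul] at this
    calc g * b = g * b * g⁻¹ * g := by group
      _ = b * g := by rw [this]
  have hbne : (b : R) ≠ 1 := fun h => hb1 (Subtype.ext h.symm)
  obtain ⟨k, hk⟩ := IsPGroup.iff_orderOf.mp hR (b : R)
  have hk0 : k ≠ 0 := by rintro rfl; exact hbne (orderOf_eq_one_iff.mp (by simpa using hk))
  refine ⟨(b : R) ^ p ^ (k - 1), N.pow_mem b.2 _, pow_mem hbc _, ?_⟩
  rw [orderOf_pow' _ (pow_ne_zero _ hp.out.ne_zero), hk]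
  conv_lhs => rw [Nat.gcd_eq_right (pow_dvd_pow p (Nat.sub_le k 1))]
  rw [Nat.pow_div (Nat.sub_le k 1) hp.out.pos, Nat.sub_sub_self (Nat.one_le_iff_ne_zero.mpr hk0),
    pow_one]

/-- The centraliser of a normal subgroup of exponent dividing `p` and order at most `p²` has index
at most `p`. -/
theorem index_centralizer_le [Finite R] [hp : Fact p.Prime] (hR : IsPGroup p R)
    {V : Subgroup R} [hVn : V.Normal] (hV : ∀ v ∈ V, v ^ p = 1) (hcard : Nat.card V ≤ p ^ 2) :
    (centralizer (V : Set R)).index ≤ p := by
  rcases eq_or_ne V ⊥ with rfl | hne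
  · rw [show centralizer ((⊥ : Subgroup R) : Set R) = ⊤ from
      top_unique fun x _ => fun y hy => by simp [mem_bot.mp hy], index_top]
    exact hp.out.one_le
  obtain ⟨z, hzV, hzc, hzo⟩ := exists_central_orderOf_prime hR hne
  set Z := zpowers z with hZ
  have hZc : Z ≤ center R := zpowers_le.mpr hzc
  have hZV : Z ≤ V := zpowers_le.mpr hzV
  haveI hZn : Z.Normal := ⟨fun x hx g => by
    rwa [← (mem_center_iff.mp (hZc hx) g).symm.trans rfl, mul_inv_cancel_right] ⟩
  have hcZ : Nat.card Z = p := by rw [hZ, Nat.card_zpowers, hzo]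
  by_cases hVZ : V ≤ Z
  · rw [show centralizer (V : Set R) = ⊤ from
      top_unique fun x _ => fun y hy => (mem_center_iff.mp (hZc (hVZ hy)) x).symm, index_top]
    exact hp.out.one_le
  obtain ⟨v, hvV, hvZ⟩ := SetLike.not_le_iff_exists.mp hVZ
  -- `V/Z` has order at most `p`, so the action on it is trivial
  set Vb := V.map (QuotientGroup.mk' Z)
  haveI : Vb.Normal := hVn.map _ (QuotientGroup.mk'_surjective Z)
  have hVb : Nat.card Vb = p := by
    have h1 : Nat.card Vb * p = Nat.card V := by
      have := Subgroup.card_mul_index (Z.subgroupOf V)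
      rw [Nat.card_congr (subgroupOfEquivOfLe hZV).toEquiv, hcZ] at this
      rw [← this, mul_comm]
      congr 1
      rw [← relIndex_bot_left Vb, ← Subgroup.map_bot (QuotientGroup.mk' Z), relIndex_map_map]
      rw [QuotientGroup.ker_mk', bot_sup_eq, sup_eq_left.mpr hZV]
      rfl
    have hdvd : p ∣ Nat.card Vb := by
      refine ((hR.to_quotient Z).to_subgroup Vb).card_eq_or_dvd.resolve_left fun h => hvZ ?_
      have := (Subgroup.card_eq_one.mp h).le (mem_map_of_mem (QuotientGroup.mk' Z) hvV)
      simpa using this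
    refine le_antisymm (Nat.le_of_mul_le_mul_right ?_ hp.out.pos) (Nat.le_of_dvd Nat.card_pos hdvd)
    rw [h1, ← sq]; exact hcard
  have hcomm : ∀ g : R, ⁅g, v⁆ ∈ Z := by
    intro g
    rw [← QuotientGroup.eq_one_iff, ← QuotientGroup.mk'_apply, map_commutatorElement,
      commutatorElement_eq_one_iff_mul_comm]
    exact mem_center_iff.mp (le_center_of_normal_card_prime (hR.to_quotient Z) hVb
      (mem_map_of_mem _ hvV)) _
  have hzcomm : ∀ g h : R, Commute ⁅g, v⁆ h := fun g h => (mem_center_iff.mp (hZc (hcomm g)) h).symm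
  let f : R →* R := MonoidHom.mk' (fun g => ⁅g, v⁆) fun g h => by
    show ⁅g * h, v⁆ = ⁅g, v⁆ * ⁅h, v⁆
    rw [commutatorElement_mul_left_eq_conj_mul, ← (hzcomm h g).eq, mul_inv_cancel_right,
      (hzcomm h _).eq]
  have hker : f.ker ≤ centralizer (V : Set R) := by
    intro g hg w hw
    have hgv : Commute g v := commutatorElement_eq_one_iff_commute.mp hg
    -- `V` is generated by `Z` and `v`
    obtain ⟨k, hk⟩ : ∃ k : ℤ, (v : R ⧸ Z) ^ k = (w : R ⧸ Z) := by
      haveI : Fact (Nat.card Vb).Prime := ⟨hVb ▸ hp.out⟩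
      have hne : (⟨_, mem_map_of_mem (QuotientGroup.mk' Z) hvV⟩ : Vb) ≠ 1 := fun h => hvZ (by
        simpa using congrArg Subtype.val h)
      have := zpowers_eq_top_of_prime_card (hVb) hne ▸
        mem_top (⟨_, mem_map_of_mem (QuotientGroup.mk' Z) hw⟩ : Vb)
      obtain ⟨k, hk⟩ := mem_zpowers_iff.mp this
      exact ⟨k, by simpa using congrArg Subtype.val hk⟩
    rw [← QuotientGroup.mk_zpow, QuotientGroup.eq] at hk
    have hw' : w = v ^ k * ((v ^ k)⁻¹ * w) := by group
    rw [hw']
    exact ((hgv.zpow_right k).mul_right (mem_center_iff.mp (hZc hk) g)).eq.symm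
  refine (Nat.le_of_dvd ?_ (index_dvd_of_le hker)).trans ?_
  · exact Nat.pos_of_ne_zero index_ne_zero_of_finite
  rw [index_ker, ← hcZ]
  exact Subgroup.card_le_of_le (by rintro _ ⟨g, rfl⟩; exact hcomm g)

/-- Class at most two: the elements with `x ^ p = 1` are closed under multiplication. -/
theorem mul_pow_eq_one {x y : R} [hp : Fact p.Prime] (hp2 : p ≠ 2)
    (hc : ∀ z, Commute ⁅y, x⁆ z) (hx : x ^ p = 1) (hy : y ^ p = 1) : (x * y) ^ p = 1 := by
  rw [Stab.mul_pow_of_commutator_central hc, hx, hy, one_mul, one_mul]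
  obtain ⟨k, hk⟩ := hp.out.dvd_choose_self (k := 2) (by norm_num)
    (lt_of_le_of_ne hp.out.two_le (Ne.symm hp2))
  rw [hk, pow_mul, ← Stab.commutatorElement_pow_left (hc y).symm, hy, commutatorElement_one_left,
    one_pow]

/-- Alperin's lemma: for odd `p`, if `B` is maximal among the normal elementary abelian subgroups
of the `p`-group `R`, every element of order dividing `p` centralising `B` lies in `B`. -/
theorem mem_of_commute_maximalNormalElem [Finite R] [hp : Fact p.Prime] (hp2 : p ≠ 2)
    (hR : IsPGroup p R) {B : Subgroup R} [hBn : B.Normal] (hB : Cfsg.IsElementaryAbelian p B)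
    (hmax : ∀ C : Subgroup R, C.Normal → Cfsg.IsElementaryAbelian p C → B ≤ C → C = B)
    {x : R} (hx : x ∈ centralizer (B : Set R)) (hxp : x ^ p = 1) : x ∈ B := by
  set q := QuotientGroup.mk' B with hq
  have key : ∀ i : ℕ, ∀ x : R, x ∈ centralizer (B : Set R) → x ^ p = 1 →
      q x ∈ Subgroup.upperCentralSeries (R ⧸ B) i → x ∈ B := by
    intro i
    induction i with
    | zero => intro x _ _ h; simpa [hq] using h
    | succ i ih =>
      -- for two such elements of level `i + 1` the product has order dividing `p`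
      have hpair : ∀ n : ℕ, ∀ x y : R, Nat.card (closure {x, y} : Subgroup R) ≤ n →
          x ∈ centralizer (B : Set R) → y ∈ centralizer (B : Set R) → x ^ p = 1 → y ^ p = 1 →
          q x ∈ Subgroup.upperCentralSeries (R ⧸ B) (i + 1) → q y ∈ Subgroup.upperCentralSeries (R ⧸ B) (i + 1) →
          (x * y) ^ p = 1 := by
        intro n
        induction n using Nat.strong_induction_on with
        | _ n ihn =>
        intro x y hn hxB hyB hxp hyp hxi hyi
        set H : Subgroup R := closure {x, y} with hH
        have hxH : x ∈ H := subset_closure (by simp)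
        have hyH : y ∈ H := subset_closure (by simp)
        by_cases hxy : ∀ z ∈ H, Commute x z
        · rw [(hxy y hyH).mul_pow, hxp, hyp, one_mul]
        haveI := (hR.to_subgroup H).isNilpotent
        have hne : zpowers (⟨x, hxH⟩ : H) ≠ ⊤ := fun h => hxy fun z hz => by
          obtain ⟨k, hk⟩ := mem_zpowers_iff.mp (h ▸ mem_top (⟨z, hz⟩ : H))
          have : x ^ k = z := by simpa using congrArg Subtype.val hk
          exact this ▸ (Commute.refl x).zpow_right k
        obtain ⟨M, hM, hxM⟩ := (IsCoatomic.eq_top_or_exists_le_coatom _).resolve_left hne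
        have hMn : M.Normal :=
          NormalizerCondition.normal_of_coatom M Group.normalizerCondition_of_isNilpotent hM
        -- `⁅y, x⁆` has order dividing `p`, lies in `C(B)` and in level `i`
        have hc : ⁅y, x⁆ ∈ B := by
          have hyx : y * x * y⁻¹ ∈ centralizer (B : Set R) :=
            mul_mem (mul_mem hyB hxB) (inv_mem hyB)
          refine ih ⁅y, x⁆ (mul_mem hyx (inv_mem hxB)) ?_ ?_
          · have hlt : Nat.card (closure {y * x * y⁻¹, x⁻¹} : Subgroup R) < Nat.card H := by
              refine lt_of_le_of_lt (Subgroup.card_le_of_le (K := M.map H.subtype) ?_) ?_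
              · rw [closure_le]
                rintro z (rfl | rfl)
                · exact ⟨_, hMn.conj_mem _ (hxM (mem_zpowers _)) ⟨y, hyH⟩, rfl⟩
                · exact ⟨_, inv_mem (hxM (mem_zpowers _)), rfl⟩
              · rw [card_map_of_injective H.subtype_injective]
                refine lt_of_le_of_ne (Nat.card_le_card_of_injective _ Subtype.val_injective)
                  fun h => hM.1 ?_
                exact (card_eq_iff_eq_top M).mp h
            refine ihn _ (lt_of_lt_of_le hlt hn) _ _ le_rfl hyx (inv_mem hxB) ?_ (by simp [hxp])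
              ?_ (by simpa using inv_mem hxi)
            · rw [conj_pow, hxp]; group
            · simpa using (inferInstance : (Subgroup.upperCentralSeries (R ⧸ B) (i + 1)).Normal).conj_mem
                _ hxi (q y)
          · rw [map_commutatorElement, ← commutatorElement_inv, inv_mem_iff]
            exact (Subgroup.mem_upperCentralSeries_succ_iff.mp hxi) (q y)
        have hcen : ∀ z ∈ H, Commute ⁅y, x⁆ z := by
          intro z hz
          induction hz using closure_induction with
          | mem z hz =>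
            rcases hz with rfl | rfl
            · exact hxB _ hc
            · exact hyB _ hc
          | one => exact Commute.one_right _
          | mul a b _ _ ha hb => exact ha.mul_right hb
          | inv a _ ha => exact ha.inv_right
        have := mul_pow_eq_one (R := H) (x := ⟨x, hxH⟩) (y := ⟨y, hyH⟩) hp2
          (fun z => Subtype.ext (hcen z z.2)) (Subtype.ext hxp) (Subtype.ext hyp)
        simpa using congrArg Subtype.val this
      intro x hxB hxp hxi
      -- `x` is central modulo `B`
      have hxc : ∀ g : R, ⁅g, x⁆ ∈ B := by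
        intro g
        have hgB : g * x * g⁻¹ ∈ centralizer (B : Set R) := by
          intro b hb
          have := hxB _ (hBn.conj_mem b hb g⁻¹)
          rw [inv_inv] at this
          calc b * (g * x * g⁻¹) = g * ((g⁻¹ * b * g) * x) * g⁻¹ := by group
            _ = g * (x * (g⁻¹ * b * g)) * g⁻¹ := by rw [this]
            _ = g * x * g⁻¹ * b := by group
        refine ih ⁅g, x⁆ (mul_mem hgB (inv_mem hxB)) ?_ ?_
        · refine hpair _ _ _ le_rfl hgB (inv_mem hxB) ?_ (by simp [hxp]) ?_
            (by simpa using inv_mem hxi)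
          · rw [conj_pow, hxp]; group
          · simpa using (inferInstance : (Subgroup.upperCentralSeries (R ⧸ B) (i + 1)).Normal).conj_mem
              _ hxi (q g)
        · rw [map_commutatorElement, ← commutatorElement_inv, inv_mem_iff]
          exact (Subgroup.mem_upperCentralSeries_succ_iff.mp hxi) (q g)
      set C := B ⊔ zpowers x with hC
      have hCn : C.Normal := by
        constructor
        intro c hc g
        have hgen : C ≤ C.comap (MulAut.conj g).toMonoidHom := by
          refine sup_le (fun b hb => mem_sup_left (hBn.conj_mem b hb g)) (zpowers_le.mpr ?_)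
          show g * x * g⁻¹ ∈ C
          rw [show g * x * g⁻¹ = ⁅g, x⁆ * x by rw [commutatorElement_def]; group]
          exact mul_mem (mem_sup_left (hxc g)) (mem_sup_right (mem_zpowers x))
        exact hgen hc
      have hCe : Cfsg.IsElementaryAbelian p C := by
        have hmem : ∀ c ∈ C, ∃ b ∈ B, ∃ k : ℤ, b * x ^ k = c := by
          intro c hc
          rw [hC, ← SetLike.mem_coe, Subgroup.normal_mul] at hc
          obtain ⟨b, hb, _, ⟨k, rfl⟩, rfl⟩ := hc
          exact ⟨b, hb, k, rfl⟩
        have hxb : ∀ b ∈ B, ∀ k : ℤ, Commute b (x ^ k) := fun b hb k =>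
          Commute.zpow_right (hxB b hb) k
        haveI := hB.1
        have hbb : ∀ b ∈ B, ∀ b' ∈ B, Commute b b' := fun b hb b' hb' =>
          setLike_mul_comm (s := B) hb hb'
        refine ⟨⟨⟨?_⟩⟩, ?_⟩
        · rintro ⟨c, hc⟩ ⟨d, hd⟩
          obtain ⟨b, hb, k, rfl⟩ := hmem c hc
          obtain ⟨b', hb', l, rfl⟩ := hmem d hd
          exact Subtype.ext (((hbb b hb b' hb').mul_right (hxb b hb l)).mul_left
            ((hxb b' hb' k).symm.mul_right ((Commute.refl x).zpow_zpow k l)))
        · intro c hc
          obtain ⟨b, hb, k, rfl⟩ := hmem c hc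
          rw [(hxb b hb k).mul_pow, hB.2 b hb, one_mul, ← zpow_natCast, zpow_comm, zpow_natCast,
            hxp, one_zpow]
      exact (hmax C hCn hCe le_sup_left) ▸ mem_sup_right (mem_zpowers x)
  haveI := (hR.to_quotient B).isNilpotent
  obtain ⟨n, hn⟩ := Group.IsNilpotent.nilpotent' (G := R ⧸ B)
  exact key n x hx hxp (hn ▸ mem_top _)

/-- A normal elementary abelian subgroup lies in a maximal one. -/
theorem exists_maximalNormalElem [Finite R] {B₀ : Subgroup R} [B₀.Normal]
    (hB₀ : Cfsg.IsElementaryAbelian p B₀) :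
    ∃ B : Subgroup R, B₀ ≤ B ∧ B.Normal ∧ Cfsg.IsElementaryAbelian p B ∧
      ∀ C : Subgroup R, C.Normal → Cfsg.IsElementaryAbelian p C → B ≤ C → C = B := by
  obtain ⟨B, ⟨h1, h2, h3⟩, hmax⟩ := Set.Finite.exists_maximal
    (s := {B : Subgroup R | B₀ ≤ B ∧ B.Normal ∧ Cfsg.IsElementaryAbelian p B})
    (Set.toFinite _) ⟨B₀, le_rfl, inferInstance, hB₀⟩
  exact ⟨B, h1, h2, h3, fun C hC hCe hle =>
    le_antisymm (hmax ⟨h1.trans hle, hC, hCe⟩ hle) hle⟩

theorem isElementaryAbelian_bot : Cfsg.IsElementaryAbelian p (⊥ : Subgroup R) :=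
  ⟨⟨⟨fun a b => Subtype.ext (by simp [mem_bot.mp a.2, mem_bot.mp b.2])⟩⟩,
    fun a ha => by simp [mem_bot.mp ha]⟩

/-- The order of an elementary abelian subgroup is a power of `p`. -/
theorem card_elementary_eq_pow [Finite R] [Fact p.Prime] {A : Subgroup R}
    (h : ∀ a ∈ A, a ^ p = 1) : ∃ n, Nat.card A = p ^ n :=
  IsPGroup.iff_card.mp fun a => ⟨1, by ext; simp [h a a.2]⟩

/-- A normal subgroup of a `p`-group contains normal subgroups of every smaller `p`-power order. -/
theorem exists_normal_card_le [Finite R] [hp : Fact p.Prime] (hR : IsPGroup p R)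
    (N : Subgroup R) [N.Normal] : ∀ k : ℕ, p ^ k ≤ Nat.card N →
      ∃ M : Subgroup R, M.Normal ∧ M ≤ N ∧ Nat.card M = p ^ k := by
  intro k
  induction k with
  | zero => exact fun _ => ⟨⊥, inferInstance, bot_le, by simp⟩
  | succ k ih =>
    intro h
    obtain ⟨M, hM, hMN, hcard⟩ := ih ((Nat.pow_le_pow_right hp.out.pos k.le_succ).trans h)
    haveI := hM
    haveI : (N.map (QuotientGroup.mk' M)).Normal :=
      (inferInstance : N.Normal).map _ (QuotientGroup.mk'_surjective M)
    have hne : N.map (QuotientGroup.mk' M) ≠ ⊥ := by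
      rw [Ne, Subgroup.map_eq_bot_iff, QuotientGroup.ker_mk']
      intro hle
      have h1 := Subgroup.card_le_of_le hle
      have h2 : p ^ k < p ^ (k + 1) := Nat.pow_lt_pow_right hp.out.one_lt k.lt_add_one
      omega
    obtain ⟨w, hwN, hwc, hwo⟩ := exists_central_orderOf_prime (hR.to_quotient M) hne
    have hzn : (zpowers w).Normal := ⟨fun x hx g => by
      rwa [(mem_center_iff.mp (zpowers_le.mpr hwc hx) g), mul_inv_cancel_right]⟩
    refine ⟨(zpowers w).comap (QuotientGroup.mk' M), hzn.comap _, ?_, ?_⟩
    · refine (comap_mono (zpowers_le.mpr hwN)).trans ?_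
      rw [comap_map_eq, QuotientGroup.ker_mk', sup_eq_left.mpr hMN]
    · show Nat.card (QuotientGroup.mk ⁻¹' (zpowers w : Set (R ⧸ M))) = _
      rw [Nat.card_congr (QuotientGroup.preimageMkEquivSubgroupProdSet M _), Nat.card_prod, hcard,
        SetLike.coe_sort_coe, Nat.card_zpowers, hwo, pow_succ]

/-- A `p`-group all of whose normal elementary abelian subgroups have order at most `p²` has
rank at most two (`p` odd). -/
theorem pRankLE_two_of_normal_le [Finite R] [hp : Fact p.Prime] (hp2 : p ≠ 2) (hR : IsPGroup p R)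
    (h : ∀ A : Subgroup R, A.Normal → Cfsg.IsElementaryAbelian p A → Nat.card A ≤ p ^ 2) :
    Cfsg.PRankLE p 2 R := by
  obtain ⟨B, -, hBn, hB, hmax⟩ := exists_maximalNormalElem (R := R) (B₀ := ⊥)
    (isElementaryAbelian_bot (p := p))
  have hBcard := h B hBn hB
  intro X hXc hXp
  set D := X ⊓ centralizer (B : Set R)
  have hDB : D ≤ B := fun x hx =>
    mem_of_commute_maximalNormalElem hp2 hR hB hmax hx.2 (hXp x hx.1)
  have hrel : (centralizer (B : Set R)).relIndex X ≤ p :=
    ((relIndex_le_of_le_right le_top (by simpa using index_ne_zero_of_finite)).trans_eq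
      (relIndex_top_right _)).trans
      (index_centralizer_le hR hB.2 hBcard)
  have hmul : Nat.card D * (centralizer (B : Set R)).relIndex X = Nat.card X := by
    rw [← inf_relIndex_left]
    exact relIndex_bot_left D ▸ relIndex_bot_left X ▸
      relIndex_mul_relIndex ⊥ D X bot_le inf_le_left
  rcases eq_or_lt_of_le hDB with heq | hlt
  · -- `B ≤ X`, so `X` centralises `B`
    haveI := hXc
    have hXC : X ≤ D := le_inf le_rfl fun x hx b hb =>
      (setLike_mul_comm (s := X) hx ((heq.ge hb).1)).symm
    exact (Subgroup.card_le_of_le (hXC.trans heq.le)).trans hBcard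
  · obtain ⟨m, hm⟩ := card_elementary_eq_pow (A := D) fun a ha => hXp a ha.1
    obtain ⟨n, hn⟩ := card_elementary_eq_pow (A := B) hB.2
    have hmn : p ^ m < p ^ n := by
      rw [← hm, ← hn]
      exact Set.ncard_lt_ncard (SetLike.coe_ssubset_coe.mpr hlt) (Set.toFinite _)
    have hm1 : m ≤ 1 := by
      have h1 := (Nat.pow_lt_pow_iff_right hp.out.one_lt).mp hmn
      have h2 : n ≤ 2 := (Nat.pow_le_pow_iff_right hp.out.one_lt).mp (hn ▸ hBcard)
      omega
    rw [← hmul, sq, hm]
    exact Nat.mul_le_mul (Nat.pow_le_pow_right hp.out.pos hm1 |>.trans_eq (pow_one p)) hrel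

/-- Rank at most two and exponent `p` (odd) give order at most `p³`. -/
theorem card_le_of_exponent [Finite R] [hp : Fact p.Prime] (hp2 : p ≠ 2)
    (hexp : ∀ x : R, x ^ p = 1) (hr : Cfsg.PRankLE p 2 R) : Nat.card R ≤ p ^ 3 := by
  have hR : IsPGroup p R := fun x => ⟨1, by simpa using hexp x⟩
  obtain ⟨B, -, hBn, hB, hmax⟩ := exists_maximalNormalElem (R := R) (B₀ := ⊥)
    (isElementaryAbelian_bot (p := p))
  have hBcard := hr B hB.1 hB.2
  have hC : centralizer (B : Set R) ≤ B := fun x hx =>
    mem_of_commute_maximalNormalElem hp2 hR hB hmax hx (hexp x)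
  rw [← card_mul_index (centralizer (B : Set R)), show p ^ 3 = p ^ 2 * p by ring]
  exact Nat.mul_le_mul ((Subgroup.card_le_of_le hC).trans hBcard)
    (index_centralizer_le hR hB.2 hBcard)

/-! ### A critical subgroup of exponent `p` -/

lemma autPow_apply {a : MulAut R} {c x : R} (hc : a c = c) (hx : a x = c * x) (n : ℕ) :
    (a ^ n) x = c ^ n * x := by
  induction n with
  | zero => simp
  | succ n ih => rw [pow_succ', MulAut.mul_apply, ih, map_mul, map_pow, hc, hx, ← mul_assoc,
      ← pow_succ]

/-- A coprime automorphism fixing a subgroup containing its own centraliser is trivial. -/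
theorem aut_eq_one_of_fix [Finite R] [hp : Fact p.Prime] (hR : IsPGroup p R) {a : MulAut R}
    (ha : (orderOf a).Coprime p) {C : Subgroup R} (hC : centralizer (C : Set R) ≤ C)
    (hfix : ∀ x ∈ C, a x = x) : a = 1 := by
  haveI := hR.isNilpotent
  set F := MonoidHom.eqLocus a.toMonoidHom (MonoidHom.id R) with hF
  have hCF : C ≤ F := fun x hx => hfix x hx
  suffices h : F = ⊤ by
    ext x
    exact (h ▸ mem_top x : x ∈ F)
  refine (normalizerCondition_iff_only_full_group_self_normalizing.mp
    Group.normalizerCondition_of_isNilpotent) F ?_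
  refine le_antisymm (fun x hx => ?_) le_normalizer
  set c := a x * x⁻¹ with hcdef
  have hcfix : a c = c := by
    refine hfix _ (hC fun y hy => ?_)
    have h2 : a (x⁻¹ * y * x) = x⁻¹ * y * x := by
      have := (mem_normalizer_iff.mp (inv_mem hx) y).mp (hCF hy)
      rw [inv_inv] at this
      exact this
    rw [map_mul, map_mul, map_inv, hfix y hy] at h2
    calc y * (a x * x⁻¹) = a x * ((a x)⁻¹ * y * a x) * x⁻¹ := by group
      _ = a x * x⁻¹ * y := by rw [h2]; group
  have h := autPow_apply hcfix (by rw [hcdef]; group : a x = c * x) (orderOf a)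
  rw [pow_orderOf_eq_one, MulAut.one_apply] at h
  have h1 : orderOf c ∣ orderOf a := orderOf_dvd_of_pow_eq_one (by simpa using h.symm)
  obtain ⟨k, hk⟩ := IsPGroup.iff_orderOf.mp hR c
  have h2 : orderOf c = 1 := Nat.eq_one_of_dvd_coprimes (ha.pow_right k) h1 (hk ▸ dvd_rfl)
  show a x = x
  exact mul_inv_eq_one.mp (orderOf_eq_one_iff.mp h2)

/-- A characteristic subgroup of exponent dividing `p` and class at most two on which all coprime
automorphisms act faithfully. -/
theorem exists_critical_exponent [Finite R] [hp : Fact p.Prime] (hp2 : p ≠ 2)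
    (hR : IsPGroup p R) : ∃ Q : Subgroup R, Q.Characteristic ∧ (∀ x ∈ Q, x ^ p = 1) ∧
      (∀ x ∈ Q, ∀ y ∈ Q, ∀ z ∈ Q, Commute ⁅x, y⁆ z) ∧
      ∀ a : MulAut R, (orderOf a).Coprime p → (∀ x ∈ Q, a x = x) → a = 1 := by
  -- a maximal characteristic abelian subgroup
  obtain ⟨D, ⟨hDc, hDab⟩, hDmax⟩ := Set.Finite.exists_maximal
    (s := {D : Subgroup R | D.Characteristic ∧ IsMulCommutative D})
    (Set.toFinite _) ⟨center R, inferInstance, inferInstance⟩
  haveI : D.Characteristic := hDc
  set q := QuotientGroup.mk' D with hq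
  -- its extension inside the centraliser, by the centre of the quotient
  set C := centralizer (D : Set R) ⊓ (center (R ⧸ D)).comap q with hC
  haveI hCc : C.Characteristic := by
    haveI : ((center (R ⧸ D)).comap q).Characteristic :=
      Characteristic.comap_quotient_mk centerCharacteristic
    exact characteristic_inf
  have hDC : D ≤ C := le_inf (le_centralizer_iff_isMulCommutative.mpr hDab) fun d hd => by
    rw [mem_comap, hq, QuotientGroup.mk'_apply, (QuotientGroup.eq_one_iff d).mpr hd]
    exact one_mem _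
  have hcommD : ∀ x ∈ C, ∀ y : R, ⁅x, y⁆ ∈ D := by
    intro x hx y
    rw [← QuotientGroup.eq_one_iff, ← QuotientGroup.mk'_apply, map_commutatorElement,
      commutatorElement_eq_one_iff_mul_comm]
    exact (mem_center_iff.mp hx.2 _).symm
  have hclass : ∀ x ∈ C, ∀ y ∈ C, ∀ z ∈ C, Commute ⁅x, y⁆ z := fun x hx y _ z hz =>
    hz.1 _ (hcommD x hx y)
  have hself : centralizer (C : Set R) ≤ C := by
    by_contra hnot
    set N := centralizer (C : Set R)
    haveI : C.Normal := inferInstance
    haveI : N.Normal := inferInstance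
    haveI : (N.map q).Normal := (inferInstance : N.Normal).map _ (QuotientGroup.mk'_surjective D)
    have hne : N.map q ≠ ⊥ := by
      rw [Ne, Subgroup.map_eq_bot_iff, hq, QuotientGroup.ker_mk']
      exact fun h => hnot (h.trans hDC)
    obtain ⟨w, hwN, hwc, hwo⟩ := exists_central_orderOf_prime (hR.to_quotient D) hne
    obtain ⟨g, hg, rfl⟩ := hwN
    have hgC : g ∈ C := ⟨fun d hd => hg d (hDC hd), hwc⟩
    -- the centre of `C` is a characteristic abelian subgroup above `D`
    have hZ : (C ⊓ N).Characteristic ∧ IsMulCommutative (C ⊓ N : Subgroup R) := by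
      refine ⟨characteristic_inf, ⟨⟨fun a b => Subtype.ext ?_⟩⟩⟩
      exact (b.2.2 a a.2.1)
    have hDZ : D ≤ C ⊓ N := le_inf hDC fun d hd c hc => (hc.1 d hd).symm
    have := hDmax hZ hDZ ⟨hgC, hg⟩
    rw [hq, QuotientGroup.mk'_apply, (QuotientGroup.eq_one_iff g).mpr this, orderOf_one] at hwo
    exact hp.out.one_lt.ne' hwo.symm
  set Q := C ⊓ { carrier := {x : R | x ∈ C ∧ x ^ p = 1}
                 one_mem' := ⟨one_mem _, one_pow _⟩
                 mul_mem' := fun {x y} hx hy => ⟨mul_mem hx.1 hy.1, by
                    have := mul_pow_eq_one (R := C) (x := ⟨x, hx.1⟩) (y := ⟨y, hy.1⟩) hp2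
                      (fun z => Subtype.ext (hclass y hy.1 x hx.1 z z.2))
                      (Subtype.ext hx.2) (Subtype.ext hy.2)
                    simpa using congrArg Subtype.val this⟩
                 inv_mem' := fun {x} hx => ⟨inv_mem hx.1, by simp [hx.2]⟩ } with hQ
  have hQmem : ∀ x, x ∈ Q ↔ x ∈ C ∧ x ^ p = 1 := fun x =>
    ⟨fun h => h.2, fun h => ⟨h.1, h⟩⟩
  refine ⟨Q, ?_, fun x hx => ((hQmem x).mp hx).2, fun x hx y hy z hz => hclass x hx.1 y hy.1 z hz.1,
    fun a ha hfix => ?_⟩
  · refine characteristic_iff_le_comap.mpr fun φ x hx => ?_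
    obtain ⟨h1, h2⟩ := (hQmem x).mp hx
    refine (hQmem _).mpr ⟨characteristic_iff_le_comap.mp hCc φ h1, ?_⟩
    show (φ x) ^ p = 1
    rw [← map_pow, h2, map_one]
  · refine aut_eq_one_of_fix hR ha hself fun x hx => ?_
    -- pass to the semidirect product with the cyclic group generated by `a`
    let φ : zpowers a →* MulAut R := (zpowers a).subtype
    haveI : Finite (R ⋊[φ] zpowers a) := Finite.of_equiv _ SemidirectProduct.equivProd.symm
    set g : R ⋊[φ] zpowers a := SemidirectProduct.inr ⟨a, mem_zpowers a⟩ with hg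
    set CG : Subgroup (R ⋊[φ] zpowers a) := C.map SemidirectProduct.inl
    have hconj : ∀ y : R, g * SemidirectProduct.inl y * g⁻¹ = SemidirectProduct.inl (a y) := by
      intro y
      rw [hg, ← map_inv]
      exact (SemidirectProduct.inl_aut _ y).symm
    have hstep : ∀ y ∈ CG, g * y * g⁻¹ ∈ CG := by
      rintro _ ⟨z, hz, rfl⟩
      exact ⟨a z, characteristic_iff_le_comap.mp hCc a hz, (hconj z).symm⟩
    have hgN : g ∈ normalizer (CG : Set _) := mem_normalizer_fintype hstep
    have hgo : (orderOf g).Coprime p := by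
      rw [hg, orderOf_injective _ SemidirectProduct.inr_injective, ← Subgroup.orderOf_coe]
      exact ha
    have := Stab.commute_of_fix_prime_order hp2 ((hR.to_subgroup C).map _) hgo hgN ?_
      _ (mem_map_of_mem SemidirectProduct.inl hx)
    · apply SemidirectProduct.inl_injective (φ := φ)
      rw [← hconj, this.eq, mul_inv_cancel_right]
    · rintro _ ⟨y, hy, rfl⟩ hyp
      rw [← map_pow, ← map_one (SemidirectProduct.inl (φ := φ))] at hyp
      have hay := hfix y ((hQmem y).mpr ⟨hy, SemidirectProduct.inl_injective hyp⟩)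
      show g * _ = _ * g
      rw [← mul_inv_eq_iff_eq_mul, hconj, hay]

end CfsgLib.OddOrder.BG4
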