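import Cfsg.Agent.OddOrder.BG4.Aut2
import Cfsg.Agent.PLocal.PSolvable
import Cfsg.Agent.Solvable.Fitting
import Cfsg.Agent.Solvable.Hall
import Cfsg.Agent.Transfer.NormalPComplement

/-!
# Solvable groups of odd order of small rank (Bender–Glauberman 4.18, 4.20)

* `pRankLE_quotient_coprime`: dividing by a normal `p'`-subgroup does not increase the `p`-rank.
* `rank_two_core`: the structure of a solvable group of odd order and `p`-rank at most two with
  trivial `O_{p'}`.
* `isNilpotent_commutator_of_rank_two`, `normal_of_char_le_commutator`,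
  `exists_char_hall_gt`: BG 4.20.
-/

namespace CfsgLib.OddOrder.BG4

open Subgroup
open scoped commutatorElement Pointwise

variable {G : Type*} [Group G] [Finite G] {p : ℕ}

theorem pRankLE_quotient_coprime [hp : Fact p.Prime] {k : ℕ} (N : Subgroup G) [N.Normal]
    (hN : ¬ p ∣ Nat.card N) (h : Cfsg.PRankLE p k G) : Cfsg.PRankLE p k (G ⧸ N) := by
  intro X hX hXp
  set Y := X.comap (QuotientGroup.mk' N) with hY
  obtain ⟨P⟩ : Nonempty (Sylow p Y) := inferInstance
  set f : (P : Subgroup Y) →* X :=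
    ((QuotientGroup.mk' N).comp (Y.subtype.comp (P : Subgroup Y).subtype)).codRestrict X
      (fun x => x.1.2) with hf
  have hinj : Function.Injective f := by
    rw [← MonoidHom.ker_eq_bot_iff, eq_bot_iff]
    intro x hx
    have hxN : ((x : Y) : G) ∈ N := (QuotientGroup.eq_one_iff _).mp (congrArg Subtype.val hx)
    have h1 : orderOf (((x : Y) : G)) ∣ Nat.card N := Subgroup.orderOf_dvd_natCard N hxN
    obtain ⟨j, hj⟩ := IsPGroup.iff_orderOf.mp P.2 x
    rw [Subgroup.orderOf_coe, Subgroup.orderOf_coe, hj] at h1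
    rcases Nat.eq_zero_or_pos j with rfl | hj0
    · rw [pow_zero, orderOf_eq_one_iff] at hj
      exact mem_bot.mpr hj
    · exact absurd ((dvd_pow_self p hj0.ne').trans h1) hN
  have hcardY : Nat.card Y = Nat.card N * Nat.card X := by
    show Nat.card (QuotientGroup.mk ⁻¹' (X : Set (G ⧸ N))) = _
    rw [Nat.card_congr (QuotientGroup.preimageMkEquivSubgroupProdSet N _), Nat.card_prod,
      SetLike.coe_sort_coe]
  have hXP : IsPGroup p X := fun x => ⟨1, Subtype.ext (by simpa using hXp x x.2)⟩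
  obtain ⟨n, hn⟩ := IsPGroup.iff_card.mp hXP
  have hcardP : Nat.card (P : Subgroup Y) = Nat.card X := by
    rw [P.card_eq_multiplicity, hcardY, hn, Nat.factorization_mul Nat.card_pos.ne'
      (pow_ne_zero _ hp.out.ne_zero), Finsupp.add_apply, Nat.factorization_eq_zero_of_not_dvd hN,
      zero_add, hp.out.factorization_pow, Finsupp.single_eq_same]
  haveI := hX
  have hc : ∀ a b : (P : Subgroup Y), a * b = b * a := fun a b => hinj (by
    rw [map_mul, map_mul]; exact mul_comm' _ _)
  have hg : Function.Injective (Y.subtype.comp (P : Subgroup Y).subtype) :=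
    Y.subtype_injective.comp (P : Subgroup Y).subtype_injective
  have hle := h ((P : Subgroup Y).map Y.subtype)
    ⟨⟨fun a b => by
      obtain ⟨_, x, hx, rfl⟩ := a
      obtain ⟨_, y, hy, rfl⟩ := b
      refine Subtype.ext ?_
      show Y.subtype x * Y.subtype y = Y.subtype y * Y.subtype x
      rw [← map_mul, ← map_mul, congrArg Subtype.val (hc ⟨x, hx⟩ ⟨y, hy⟩ :
        (⟨x, hx⟩ : (P : Subgroup Y)) * ⟨y, hy⟩ = ⟨y, hy⟩ * ⟨x, hx⟩) |> fun h => (by simpa using h :
          x * y = y * x)]⟩⟩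
    (by
      rintro _ ⟨x, hx, rfl⟩
      have : (⟨x, hx⟩ : (P : Subgroup Y)) ^ p = 1 := hinj (by
        rw [map_pow, map_one]; exact Subtype.ext (by simpa using hXp _ (f ⟨x, hx⟩).2))
      rw [← map_pow, ← map_one Y.subtype]
      exact congrArg Y.subtype (by simpa using congrArg Subtype.val this))
  rw [card_map_of_injective Y.subtype_injective, hcardP] at hle
  exact hle

omit [Finite G] in
theorem prime_ne_two {q : ℕ} (hodd : Odd (Nat.card G)) (hdvd : q ∣ Nat.card G) : q ≠ 2 := by
  rintro rfl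
  exact (Nat.not_even_iff_odd.mpr hodd) (even_iff_two_dvd.mpr hdvd)

/-- BG 4.18 for a group with trivial `O_{p'}`. -/
theorem rank_two_core [Group.IsSolvable G] [hp : Fact p.Prime] (hodd : Odd (Nat.card G))
    (hp2 : p ≠ 2) (hr : Cfsg.PRankLE p 2 G) (hO : Cfsg.pPrimeCore p G = ⊥) :
    commutator G ≤ Cfsg.pCore p G ∧ ¬ p ∣ (Cfsg.pCore p G).index ∧
      ∀ q : ℕ, q.Prime → q ∣ Nat.card G → q ≠ p → q < p := by
  set F := Cfsg.pCore p G with hF
  have hFp : IsPGroup p F := PLocal.isPGroup_pCore p G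
  have hC : centralizer (F : Set G) ≤ F :=
    PLocal.centralizer_pCore_le PLocal.isPSolvable_of_isSolvable hO
  set φ : G →* MulAut F := MulAut.conjNormal with hφ
  have hker : φ.ker ≤ F := by
    intro g hg
    refine hC fun x hx => ?_
    have := congrArg Subtype.val (DFunLike.congr_fun (MonoidHom.mem_ker.mp hg) ⟨x, hx⟩)
    rw [MulAut.conjNormal_apply] at this
    simp only [MulAut.one_apply] at this
    calc x * g = g * x * g⁻¹ * g := by rw [this]
      _ = g * x := by group
  have hrF : Cfsg.PRankLE p 2 F := pRankLE_subgroup F hr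
  have hcomm : commutator G ≤ F := by
    refine PLocal.le_pCore ?_
    rintro ⟨x, hx⟩
    obtain ⟨k, hk⟩ := isPGroup_map_commutator hp2 hFp hrF hodd φ ⟨φ x, mem_map_of_mem φ hx⟩
    have hxk : φ (x ^ p ^ k) = 1 := by
      rw [map_pow]
      simpa using congrArg Subtype.val hk
    obtain ⟨l, hl⟩ := hFp ⟨x ^ p ^ k, hker hxk⟩
    refine ⟨k + l, Subtype.ext ?_⟩
    have h2 := congrArg Subtype.val hl
    simp only [SubmonoidClass.coe_pow, OneMemClass.coe_one] at h2 ⊢
    rw [pow_add, pow_mul]
    exact h2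
  refine ⟨hcomm, fun hdvd => ?_, fun q hq hdvd hqp => ?_⟩
  · haveI : IsMulCommutative (G ⧸ F) :=
      (Subgroup.Normal.quotient_commutative_iff_commutator_le (N := F)).mpr hcomm
    rw [index_eq_card] at hdvd
    obtain ⟨g, hg⟩ := exists_prime_orderOf_dvd_card' p hdvd
    haveI : (zpowers g).Normal := ⟨fun x hx y => by rwa [mul_comm' y x, mul_inv_cancel_right]⟩
    have hle : zpowers g ≤ Cfsg.pCore p (G ⧸ F) :=
      PLocal.le_pCore (IsPGroup.of_card (n := 1) (by rw [Nat.card_zpowers, hg, pow_one]))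
    rw [PLocal.pCore_quotient_pCore_eq_bot] at hle
    have := mem_bot.mp (hle (mem_zpowers g))
    rw [this, orderOf_one] at hg
    exact hp.out.one_lt.ne hg
  · haveI : Fact q.Prime := ⟨hq⟩
    obtain ⟨g, hg⟩ := exists_prime_orderOf_dvd_card' q hdvd
    have hφg : orderOf (φ g) = q := by
      refine ((Nat.dvd_prime hq).mp (hg ▸ orderOf_map_dvd φ g)).resolve_left fun h => ?_
      obtain ⟨k, hk⟩ := IsPGroup.iff_orderOf.mp hFp ⟨g, hker (orderOf_eq_one_iff.mp h)⟩
      rw [← Subgroup.orderOf_coe] at hk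
      simp only at hk
      rw [hg] at hk
      rcases Nat.eq_zero_or_pos k with rfl | hk0
      · exact hq.ne_one (by simpa using hk)
      · exact hqp ((Nat.prime_dvd_prime_iff_eq hp.out hq).mp (hk ▸ dvd_pow_self p hk0.ne')).symm
    exact (prime_dvd_card_aut hp2 hFp hrF hq hqp (hφg ▸ orderOf_dvd_natCard (φ g))).2

/-- The hypothesis of BG 4.20 in the form used below. -/
theorem pCore_rank_le (hr : Cfsg.RankLE 2 G ∨ Cfsg.RankLE 2 (Cfsg.fittingSubgroup G))
    (r : ℕ) [hrp : Fact r.Prime] : Cfsg.PRankLE r 2 (Cfsg.pCore r G) := by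
  rcases hr with h | h
  · exact pRankLE_subgroup _ (h r hrp.out)
  · exact pRankLE_of_injective _ (inclusion_injective (Solvable.pCore_le_fittingSubgroup r))
      (h r hrp.out)

/-- In the situation of BG 4.20, a `q`-element of `G'`, or of `G` with `q > r`, centralises `O_r(G)`. -/
theorem mem_centralizer_pCore [Group.IsSolvable G] (hodd : Odd (Nat.card G))
    (hr : Cfsg.RankLE 2 G ∨ Cfsg.RankLE 2 (Cfsg.fittingSubgroup G)) {r q : ℕ} [hrp : Fact r.Prime]
    [hqp : Fact q.Prime] (hne : r ≠ q) {x : G} (hx : IsPGroup q (zpowers x))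
    (hcond : x ∈ commutator G ∨ r < q) : x ∈ centralizer (Cfsg.pCore r G : Set G) := by
  set F := Cfsg.pCore r G with hFdef
  haveI : F.Normal := Cfsg.pCore_normal r G
  by_cases hrd : r ∣ Nat.card G
  swap
  · rw [hFdef, Solvable.pCore_eq_bot_of_not_dvd hrd]
    exact fun y hy => by simp [mem_bot.mp hy]
  have hr2 := prime_ne_two hodd hrd
  set φ : G →* MulAut F := MulAut.conjNormal with hφ
  suffices h : φ x = 1 by
    intro y hy
    have := congrArg Subtype.val (DFunLike.congr_fun h ⟨y, hy⟩)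
    rw [MulAut.conjNormal_apply] at this
    simp only [MulAut.one_apply] at this
    calc y * x = x * y * x⁻¹ * x := by rw [this]
      _ = x * y := by group
  obtain ⟨j, hj⟩ := IsPGroup.iff_orderOf.mp hx ⟨x, mem_zpowers x⟩
  rw [← Subgroup.orderOf_coe] at hj
  simp only at hj
  have hdvd : orderOf (φ x) ∣ q ^ j := hj ▸ orderOf_map_dvd φ x
  have hFr := pCore_rank_le hr r
  have hFp : IsPGroup r F := PLocal.isPGroup_pCore r G
  rw [← orderOf_eq_one_iff]
  rcases hcond with hx' | hlt
  · obtain ⟨k, hk⟩ := IsPGroup.iff_orderOf.mp (isPGroup_map_commutator hr2 hFp hFr hodd φ)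
      ⟨φ x, mem_map_of_mem φ hx'⟩
    rw [← Subgroup.orderOf_coe] at hk
    simp only at hk
    exact Nat.eq_one_of_dvd_coprimes
      (Nat.coprime_pow_primes k j hrp.out hqp.out hne) (hk ▸ dvd_rfl) hdvd
  · obtain ⟨i, -, hi⟩ := (Nat.dvd_prime_pow hqp.out).mp hdvd
    rcases Nat.eq_zero_or_pos i with rfl | hi0
    · simpa using hi
    · have := (prime_dvd_card_aut hr2 hFp hFr hqp.out hne.symm
        ((dvd_pow_self q hi0.ne').trans (hi ▸ orderOf_dvd_natCard (φ x)))).2
      omega

/-- The Sylow subgroups, one for each prime divisor, generate: subgroup form. -/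
theorem le_of_sylow_le {D L : Subgroup G}
    (h : ∀ q : ℕ, q.Prime → ∃ Q : Sylow q D, (Q : Subgroup D).map D.subtype ≤ L) : D ≤ L := by
  choose Q hQ using h
  have htop := Solvable.iSup_sylow_eq_top (G := D)
    (fun q => Q (q : ℕ) (Nat.prime_of_mem_primeFactors q.2))
  have h1 := congrArg (Subgroup.map D.subtype) htop
  rw [Subgroup.map_iSup, ← MonoidHom.range_eq_map, range_subtype] at h1
  refine h1.ge.trans (iSup_le fun q => hQ q (Nat.prime_of_mem_primeFactors q.2))

/-- BG 4.20: the derived group is nilpotent. -/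
theorem isNilpotent_commutator_of_rank_two [Group.IsSolvable G] (hodd : Odd (Nat.card G))
    (hr : Cfsg.RankLE 2 G ∨ Cfsg.RankLE 2 (Cfsg.fittingSubgroup G)) :
    Group.IsNilpotent (commutator G) := by
  set D := commutator G with hD
  set F := Cfsg.fittingSubgroup G with hFdef
  haveI : F.Normal := Solvable.fittingSubgroup_normal
  refine (Group.isNilpotent_of_finite_tfae.out 0 3).mpr fun q hq Q => ?_
  haveI := hq
  set Qg := (Q : Subgroup D).map D.subtype with hQg
  -- a `q`-element of `D` moves elements of `F` into `O_q(G)` only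
  have hxF : ∀ x ∈ D, IsPGroup q (zpowers x) → ∀ z ∈ F, ⁅x, z⁆ ∈ Cfsg.pCore q G := by
    intro x hx hxp z hz
    rw [← QuotientGroup.eq_one_iff, ← QuotientGroup.mk'_apply, map_commutatorElement,
      commutatorElement_eq_one_iff_mul_comm]
    set π := QuotientGroup.mk' (Cfsg.pCore q G)
    suffices h : F ≤ (centralizer ({π x} : Set _)).comap π from
      (mem_centralizer_singleton_iff.mp (h hz)).symm
    rw [hFdef, Solvable.fittingSubgroup_eq_iSup]
    refine iSup_le fun r w hw => ?_
    haveI : Fact (r : ℕ).Prime := ⟨r.2⟩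
    rw [mem_comap, mem_centralizer_singleton_iff]
    by_cases hrq : (r : ℕ) = q
    · rw [hrq] at hw
      rw [show π w = 1 from (QuotientGroup.eq_one_iff w).mpr hw, mul_one, one_mul]
    · have := mem_centralizer_pCore hodd hr hrq hxp (Or.inl hx) w hw
      rw [← map_mul, ← map_mul, this]
  -- commutators of elements of coprime prime power order of `D` centralise `F`
  have hxy : ∀ r : ℕ, r.Prime → r ≠ q → ∀ x ∈ D, IsPGroup q (zpowers x) → ∀ y ∈ D,
      IsPGroup r (zpowers y) → ⁅y, x⁆ ∈ F := by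
    intro r hrp hrq x hx hxp y hy hyp
    haveI := Fact.mk hrp
    apply Solvable.centralizer_fittingSubgroup_le
    rw [Solvable.fittingSubgroup_eq_iSup]
    suffices h : (⨆ s : Nat.Primes, Cfsg.pCore (s : ℕ) G) ≤ centralizer ({⁅y, x⁆} : Set G) from
      fun w hw => (mem_centralizer_singleton_iff.mp (h hw))
    refine iSup_le fun s w hw => ?_
    haveI : Fact (s : ℕ).Prime := ⟨s.2⟩
    rw [mem_centralizer_singleton_iff]
    have hconj : ∀ g v : G, v ∈ Cfsg.pCore (s : ℕ) G → g * v * g⁻¹ ∈ Cfsg.pCore (s : ℕ) G :=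
      fun g v hv => (Cfsg.pCore_normal (s : ℕ) G).conj_mem v hv g
    rcases eq_or_ne (s : ℕ) q with hsq | hsq
    · -- `y` centralises
      have hyc : ∀ v ∈ Cfsg.pCore (s : ℕ) G, v * y = y * v := mem_centralizer_iff.mp
        (mem_centralizer_pCore hodd hr (r := (s : ℕ)) (q := r) (hsq ▸ hrq.symm) hyp (Or.inl hy))
      have h1 := hyc _ (hconj x⁻¹ w hw)
      rw [inv_inv] at h1
      rw [commutatorElement_def]
      calc w * (y * x * y⁻¹ * x⁻¹) = y * (x * (x⁻¹ * w * x)) * y⁻¹ * x⁻¹ := by
            rw [← mul_assoc, ← mul_assoc, ← mul_assoc, hyc w hw]; group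
        _ = y * x * (y⁻¹ * (y * (x⁻¹ * w * x))) * y⁻¹ * x⁻¹ := by group
        _ = y * x * y⁻¹ * x⁻¹ * w := by rw [← h1]; group
    · have hxc : ∀ v ∈ Cfsg.pCore (s : ℕ) G, v * x = x * v := mem_centralizer_iff.mp
        (mem_centralizer_pCore hodd hr (r := (s : ℕ)) (q := q) hsq hxp (Or.inl hx))
      have h1 := hxc _ (hconj y⁻¹ w hw)
      rw [inv_inv] at h1
      rw [commutatorElement_def]
      calc w * (y * x * y⁻¹ * x⁻¹) = y * ((y⁻¹ * w * y) * x) * y⁻¹ * x⁻¹ := by group
        _ = y * x * y⁻¹ * (w * x⁻¹) := by rw [h1]; group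
        _ = y * x * y⁻¹ * (x⁻¹ * (x * w) * x⁻¹) := by group
        _ = y * x * y⁻¹ * x⁻¹ * w := by rw [← hxc w hw]; group
  have helem : ∀ {r : ℕ} [Fact r.Prime] (S : Sylow r D) {y : G},
      y ∈ (S : Subgroup D).map D.subtype → IsPGroup r (zpowers y) :=
    fun S _ hy => (S.2.map _).to_le (zpowers_le.mpr hy)
  have hOq : Cfsg.pCore q G ⊓ D ≤ Qg := by
    intro z hz
    have hn : ((Cfsg.pCore q G).subgroupOf D).Normal := (Cfsg.pCore_normal q G).subgroupOf D
    have hle : (Cfsg.pCore q G).subgroupOf D ≤ (Q : Subgroup D) :=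
      (PLocal.le_pCore ((PLocal.isPGroup_pCore q G).comap_of_injective
        D.subtype D.subtype_injective)).trans (PLocal.pCore_le_sylow Q)
    exact ⟨⟨z, hz.2⟩, hle hz.1, rfl⟩
  set M := Qg ⊔ (F ⊓ D) with hM
  have hnormQ : M ≤ normalizer (Qg : Set G) := by
    refine sup_le le_normalizer fun z hz => ?_
    refine mem_normalizer_fintype fun v hv => ?_
    have hvD : v ∈ D := map_subtype_le _ hv
    have h1 : ⁅v, z⁆ ∈ Qg := hOq ⟨hxF v hvD (helem Q hv) z hz.1,
      D.mul_mem (D.mul_mem (D.mul_mem hvD hz.2) (D.inv_mem hvD)) (D.inv_mem hz.2)⟩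
    have h2 : z * v * z⁻¹ = (⁅v, z⁆)⁻¹ * v := by rw [commutatorElement_def]; group
    exact h2 ▸ mul_mem (inv_mem h1) hv
  suffices h : D ≤ normalizer (Qg : Set G) by
    rw [← normalizer_eq_top_iff, eq_top_iff]
    intro d _
    refine mem_normalizer_fintype fun v hv => ?_
    obtain ⟨w, hw, hwe⟩ := (mem_normalizer_iff.mp (h d.2) (v : G)).mp (mem_map_of_mem _ hv)
    have : w = d * v * d⁻¹ := Subtype.ext hwe
    exact this ▸ hw
  refine le_of_sylow_le fun r hrp => ?_
  haveI := Fact.mk hrp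
  by_cases hrq : r = q
  · subst hrq
    exact ⟨Q, le_normalizer⟩
  obtain ⟨S⟩ : Nonempty (Sylow r D) := inferInstance
  refine ⟨S, fun y hy => mem_normalizer_fintype fun v hv => ?_⟩
  have hvD : v ∈ D := map_subtype_le _ hv
  have hyD : y ∈ D := map_subtype_le _ hy
  have hc := hxy r hrp hrq v hvD (helem Q hv) y hyD (helem S hy)
  have hwM : y * v * y⁻¹ ∈ M := by
    rw [show y * v * y⁻¹ = ⁅y, v⁆ * v by rw [commutatorElement_def]; group]
    refine mul_mem (mem_sup_right ⟨hc, ?_⟩) (mem_sup_left hv)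
    rw [commutatorElement_def]
    exact D.mul_mem (D.mul_mem (D.mul_mem hyD hvD) (D.inv_mem hyD)) (D.inv_mem hvD)
  have hwp : IsPGroup q (zpowers (y * v * y⁻¹)) := by
    have := (helem Q hv).map (MulAut.conj y).toMonoidHom
    rwa [MonoidHom.map_zpowers] at this
  have hsup : IsPGroup q (zpowers (y * v * y⁻¹) ⊔ Qg : Subgroup G) :=
    hwp.to_sup_of_normal_right' (Q.2.map _) (zpowers_le.mpr (hnormQ hwM))
  have hle : zpowers (y * v * y⁻¹) ⊔ Qg ≤ D :=
    sup_le (zpowers_le.mpr (mul_mem (mul_mem hyD hvD) (inv_mem hyD))) (map_subtype_le _)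
  have heq := Q.is_maximal' (hsup.comap_of_injective D.subtype D.subtype_injective)
    (fun w hw => mem_sup_right (mem_map_of_mem _ hw))
  refine ⟨⟨_, hle (mem_sup_left (mem_zpowers _))⟩, heq ▸ ?_, rfl⟩
  exact mem_sup_left (mem_zpowers _)

/-- A Sylow subgroup of `G'` lies in the corresponding core of `G`, in the situation of BG 4.20. -/
theorem sylow_commutator_le_pCore [Group.IsSolvable G] (hodd : Odd (Nat.card G))
    (hr : Cfsg.RankLE 2 G ∨ Cfsg.RankLE 2 (Cfsg.fittingSubgroup G)) {r : ℕ} [hrp : Fact r.Prime]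
    (Q : Sylow r (commutator G)) :
    (Q : Subgroup (commutator G)).map (commutator G).subtype ≤ Cfsg.pCore r G := by
  have htfae := (Group.isNilpotent_of_finite_tfae (G := commutator G)).out 0 3
  have hQn : (Q : Subgroup (commutator G)).Normal :=
    htfae.mp (isNilpotent_commutator_of_rank_two hodd hr) r hrp Q
  haveI : (Q : Subgroup (commutator G)).Characteristic := Q.characteristic_of_normal hQn
  haveI : ((Q : Subgroup (commutator G)).map (commutator G).subtype).Normal :=
    PLocal.normal_map_subtype _ _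
  exact PLocal.le_pCore (Q.2.map _)

/-- BG 4.20: a characteristic subgroup of a Sylow subgroup `S` lying in `S'` is normal in `G`. -/
theorem normal_of_char_le_commutator [Group.IsSolvable G] (hodd : Odd (Nat.card G))
    (hr : Cfsg.RankLE 2 G ∨ Cfsg.RankLE 2 (Cfsg.fittingSubgroup G)) {q : ℕ} [hq : Fact q.Prime]
    (S : Sylow q G) (T : Subgroup (S : Subgroup G)) [T.Characteristic]
    (hT : T.map (S : Subgroup G).subtype ≤ ⁅(S : Subgroup G), (S : Subgroup G)⁆) :
    (T.map (S : Subgroup G).subtype).Normal := by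
  set T' := T.map (S : Subgroup G).subtype with hT'
  set D := commutator G with hD
  haveI : (Cfsg.pPrimeCore q D).Characteristic := PLocal.pPrimeCoreCharacteristic q D
  set K := (Cfsg.pPrimeCore q D).map D.subtype with hK
  haveI : K.Normal := PLocal.normal_map_subtype _ _
  haveI : (Cfsg.pCore q G).Normal := Cfsg.pCore_normal q G
  -- `T` lies in `O_q(G)`
  have hTD : T' ≤ D := hT.trans (commutator_mono le_top le_top)
  have hTq : IsPGroup q T' := (S.2.to_subgroup T).map _
  have hTO : T' ≤ Cfsg.pCore q G := by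
    obtain ⟨Q, hQ⟩ := (hTq.comap_of_injective D.subtype D.subtype_injective).exists_le_sylow
    refine le_trans ?_ (sylow_commutator_le_pCore hodd hr Q)
    exact fun t ht => ⟨⟨t, hTD ht⟩, hQ ht, rfl⟩
  have hKcop : (Nat.card K).Coprime q := by
    rw [hK, card_map_of_injective D.subtype_injective]
    exact PLocal.coprime_card_pPrimeCore q D
  have hcomm : ⁅Cfsg.pCore q G, K⁆ = ⊥ := by
    refine commutator_eq_bot_of_disjoint ?_
    exact disjoint_iff.mpr (PLocal.disjoint_of_isPGroup_of_coprime (PLocal.isPGroup_pCore q G) hKcop)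
  have hKT : K ≤ normalizer (T' : Set G) := by
    intro k hk
    refine mem_normalizer_fintype fun t ht => ?_
    have := (commutator_eq_bot_iff_le_centralizer.mp hcomm) (hTO ht) k hk
    rwa [this, mul_inv_cancel_right]
  have hDle : D ≤ (S : Subgroup G) ⊔ K := by
    refine le_of_sylow_le fun r hrp => ?_
    haveI := Fact.mk hrp
    obtain ⟨Q⟩ : Nonempty (Sylow r D) := inferInstance
    refine ⟨Q, ?_⟩
    by_cases hrq : r = q
    · subst hrq
      exact ((sylow_commutator_le_pCore hodd hr Q).trans (PLocal.pCore_le_sylow S)).trans le_sup_left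
    · refine le_trans (map_mono ?_) le_sup_right
      have htfae := (Group.isNilpotent_of_finite_tfae (G := D)).out 0 3
      haveI : (Q : Subgroup D).Normal :=
        htfae.mp
          (isNilpotent_commutator_of_rank_two hodd hr) r ⟨hrp⟩ Q
      refine PLocal.le_pPrimeCore ?_
      obtain ⟨n, hn⟩ := IsPGroup.iff_card.mp Q.2
      rw [hn]
      exact ((Nat.coprime_primes hrp hq.out).mpr hrq).pow_left n
  haveI : ((S : Subgroup G) ⊔ K).Normal := Subgroup.Normal.of_commutator_le (G := G) hDle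
  have htop := Sylow.normalizer_sup_eq_top (S.subtype (N := (S : Subgroup G) ⊔ K) le_sup_left)
  rw [Sylow.coe_subtype, map_subgroupOf_eq_of_le le_sup_left, ← sup_assoc,
    sup_eq_left.mpr le_normalizer] at htop
  rw [← normalizer_eq_top_iff, eq_top_iff, ← htop]
  refine sup_le (fun g hg => mem_normalizer_fintype fun t ht => ?_) hKT
  exact Stab.map_subtype_conj_mem T hg ht

/-- BG 4.20: Sylow tower; for every `p` a characteristic Hall subgroup for the primes above `p`. -/
theorem exists_char_hall_gt [Group.IsSolvable G] (hodd : Odd (Nat.card G))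
    (hr : Cfsg.RankLE 2 G ∨ Cfsg.RankLE 2 (Cfsg.fittingSubgroup G)) (p : ℕ) :
    ∃ N : Subgroup G, N.Characteristic ∧ Cfsg.IsPiHall {q | q.Prime ∧ p < q} N := by
  set π := {q : ℕ | q.Prime ∧ p < q} with hπ
  obtain ⟨H, hH⟩ := Solvable.exists_isPiHall π G
  set V := ⨆ r : {r : Nat.Primes // (r : ℕ) ≤ p}, Cfsg.pCore ((r : Nat.Primes) : ℕ) G with hV
  have hpi : ∀ N : Subgroup G, Cfsg.IsPiSubgroup π N → ∀ _ : N.Normal, N ≤ H :=
    fun N hN _ => Solvable.le_isPiHall_of_normal hH hN
  have hHV : H ≤ centralizer (V : Set G) := by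
    refine le_of_sylow_le fun q hq => ?_
    haveI := Fact.mk hq
    obtain ⟨Q⟩ : Nonempty (Sylow q H) := inferInstance
    refine ⟨Q, fun x hx => ?_⟩
    by_cases hqH : q ∣ Nat.card H
    · have hqp : p < q := (hH.1 q hq hqH).2
      suffices h : V ≤ centralizer ({x} : Set G) from fun v hv =>
        mem_centralizer_singleton_iff.mp (h hv)
      refine iSup_le fun r w hw => ?_
      haveI : Fact ((r : Nat.Primes) : ℕ).Prime := ⟨r.1.2⟩
      have hrq : ((r : Nat.Primes) : ℕ) < q := lt_of_le_of_lt r.2 hqp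
      exact mem_centralizer_singleton_iff.mpr (mem_centralizer_iff.mp
        (mem_centralizer_pCore hodd hr hrq.ne ((Q.2.map _).to_le (zpowers_le.mpr hx))
          (Or.inr hrq)) w hw)
    · obtain ⟨y, hy, rfl⟩ := hx
      have h1 : (Q : Subgroup H) = ⊥ := PLocal.eq_bot_of_isPGroup_of_coprime Q.2
        (Nat.Coprime.coprime_dvd_left (card_subgroup_dvd_card _)
          ((hq.coprime_iff_not_dvd.mpr hqH).symm))
      rw [h1, SetLike.mem_coe, mem_bot] at hy
      subst hy
      exact one_mem _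
  have hDle : commutator G ≤ H ⊔ V := by
    refine le_of_sylow_le fun r hrp => ?_
    haveI := Fact.mk hrp
    obtain ⟨Q⟩ : Nonempty (Sylow r (commutator G)) := inferInstance
    refine ⟨Q, (sylow_commutator_le_pCore hodd hr Q).trans ?_⟩
    by_cases hrle : r ≤ p
    · exact le_trans (le_iSup (fun s : {r : Nat.Primes // (r : ℕ) ≤ p} =>
        Cfsg.pCore ((s : Nat.Primes) : ℕ) G) ⟨⟨r, hrp⟩, hrle⟩) le_sup_right
    · refine le_trans (hpi _ (fun s hs hd => ?_) (Cfsg.pCore_normal r G)) le_sup_left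
      obtain ⟨n, hn⟩ := IsPGroup.iff_card.mp (PLocal.isPGroup_pCore r G)
      rw [hn] at hd
      rw [(Nat.prime_dvd_prime_iff_eq hs hrp).mp (hs.dvd_of_dvd_pow hd)]
      exact ⟨hrp, not_le.mp hrle⟩
  have hMn : (H ⊔ V).Normal := Subgroup.Normal.of_commutator_le (G := G) hDle
  have hnorm : H ⊔ V ≤ normalizer (H : Set G) :=
    sup_le le_normalizer fun v hv => mem_normalizer_fintype fun x hx => by
      rwa [← mem_centralizer_iff.mp ((le_centralizer_iff.mp hHV) hv) x hx, mul_inv_cancel_right]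
  haveI hHn : H.Normal := by
    constructor
    intro h hh g
    haveI : (H.subgroupOf (H ⊔ V)).Normal :=
      (normal_subgroupOf_iff_le_normalizer le_sup_left).mpr hnorm
    have hle : MulAut.conj g • H ≤ H ⊔ V := by
      intro x hx
      rw [Solvable.mem_conj_smul] at hx
      have := hMn.conj_mem _ (mem_sup_left hx : g⁻¹ * x * g ∈ H ⊔ V) g
      rwa [show g * (g⁻¹ * x * g) * g⁻¹ = x by group] at this
    have hHsub : Cfsg.IsPiSubgroup π (H.subgroupOf (H ⊔ V)) := by
      intro s hs hd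
      rw [Nat.card_congr (subgroupOfEquivOfLe le_sup_left).toEquiv] at hd
      exact hH.1 s hs hd
    have h1 := Solvable.le_isPiHall_of_normal
      (Solvable.isPiHall_subgroupOf (Solvable.isPiHall_conj_smul hH g) hle) hHsub
    have h2 : H ≤ MulAut.conj g • H := fun x hx => h1 (show (⟨x, mem_sup_left hx⟩ : ↥(H ⊔ V)) ∈ _ from hx)
    have h3 : H = MulAut.conj g • H :=
      eq_of_le_of_card_ge h2 (Solvable.card_conj_smul g H).le
    rw [h3]
    exact Solvable.conj_mem_conj_smul hh
  refine ⟨H, characteristic_iff_map_le.mpr fun φ => ?_, hH⟩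
  refine hpi _ ?_ (hHn.map _ φ.surjective)
  intro s hs hd
  rw [card_map_of_injective φ.injective] at hd
  exact hH.1 s hs hd

end CfsgLib.OddOrder.BG4
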