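import Cfsg.Agent.OddOrder.BG4.Omega

/-!
# Metacyclic `p`-groups, `p` odd (Bender–Glauberman 4.3, 4.4, 4.11)

* `exists_pow_mul`, `exists_mul_pow_eq`, `exists_pow_eq_mul_pow`: the `p`-th power map near a cyclic
  normal subgroup; products of `p`-th powers are `p`-th powers when the derived group is cyclic.
* `isMetacyclic_of_agemo`, `isMetacyclic_of_card_pow_eq_one`: Huppert's criterion.
* `agemo_facts_of_isMetacyclic`: a metacyclic group has cyclic derived group and agemo of index
  at most `p²`.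
* `card_pow_eq_one_of_isMetacyclic`: a metacyclic noncyclic group has exactly `p²` elements with
  `x ^ p = 1`, forming a subgroup.
-/

namespace CfsgLib.OddOrder.BG4

open Subgroup
open scoped commutatorElement

universe u

variable {R : Type u} [Group R] {p : ℕ}

/-- The subgroup generated by `p`-th powers. -/
def agemo (p : ℕ) (R : Type*) [Group R] : Subgroup R := closure (Set.range fun x : R => x ^ p)

theorem pow_mem_agemo (x : R) : x ^ p ∈ agemo p R := subset_closure ⟨x, rfl⟩

instance agemo_normal_inst : (agemo p R).Normal :=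
  ⟨fun n hn g => by
    have h : agemo p R ≤ (agemo p R).comap (MulAut.conj g).toMonoidHom := by
      rw [agemo, closure_le]
      rintro _ ⟨x, rfl⟩
      refine (?_ : g * x ^ p * g⁻¹ ∈ closure (Set.range fun x : R => x ^ p))
      rw [← conj_pow]
      exact subset_closure ⟨_, rfl⟩
    exact h hn⟩

theorem agemo_le_frattini [Finite R] [Fact p.Prime] (hR : IsPGroup p R) :
    agemo p R ≤ frattini R := by
  rw [agemo, closure_le]
  rintro _ ⟨x, rfl⟩
  exact (Stab.frattini_facts hR).2.1 x

theorem eq_one_of_mem_zpowers_pow [Finite R] [hp : Fact p.Prime] (hR : IsPGroup p R) {g : R}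
    (h : g ∈ zpowers (g ^ p)) : g = 1 := by
  obtain ⟨k, hk⟩ := mem_zpowers_iff.mp h
  obtain ⟨j, hj⟩ := IsPGroup.iff_orderOf.mp hR g
  rcases Nat.eq_zero_or_pos j with rfl | hj0
  · exact orderOf_eq_one_iff.mp (by simpa using hj)
  · have h1 : g ^ ((p : ℤ) * k - 1) = 1 := by
      rw [zpow_sub, zpow_mul, zpow_natCast, hk, zpow_one, mul_inv_cancel]
    have h2 := orderOf_dvd_iff_zpow_eq_one.mpr h1
    rw [hj] at h2
    have h3 : (p : ℤ) ∣ (p : ℤ) * k - 1 :=
      (dvd_pow_self (p : ℤ) hj0.ne').trans (by exact_mod_cast h2)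
    have h4 : (p : ℤ) ∣ 1 := by simpa using (dvd_mul_right (p : ℤ) k).sub h3
    exact absurd (Int.eq_one_of_dvd_one (by positivity) h4) (by exact_mod_cast hp.out.ne_one)

section CyclicNormal

variable [Finite R] [hp : Fact p.Prime]

theorem exists_conj_exponent (hR : IsPGroup p R) (C : Subgroup R) [C.Normal] [IsCyclic C] (u : R) :
    ∃ t : ℤ, ∀ d ∈ C, u⁻¹ * d * u = d ^ (1 + (p : ℤ) * t) := by
  obtain ⟨r, hr⟩ := MonoidHom.map_cyclic (MulAut.conjNormal (H := C) u⁻¹).toMonoidHom
  have hr' : ∀ d ∈ C, u⁻¹ * d * u = d ^ r := by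
    intro d hd
    have := congrArg Subtype.val (hr ⟨d, hd⟩)
    simpa using this
  rcases eq_or_ne C ⊥ with hC | hC
  · exact ⟨0, fun d hd => by rw [hC, mem_bot] at hd; subst hd; simp⟩
  obtain ⟨z, hzC, hzc, hzo⟩ := exists_central_orderOf_prime hR hC
  have h1 : z ^ (r - 1) = 1 := by
    rw [zpow_sub, zpow_one, ← hr' z hzC, mem_center_iff.mp hzc, inv_mul_cancel_right, mul_inv_cancel]
  have h2 := orderOf_dvd_iff_zpow_eq_one.mpr h1
  rw [hzo] at h2
  obtain ⟨t, ht⟩ := h2
  exact ⟨t, fun d hd => by rw [hr' d hd]; congr 1; omega⟩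

theorem inv_conj_zpow {u d : R} {n : ℤ} : (u⁻¹ * d * u) ^ n = u⁻¹ * d ^ n * u := by
  have := conj_zpow (a := u⁻¹) (b := d) (i := n)
  rwa [inv_inv] at this

/-- For `p` odd and a cyclic normal subgroup `C`: `(u d) ^ p = u ^ p d ^ (p s)` with `p ∤ s`. -/
theorem exists_pow_mul (hp2 : p ≠ 2) (hR : IsPGroup p R) (C : Subgroup R) [C.Normal] [IsCyclic C]
    (u : R) : ∃ s : ℤ, ¬ (p : ℤ) ∣ s ∧ ∀ d ∈ C, (u * d) ^ p = u ^ p * d ^ ((p : ℤ) * s) := by
  obtain ⟨t, ht⟩ := exists_conj_exponent hR C u
  have key : ∀ n : ℕ, ∃ S : ℤ, (p : ℤ) ^ 2 ∣ S - (n + p * t * (n.choose 2 : ℕ)) ∧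
      ∀ d ∈ C, (u * d) ^ n = u ^ n * d ^ S := by
    intro n
    induction n with
    | zero => exact ⟨0, by simp, fun d _ => by simp⟩
    | succ n ih =>
      obtain ⟨S, hS, hSd⟩ := ih
      refine ⟨(1 + p * t) * S + 1, ?_, fun d hd => ?_⟩
      · obtain ⟨w, hw⟩ := hS
        refine ⟨(1 + p * t) * w + t * t * (n.choose 2 : ℕ), ?_⟩
        rw [Nat.choose_succ_succ', Nat.choose_one_right]
        push_cast
        linear_combination (1 + (p : ℤ) * t) * hw
      · rw [pow_succ, hSd d hd, pow_succ u, zpow_add, zpow_one]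
        rw [zpow_mul, ← ht d hd, inv_conj_zpow]
        group
  obtain ⟨S, ⟨w, hw⟩, hSd⟩ := key p
  obtain ⟨k2, hk2⟩ := hp.out.dvd_choose_self (k := 2) (by norm_num)
    (lt_of_le_of_ne hp.out.two_le (Ne.symm hp2))
  rw [hk2] at hw
  push_cast at hw
  refine ⟨1 + p * (t * k2 + w), fun h => ?_, fun d hd => ?_⟩
  · have h4 : (p : ℤ) ∣ 1 := (dvd_add_left (dvd_mul_right (p : ℤ) _)).mp h
    exact absurd (Int.eq_one_of_dvd_one (by positivity) h4) (by exact_mod_cast hp.out.ne_one)
  · rw [hSd d hd]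
    congr 2
    linear_combination hw

theorem exists_mul_pow_eq (hp2 : p ≠ 2) (hR : IsPGroup p R) (C : Subgroup R) [C.Normal]
    [IsCyclic C] (u : R) {d' : R} (hd' : d' ∈ C) : ∃ d ∈ C, (u * d) ^ p = u ^ p * d' ^ p := by
  obtain ⟨s, hs, hsd⟩ := exists_pow_mul hp2 hR C u
  obtain ⟨j, hj⟩ := IsPGroup.iff_orderOf.mp hR d'
  have hcop : IsCoprime ((p : ℤ) ^ j) s :=
    ((Nat.prime_iff_prime_int.mp hp.out).coprime_iff_not_dvd.mpr hs).pow_left
  obtain ⟨a, m, hm⟩ := hcop
  refine ⟨d' ^ m, C.zpow_mem hd' m, ?_⟩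
  rw [hsd _ (C.zpow_mem hd' m), ← zpow_mul, show m * ((p : ℤ) * s) = (p : ℤ) ^ j * (-(a * p)) + p by
    linear_combination (p : ℤ) * hm, zpow_add, zpow_mul, show ((p : ℤ) ^ j) = ((p ^ j : ℕ) : ℤ) by
    push_cast; rfl, zpow_natCast d' (p ^ j), ← hj, pow_orderOf_eq_one, one_zpow, one_mul,
    zpow_natCast]

/-- With cyclic derived group (`p` odd) a product of two `p`-th powers is a `p`-th power. -/
theorem exists_pow_eq_mul_pow (hp2 : p ≠ 2) (hR : IsPGroup p R) [IsCyclic (commutator R)]
    (x y : R) : ∃ z : R, z ^ p = x ^ p * y ^ p := by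
  set C := commutator R with hC
  haveI : C.Normal := inferInstance
  obtain ⟨g, hg⟩ := IsCyclic.exists_generator (α := C)
  set N := zpowers ((g : R) ^ p) with hN
  have hgen : ∀ c ∈ C, ∃ k : ℤ, (g : R) ^ k = c := fun c hc => by
    obtain ⟨k, hk⟩ := mem_zpowers_iff.mp (hg ⟨c, hc⟩)
    exact ⟨k, by simpa using congrArg Subtype.val hk⟩
  have hNn : N.Normal := by
    constructor
    intro n hn h
    obtain ⟨k, rfl⟩ := mem_zpowers_iff.mp hn
    obtain ⟨l, hl⟩ := hgen _ ((inferInstance : C.Normal).conj_mem _ g.2 h)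
    refine mem_zpowers_iff.mpr ⟨l * k, ?_⟩
    rw [← conj_zpow, ← conj_pow, ← hl, ← zpow_natCast, ← zpow_natCast, ← zpow_mul, ← zpow_mul,
      ← zpow_mul]
    ring_nf
  haveI := hNn
  set π := QuotientGroup.mk' N with hπ
  haveI : (C.map π).Normal := (inferInstance : C.Normal).map _ (QuotientGroup.mk'_surjective N)
  have hCp : ∀ c ∈ C, (π c) ^ p = 1 := by
    intro c hc
    obtain ⟨k, rfl⟩ := hgen c hc
    rw [← map_pow, hπ, QuotientGroup.mk'_apply, QuotientGroup.eq_one_iff, ← zpow_natCast,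
      ← zpow_mul, mul_comm, zpow_mul, zpow_natCast]
    exact mem_zpowers_iff.mpr ⟨k, rfl⟩
  have hmap : C.map π ≤ zpowers (π g) := by
    rintro _ ⟨c, hc, rfl⟩
    obtain ⟨k, rfl⟩ := hgen c hc
    exact mem_zpowers_iff.mpr ⟨k, (map_zpow π _ k).symm⟩
  have hcard : Nat.card (C.map π) ≤ p :=
    (Subgroup.card_le_of_le hmap).trans
      (by rw [Nat.card_zpowers]; exact orderOf_le_of_pow_eq_one hp.out.pos (hCp g g.2))
  have hcen : C.map π ≤ center (R ⧸ N) := by
    rcases ((hR.to_quotient N).to_subgroup (C.map π)).card_eq_or_dvd with h | h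
    · rw [Subgroup.card_eq_one.mp h]; exact bot_le
    · exact le_center_of_normal_card_prime (hR.to_quotient N)
        (le_antisymm hcard (Nat.le_of_dvd Nat.card_pos h))
  have hmem : ⁅y, x⁆ ∈ C := commutator_mem_commutator (mem_top y) (mem_top x)
  have hcc : ∀ w, Commute ⁅π y, π x⁆ w := fun w => by
    rw [← map_commutatorElement]
    exact (mem_center_iff.mp (hcen (mem_map_of_mem π hmem)) w).symm
  have h1 : π ((x * y) ^ p) = π (x ^ p * y ^ p) := by
    rw [map_pow, map_mul, map_mul, map_pow, map_pow, Stab.mul_pow_of_commutator_central hcc,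
      ← map_commutatorElement]
    obtain ⟨k2, hk2⟩ := hp.out.dvd_choose_self (k := 2) (by norm_num)
      (lt_of_le_of_ne hp.out.two_le (Ne.symm hp2))
    rw [hk2, pow_mul, hCp _ hmem, one_pow, mul_one]
  obtain ⟨k, hk⟩ := mem_zpowers_iff.mp (QuotientGroup.eq.mp h1)
  obtain ⟨d, -, hd⟩ := exists_mul_pow_eq hp2 hR C (x * y) (C.zpow_mem g.2 k)
  refine ⟨x * y * d, ?_⟩
  rw [hd, ← zpow_natCast ((g : R) ^ k), ← zpow_mul, mul_comm k, zpow_mul, zpow_natCast, hk]
  group

/-- Every element of `℧` is a `p`-th power when the derived group is cyclic. -/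
theorem exists_pow_eq_of_mem_agemo (hp2 : p ≠ 2) (hR : IsPGroup p R) [IsCyclic (commutator R)]
    {w : R} (hw : w ∈ agemo p R) : ∃ z : R, z ^ p = w := by
  induction hw using closure_induction with
  | mem w hw => exact hw
  | one => exact ⟨1, one_pow p⟩
  | mul a b _ _ ha hb =>
    obtain ⟨x, rfl⟩ := ha
    obtain ⟨y, rfl⟩ := hb
    exact exists_pow_eq_mul_pow hp2 hR x y
  | inv a _ ha =>
    obtain ⟨x, rfl⟩ := ha
    exact ⟨x⁻¹, inv_pow x p⟩

end CyclicNormal

/-- A nilpotent group: `N ≤ ⁅N, ⊤⁆` forces `N = ⊥`. -/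
theorem eq_bot_of_le_commutator_top [Group.IsNilpotent R] {N : Subgroup R}
    (h : N ≤ ⁅N, (⊤ : Subgroup R)⁆) : N = ⊥ := by
  have key : ∀ n, N ≤ (⊤ : Subgroup R).lowerCentralSeries n := by
    intro n
    induction n with
    | zero => exact le_top
    | succ n ih => exact h.trans (commutator_mono ih le_rfl)
  obtain ⟨n, hn⟩ := Subgroup.nilpotent_iff_lowerCentralSeries.mp (inferInstance : Group.IsNilpotent R)
  exact le_bot_iff.mp (hn ▸ key n)

/-- Two generators and `R' ≤ ℧` give a cyclic derived group (`p` odd). -/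
theorem isCyclic_commutator_of_two_gen [Finite R] [hp : Fact p.Prime] (hp2 : p ≠ 2)
    (hR : IsPGroup p R) {x y : R} (hgen : closure ({x, y} : Set R) = ⊤)
    (hle : commutator R ≤ agemo p R) : IsCyclic (commutator R) := by
  set C := commutator R with hC
  haveI : C.Normal := inferInstance
  obtain ⟨hfc, hfp, -⟩ := Stab.frattini_facts (hR.to_subgroup C)
  set M := (frattini C).map C.subtype with hM
  haveI : M.Normal := inferInstance
  set K := ⁅C, (⊤ : Subgroup R)⁆ with hK
  haveI : K.Normal := commutator_normal C ⊤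
  haveI : (⁅K, (⊤ : Subgroup R)⁆).Normal := commutator_normal K ⊤
  -- modulo `⁅K, R⁆ M` the derived group is central
  have hstep : K ≤ ⁅K, (⊤ : Subgroup R)⁆ ⊔ M := by
    set N := ⁅K, (⊤ : Subgroup R)⁆ ⊔ M with hN
    haveI : N.Normal := inferInstance
    have hCp : ∀ c ∈ C, c ^ p ∈ N := fun c hc =>
      mem_sup_right ⟨(⟨c, hc⟩ : C) ^ p, hfp _, rfl⟩
    set π := QuotientGroup.mk' N with hπ
    have hpow : ∀ w z : R, Commute (π (w ^ p)) (π z) := by
      intro w z
      set c := ⁅π w, π z⁆ with hc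
      have hcC : ⁅w, z⁆ ∈ C := commutator_mem_commutator (mem_top w) (mem_top z)
      have hac : ⁅π w, c⁆ ∈ center (R ⧸ N) := by
        rw [hc, ← map_commutatorElement, ← map_commutatorElement, mem_center_iff]
        intro v
        obtain ⟨v, rfl⟩ := QuotientGroup.mk'_surjective N v
        rw [← commutatorElement_eq_one_iff_mul_comm, ← commutatorElement_inv,
          ← map_commutatorElement, inv_eq_one, hπ, QuotientGroup.mk'_apply,
          QuotientGroup.eq_one_iff]
        refine mem_sup_left (commutator_mem_commutator ?_ (mem_top v))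
        rw [hK, commutator_comm]
        exact commutator_mem_commutator (mem_top w) hcC
      have ha : ∀ v, Commute ⁅π w, c⁆ v := fun v => (mem_center_iff.mp hac v).symm
      have hn : ∀ n : ℕ, π w ^ n * π z * (π w ^ n)⁻¹ = c ^ n * ⁅π w, c⁆ ^ n.choose 2 * π z := by
        intro n
        induction n with
        | zero => simp
        | succ n ih =>
          have h1 : π w * c * (π w)⁻¹ = ⁅π w, c⁆ * c := by
            rw [commutatorElement_def (π w) c]; group
          have h2 : π w * π z * (π w)⁻¹ = c * π z := by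
            rw [hc, commutatorElement_def]; group
          have h3 : π w * c ^ n * (π w)⁻¹ = ⁅π w, c⁆ ^ n * c ^ n := by
            rw [← conj_pow, h1, (ha c).mul_pow]
          calc π w ^ (n + 1) * π z * (π w ^ (n + 1))⁻¹
              = π w * (π w ^ n * π z * (π w ^ n)⁻¹) * (π w)⁻¹ := by rw [pow_succ']; group
            _ = (π w * c ^ n * (π w)⁻¹) * (π w * ⁅π w, c⁆ ^ n.choose 2 * (π w)⁻¹) *
                  (π w * π z * (π w)⁻¹) := by rw [ih]; group
            _ = ⁅π w, c⁆ ^ n * (c ^ n * ⁅π w, c⁆ ^ n.choose 2) * c * π z := by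
                rw [h3, h2, ← ((ha (π w)).pow_left _).eq]; group
            _ = ⁅π w, c⁆ ^ n * ⁅π w, c⁆ ^ n.choose 2 * (c ^ n * c) * π z := by
                rw [← ((ha (c ^ n)).pow_left _).eq]; group
            _ = (⁅π w, c⁆ ^ (n.choose 2 + n) * c ^ (n + 1)) * π z := by
                rw [← pow_add, add_comm n, pow_succ c n]
            _ = c ^ (n + 1) * ⁅π w, c⁆ ^ (n + 1).choose 2 * π z := by
                rw [((ha _).pow_left _).eq, Nat.choose_succ_succ', Nat.choose_one_right,
                  add_comm n (n.choose 2)]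
      have hlast := hn p
      obtain ⟨k2, hk2⟩ := hp.out.dvd_choose_self (k := 2) (by norm_num)
        (lt_of_le_of_ne hp.out.two_le (Ne.symm hp2))
      have hz : ∀ v ∈ C, π v ^ p = 1 := fun v hv => by
        rw [← map_pow, hπ, QuotientGroup.mk'_apply, QuotientGroup.eq_one_iff]
        exact hCp v hv
      rw [hk2, pow_mul, hc, ← map_commutatorElement, ← map_commutatorElement,
        hz _ hcC, hz _ (commutator_mem_commutator (mem_top w) (mem_top ⁅w, z⁆) : ⁅w, ⁅w, z⁆⁆ ∈ C),
        one_pow, one_mul, one_mul, ← map_pow, mul_inv_eq_iff_eq_mul] at hlast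
      exact hlast
    have hcen : ∀ v ∈ agemo p R, ∀ z : R, Commute (π v) (π z) := by
      intro v hv z
      induction hv using closure_induction with
      | mem v hv => obtain ⟨w, rfl⟩ := hv; exact hpow w z
      | one => rw [map_one]; exact Commute.one_left _
      | mul a b _ _ ha hb => rw [map_mul]; exact ha.mul_left hb
      | inv a _ ha => rw [map_inv]; exact ha.inv_left
    rw [hK, commutator_le]
    intro v hv z _
    rw [← QuotientGroup.eq_one_iff, ← QuotientGroup.mk'_apply, map_commutatorElement]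
    exact (hcen v (hle hv) z).commutator_eq
  have hKM : K ≤ M := by
    haveI := (hR.to_quotient M).isNilpotent
    rw [← QuotientGroup.ker_mk' M, ← Subgroup.map_eq_bot_iff]
    refine eq_bot_of_le_commutator_top ?_
    rw [← map_top_of_surjective _ (QuotientGroup.mk'_surjective M), ← map_commutator]
    refine (map_mono hstep).trans ?_
    rw [Subgroup.map_sup, (Subgroup.map_eq_bot_iff M).mpr (QuotientGroup.ker_mk' M).ge, sup_bot_eq]
  have hcC : ⁅x, y⁆ ∈ C := commutator_mem_commutator (mem_top x) (mem_top y)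
  set S := zpowers ⁅x, y⁆ ⊔ M with hS
  have hSn : S.Normal := by
    constructor
    intro v hv g
    have : S ≤ S.comap (MulAut.conj g).toMonoidHom := by
      refine sup_le (zpowers_le.mpr ?_) fun m hm => mem_sup_right
        ((inferInstance : M.Normal).conj_mem m hm g)
      show g * ⁅x, y⁆ * g⁻¹ ∈ S
      rw [show g * ⁅x, y⁆ * g⁻¹ = ⁅g, ⁅x, y⁆⁆ * ⁅x, y⁆ by
        rw [commutatorElement_def g ⁅x, y⁆]; group]
      refine mul_mem (mem_sup_right (hKM ?_)) (mem_sup_left (mem_zpowers _))
      rw [hK, commutator_comm]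
      exact commutator_mem_commutator (mem_top g) hcC
    exact this hv
  haveI := hSn
  have hcomm : Commute (QuotientGroup.mk' S x) (QuotientGroup.mk' S y) := by
    refine commutatorElement_eq_one_iff_commute.mp ?_
    rw [← map_commutatorElement, QuotientGroup.mk'_apply, QuotientGroup.eq_one_iff]
    exact mem_sup_left (mem_zpowers _)
  have hCS : C ≤ S := by
    refine Subgroup.Normal.quotient_commutative_iff_commutator_le.mp ?_
    have htop : closure ({QuotientGroup.mk' S x, QuotientGroup.mk' S y} : Set (R ⧸ S)) = ⊤ := by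
      rw [← Set.image_pair, ← MonoidHom.map_closure, hgen,
        map_top_of_surjective _ (QuotientGroup.mk'_surjective S)]
    have hc := Subgroup.isMulCommutative_closure
      (k := ({QuotientGroup.mk' S x, QuotientGroup.mk' S y} : Set (R ⧸ S))) (by
        rintro a (rfl | rfl) b (rfl | rfl)
        exacts [rfl, hcomm.eq, hcomm.eq.symm, rfl])
    exact ⟨⟨fun a b => by
      have ha : a ∈ Subgroup.closure _ := htop.ge (mem_top a)
      have hb : b ∈ Subgroup.closure _ := htop.ge (mem_top b)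
      exact congrArg Subtype.val (hc.is_comm.comm ⟨a, ha⟩ ⟨b, hb⟩)⟩⟩
  have hgenC : zpowers (⟨⁅x, y⁆, hcC⟩ : C) = ⊤ := by
    refine frattini_nongenerating (eq_top_iff.mpr ?_)
    intro v _
    have hSle : S ≤ (zpowers (⟨⁅x, y⁆, hcC⟩ : C) ⊔ frattini C).map C.subtype := by
      rw [Subgroup.map_sup, MonoidHom.map_zpowers]
      exact le_rfl
    obtain ⟨w, hw, hwv⟩ := hSle (hCS v.2)
    exact (Subtype.ext hwv : w = v) ▸ hw
  exact ⟨⟨⟨⁅x, y⁆, hcC⟩, fun v => mem_zpowers_iff.mp (hgenC.ge (mem_top v))⟩⟩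

/-- Given `h ∉ ℧` and `|R : ℧| ≤ p²`, one more element generates `R` with `h`. -/
theorem exists_gen_of_not_mem_agemo [Finite R] [hp : Fact p.Prime] (hR : IsPGroup p R)
    (hidx : (agemo p R).index ≤ p ^ 2) {h : R} (hh : h ∉ agemo p R) :
    ∃ g : R, closure ({g, h} : Set R) = ⊤ := by
  suffices hs : ∃ g : R, closure ({g, h} : Set R) ⊔ agemo p R = ⊤ by
    obtain ⟨g, hg⟩ := hs
    exact ⟨g, frattini_nongenerating (top_unique (hg.ge.trans (sup_le le_sup_left
      ((agemo_le_frattini hR).trans le_sup_right))))⟩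
  set L := zpowers h ⊔ agemo p R with hL
  by_cases htop : L = ⊤
  · exact ⟨1, top_unique (htop.ge.trans (sup_le ((zpowers_le.mpr
      (subset_closure (by simp))).trans le_sup_left) le_sup_right))⟩
  obtain ⟨g, -, hg⟩ := SetLike.exists_of_lt (lt_top_iff_ne_top.mpr htop)
  refine ⟨g, ?_⟩
  set L' := closure ({g, h} : Set R) ⊔ agemo p R with hL'
  have hLL : L ≤ L' := sup_le ((zpowers_le.mpr (subset_closure (by simp))).trans le_sup_left)
    le_sup_right
  by_contra hne
  have h1 : 1 < (agemo p R).relIndex L := by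
    refine Nat.one_lt_iff_ne_zero_and_ne_one.mpr ⟨index_ne_zero_of_finite, ?_⟩
    exact fun h' => hh (relIndex_eq_one.mp h' (mem_sup_left (mem_zpowers h)))
  have h2 : 1 < L.relIndex L' := by
    refine Nat.one_lt_iff_ne_zero_and_ne_one.mpr ⟨index_ne_zero_of_finite, ?_⟩
    exact fun h' => hg (relIndex_eq_one.mp h' (mem_sup_left (subset_closure (by simp))))
  have h3 : 1 < L'.index := by
    refine Nat.one_lt_iff_ne_zero_and_ne_one.mpr ⟨index_ne_zero_of_finite, ?_⟩
    exact fun h' => hne (index_eq_one.mp h')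
  have hmul : (agemo p R).relIndex L * L.relIndex L' * L'.index = (agemo p R).index := by
    rw [relIndex_mul_relIndex _ _ _ le_sup_right hLL, relIndex_mul_index le_sup_right]
  obtain ⟨k, hk⟩ := hR.index (agemo p R)
  have hd : ∀ d, 1 < d → d ∣ p ^ k → p ≤ d := by
    intro d hd hdd
    obtain ⟨i, -, rfl⟩ := (Nat.dvd_prime_pow hp.out).mp hdd
    exact Nat.le_self_pow (by rintro rfl; simp at hd) p
  have h4 : p * p * p ≤ p ^ 2 := by
    have e1 : (agemo p R).relIndex L ∣ p ^ k := hk ▸ hmul ▸ (dvd_mul_right _ _).mul_right _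
    have e2 : L.relIndex L' ∣ p ^ k := hk ▸ hmul ▸ (dvd_mul_left _ _).mul_right _
    have e3 : L'.index ∣ p ^ k := hk ▸ hmul ▸ dvd_mul_left _ _
    refine le_trans ?_ hidx
    rw [← hmul]
    exact Nat.mul_le_mul (Nat.mul_le_mul (hd _ h1 e1) (hd _ h2 e2)) (hd _ h3 e3)
  have := hp.out.two_le
  nlinarith

/-- A group of order at most `p²` in a `p`-group context is commutative. -/
theorem commute_of_card_le_sq [Finite R] [hp : Fact p.Prime] (hR : IsPGroup p R)
    (h : Nat.card R ≤ p ^ 2) (a b : R) : Commute a b := by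
  obtain ⟨n, hn⟩ := IsPGroup.iff_card.mp hR
  have hn2 := (Nat.pow_le_pow_iff_right hp.out.one_lt).mp (hn ▸ h)
  interval_cases n
  · haveI : Subsingleton R := (Nat.card_eq_one_iff_unique.mp (by simpa using hn)).1
    exact Subsingleton.elim _ _
  · haveI : IsCyclic R := isCyclic_of_prime_card (p := p) (by simpa using hn)
    obtain ⟨g, hg⟩ := IsCyclic.exists_generator (α := R)
    obtain ⟨k, rfl⟩ := mem_zpowers_iff.mp (hg a)
    obtain ⟨l, rfl⟩ := mem_zpowers_iff.mp (hg b)
    exact (Commute.refl g).zpow_zpow k l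
  · exact IsPGroup.commutative_of_card_eq_prime_sq hn a b

theorem commutator_le_agemo [Finite R] [hp : Fact p.Prime] (hR : IsPGroup p R)
    (hidx : (agemo p R).index ≤ p ^ 2) : commutator R ≤ agemo p R :=
  Subgroup.Normal.quotient_commutative_iff_commutator_le.mp
    ⟨⟨fun a b => (commute_of_card_le_sq (hR.to_quotient _) (by rwa [← index_eq_card]) a b).eq⟩⟩

theorem isCyclic_commutator_of_agemo [Finite R] [hp : Fact p.Prime] (hp2 : p ≠ 2)
    (hR : IsPGroup p R) (hidx : (agemo p R).index ≤ p ^ 2) : IsCyclic (commutator R) := by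
  by_cases htop : agemo p R = ⊤
  · have h1 : (⊤ : Subgroup R) ≤ frattini R := htop.ge.trans (agemo_le_frattini hR)
    have hbot : (⊥ : Subgroup R) = ⊤ :=
      frattini_nongenerating (top_unique (h1.trans le_sup_right))
    haveI : Subsingleton R := ⟨fun a b =>
      (mem_bot.mp (hbot.ge (mem_top a))).trans (mem_bot.mp (hbot.ge (mem_top b))).symm⟩
    infer_instance
  obtain ⟨h, -, hh⟩ := SetLike.exists_of_lt (lt_top_iff_ne_top.mpr htop)
  obtain ⟨g, hg⟩ := exists_gen_of_not_mem_agemo hR hidx hh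
  exact isCyclic_commutator_of_two_gen hp2 hR hg (commutator_le_agemo hR hidx)

/-- An element outside `℧` whose cyclic group contains the derived group. -/
theorem exists_not_mem_agemo_of_mem [Finite R] [hp : Fact p.Prime] (hp2 : p ≠ 2)
    (hR : IsPGroup p R) [IsCyclic (commutator R)] {c : R} (hc : c ≠ 1) :
    ∃ h : R, h ∉ agemo p R ∧ c ∈ zpowers h := by
  obtain ⟨h, hh, hmax⟩ := Set.Finite.exists_maximalFor (fun h : R => zpowers h)
    {h : R | c ∈ zpowers h} (Set.toFinite _) ⟨c, mem_zpowers c⟩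
  refine ⟨h, fun hmem => ?_, hh⟩
  obtain ⟨g, hg⟩ := exists_pow_eq_of_mem_agemo hp2 hR hmem
  have hle : zpowers h ≤ zpowers g := zpowers_le.mpr (hg ▸ pow_mem (mem_zpowers g) p)
  have hge := hmax (show c ∈ zpowers g from hle hh) hle
  have hg1 : g = 1 := eq_one_of_mem_zpowers_pow hR (hg.symm ▸ hge (mem_zpowers g))
  subst hg1
  rw [one_pow] at hg
  subst hg
  simp at hh
  exact hc hh

/-- Huppert: for odd `p`, if `|R : ℧(R)| ≤ p²` then `R` is metacyclic. -/
theorem isMetacyclic_of_agemo [Finite R] [hp : Fact p.Prime] (hp2 : p ≠ 2) (hR : IsPGroup p R)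
    (hidx : (agemo p R).index ≤ p ^ 2) : Cfsg.IsMetacyclic R := by
  haveI := isCyclic_commutator_of_agemo hp2 hR hidx
  obtain ⟨c, hc⟩ := IsCyclic.exists_generator (α := commutator R)
  obtain ⟨h, hh⟩ : ∃ h : R, commutator R ≤ zpowers h ∧ (h ∉ agemo p R ∨ ∀ v : R, v = 1) := by
    by_cases hc1 : (c : R) = 1
    · have hbot : commutator R ≤ ⊥ := fun v hv => by
        obtain ⟨k, hk⟩ := mem_zpowers_iff.mp (hc ⟨v, hv⟩)
        have hk' : (c : R) ^ k = v := by simpa using congrArg Subtype.val hk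
        rw [mem_bot, ← hk', hc1, one_zpow]
      by_cases htop : agemo p R = ⊤
      · have h1 : (⊤ : Subgroup R) ≤ frattini R := htop.ge.trans (agemo_le_frattini hR)
        have hb : (⊥ : Subgroup R) = ⊤ :=
          frattini_nongenerating (top_unique (h1.trans le_sup_right))
        exact ⟨1, hbot.trans bot_le, Or.inr fun v => mem_bot.mp (hb.ge (mem_top v))⟩
      · obtain ⟨h, -, hh⟩ := SetLike.exists_of_lt (lt_top_iff_ne_top.mpr htop)
        exact ⟨h, hbot.trans bot_le, Or.inl hh⟩
    · obtain ⟨h, hh, hch⟩ := exists_not_mem_agemo_of_mem hp2 hR hc1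
      refine ⟨h, fun v hv => ?_, Or.inl hh⟩
      obtain ⟨k, hk⟩ := mem_zpowers_iff.mp (hc ⟨v, hv⟩)
      have hk' : (c : R) ^ k = v := by simpa using congrArg Subtype.val hk
      rw [← hk']
      exact zpow_mem hch k
  haveI hN : (zpowers h).Normal := Subgroup.Normal.of_commutator_le (G := R) hh.1
  refine ⟨zpowers h, hN, inferInstance, ?_⟩
  rcases hh.2 with hout | htriv
  · obtain ⟨g, hg⟩ := exists_gen_of_not_mem_agemo hR hidx hout
    refine ⟨⟨QuotientGroup.mk' (zpowers h) g, fun v => ?_⟩⟩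
    obtain ⟨w, rfl⟩ := QuotientGroup.mk'_surjective (zpowers h) v
    have hle : (⊤ : Subgroup R) ≤
        (zpowers (QuotientGroup.mk' (zpowers h) g)).comap (QuotientGroup.mk' (zpowers h)) := by
      rw [← hg, closure_le]
      rintro z (hz | hz)
      · rw [hz]; exact mem_zpowers _
      · rw [hz]
        show QuotientGroup.mk' (zpowers h) h ∈ zpowers _
        rw [show QuotientGroup.mk' (zpowers h) h = 1 from
          (QuotientGroup.eq_one_iff h).mpr (mem_zpowers h)]
        exact one_mem _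
    exact hle (mem_top w)
  · haveI : Subsingleton R := ⟨fun a b => (htriv a).trans (htriv b).symm⟩
    haveI : Subsingleton (R ⧸ zpowers h) := QuotientGroup.mk_surjective.subsingleton
    infer_instance

/-- For `p > 3`, at most `p²` solutions of `x ^ p = 1` imply metacyclicity. -/
theorem isMetacyclic_of_card_pow_eq_one [Finite R] [hp : Fact p.Prime] (hp3 : 3 < p)
    (hR : IsPGroup p R) (hE : Nat.card {x : R // x ^ p = 1} ≤ p ^ 2) : Cfsg.IsMetacyclic R := by
  refine isMetacyclic_of_agemo (by omega) hR ?_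
  have h := card_pow_eq_one_quotient_le hp3 hR hE (agemo p R)
  have hall : ∀ q : R ⧸ agemo p R, q ^ p = 1 := fun q => by
    obtain ⟨v, rfl⟩ := QuotientGroup.mk_surjective q
    rw [← QuotientGroup.mk_pow, QuotientGroup.eq_one_iff]
    exact pow_mem_agemo v
  rw [Nat.card_congr (Equiv.subtypeUnivEquiv hall), ← index_eq_card] at h
  exact h

/-- A metacyclic group has cyclic derived group and agemo of index at most `p²`. -/
theorem agemo_facts_of_isMetacyclic [Finite R] [hp : Fact p.Prime]
    (hm : Cfsg.IsMetacyclic R) : IsCyclic (commutator R) ∧ (agemo p R).index ≤ p ^ 2 := by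
  obtain ⟨N, hN, hNc, hQc⟩ := hm
  haveI := hN
  haveI := hQc
  haveI := hNc
  haveI hcomm : IsMulCommutative (R ⧸ N) := ⟨⟨fun a b => by
    letI := IsCyclic.commGroup (α := R ⧸ N)
    exact mul_comm a b⟩⟩
  have hle : commutator R ≤ N := Subgroup.Normal.quotient_commutative_iff_commutator_le.mp hcomm
  refine ⟨isCyclic_of_injective (inclusion hle) (inclusion_injective hle), ?_⟩
  -- a cyclic group of exponent dividing `p` has order at most `p`
  have key : ∀ (A : Type u) [Group A] [IsCyclic A], (∀ a : A, a ^ p = 1) → Nat.card A ≤ p := by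
    intro A _ _ hA
    obtain ⟨g, hg⟩ := IsCyclic.exists_ofOrder_eq_natCard (α := A)
    rw [← hg]
    exact orderOf_le_of_pow_eq_one hp.out.pos (hA g)
  set U := agemo p R with hU
  set N' := N ⊔ U with hN'
  have hmul : U.relIndex N' * N'.index = U.index := relIndex_mul_index le_sup_right
  rw [← hmul, sq]
  refine Nat.mul_le_mul ?_ ?_
  · have hrel : U.relIndex N' = Nat.card (N.map (QuotientGroup.mk' U)) := by
      rw [← relIndex_bot_left (N.map _), ← Subgroup.map_bot (QuotientGroup.mk' U), relIndex_map_map,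
        QuotientGroup.ker_mk', bot_sup_eq]
    rw [hrel]
    haveI : IsCyclic (N.map (QuotientGroup.mk' U)) := isCyclic_of_surjective
      ((QuotientGroup.mk' U).subgroupMap N) (MonoidHom.subgroupMap_surjective _ N)
    refine key _ fun a => Subtype.ext ?_
    obtain ⟨v, hv⟩ := QuotientGroup.mk'_surjective U a.1
    simp only [SubmonoidClass.coe_pow, OneMemClass.coe_one]
    rw [← hv, ← map_pow, QuotientGroup.mk'_apply, QuotientGroup.eq_one_iff]
    exact pow_mem_agemo v
  · rw [index_eq_card]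
    haveI : IsCyclic (R ⧸ N') := isCyclic_of_surjective
      (QuotientGroup.map N N' (MonoidHom.id R) (by rw [comap_id]; exact le_sup_left))
      (by
        intro q
        obtain ⟨v, rfl⟩ := QuotientGroup.mk_surjective q
        exact ⟨v, rfl⟩)
    refine key _ fun a => ?_
    obtain ⟨v, rfl⟩ := QuotientGroup.mk_surjective a
    rw [← QuotientGroup.mk_pow, QuotientGroup.eq_one_iff]
    exact mem_sup_right (pow_mem_agemo v)

/-- In a metacyclic `p`-group (`p` odd) the elements with `x ^ p = 1` commute, are closed under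
products, number at most `p²`, and exactly `p²` unless the group is cyclic. -/
theorem card_pow_eq_one_of_isMetacyclic [Finite R] [hp : Fact p.Prime] (hp2 : p ≠ 2)
    (hR : IsPGroup p R) (hm : Cfsg.IsMetacyclic R) :
    (∀ a b : R, a ^ p = 1 → b ^ p = 1 → (a * b) ^ p = 1 ∧ Commute a b) ∧
      Nat.card {x : R // x ^ p = 1} ≤ p ^ 2 ∧
      (¬ IsCyclic R → Nat.card {x : R // x ^ p = 1} = p ^ 2) := by
  obtain ⟨N, hN, hNc, hQc⟩ := hm
  haveI := hN
  haveI := hQc
  haveI := hNc
  set π := QuotientGroup.mk' N with hπ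
  set Np : Subgroup R :=
    { carrier := {n | n ∈ N ∧ n ^ p = 1}
      one_mem' := ⟨one_mem _, one_pow _⟩
      mul_mem' := fun {a b} ha hb => by
        refine ⟨mul_mem ha.1 hb.1, ?_⟩
        have : Commute (⟨a, ha.1⟩ : N) ⟨b, hb.1⟩ := by
          letI := IsCyclic.commGroup (α := N)
          exact mul_comm _ _
        have h' : Commute a b := congrArg Subtype.val this
        rw [h'.mul_pow, ha.2, hb.2, one_mul]
      inv_mem' := fun {a} ha => ⟨inv_mem ha.1, by simp [ha.2]⟩ } with hNp
  have hNpc : Nat.card Np ≤ p := by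
    haveI : IsCyclic Np := isCyclic_of_injective (inclusion (fun _ h => h.1 : Np ≤ N))
      (inclusion_injective _)
    obtain ⟨g, hg⟩ := IsCyclic.exists_ofOrder_eq_natCard (α := Np)
    rw [← hg]
    exact orderOf_le_of_pow_eq_one hp.out.pos (Subtype.ext g.2.2)
  haveI hNpn : Np.Normal := ⟨fun n hn g => ⟨hN.conj_mem n hn.1 g, by rw [conj_pow, hn.2]; group⟩⟩
  have hNpZ : Np ≤ center R := by
    rcases (hR.to_subgroup Np).card_eq_or_dvd with h | h
    · rw [Subgroup.card_eq_one.mp h]; exact bot_le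
    · exact le_center_of_normal_card_prime hR (le_antisymm hNpc (Nat.le_of_dvd Nat.card_pos h))
  -- two elements of order dividing `p`
  have hsplit : ∀ a b : R, a ^ p = 1 → b ^ p = 1 → π a ≠ 1 →
      ∃ k : ℕ, ∃ n ∈ Np, b = a ^ k * n := by
    intro a b ha hb hne
    obtain ⟨g, hg⟩ := IsCyclic.exists_generator (α := R ⧸ N)
    have hord : orderOf (π a) = p :=
      orderOf_eq_prime (by rw [← map_pow, ha, map_one]) hne
    have hmem : π b ∈ zpowers (π a) := by
      -- the subgroup of solutions of `q ^ p = 1` in a cyclic group has order at most `p`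
      haveI : IsCyclic (zpowers (π a) ⊔ zpowers (π b) : Subgroup (R ⧸ N)) := inferInstance
      letI := IsCyclic.commGroup (α := R ⧸ N)
      by_contra hnot
      have hlt : zpowers (π a) < zpowers (π a) ⊔ zpowers (π b) :=
        lt_of_le_of_ne le_sup_left fun h => hnot (h.ge (mem_sup_right (mem_zpowers _)))
      obtain ⟨w, hw⟩ := IsCyclic.exists_ofOrder_eq_natCard
        (α := (zpowers (π a) ⊔ zpowers (π b) : Subgroup (R ⧸ N)))
      have hwp : w ^ p = 1 := by
        refine Subtype.ext ?_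
        obtain ⟨u, hu, v, hv, huv⟩ := mem_sup.mp w.2
        obtain ⟨i, rfl⟩ := mem_zpowers_iff.mp hu
        obtain ⟨j, rfl⟩ := mem_zpowers_iff.mp hv
        simp only [SubmonoidClass.coe_pow, OneMemClass.coe_one]
        rw [← huv, mul_pow, ← zpow_natCast, ← zpow_natCast, zpow_comm, zpow_comm (π b),
          zpow_natCast, zpow_natCast, ← map_pow, ← map_pow, ha, hb, map_one, one_zpow, one_zpow,
          one_mul]
      have h1 : Nat.card (zpowers (π a)) < p := by
        refine lt_of_lt_of_le (Set.ncard_lt_ncard (SetLike.coe_ssubset_coe.mpr hlt) (Set.toFinite _)) ?_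
        show Nat.card (zpowers (π a) ⊔ zpowers (π b) : Subgroup (R ⧸ N)) ≤ p
        rw [← hw]
        exact orderOf_le_of_pow_eq_one hp.out.pos hwp
      rw [Nat.card_zpowers, hord] at h1
      exact lt_irrefl _ h1
    obtain ⟨k, hk⟩ := (mem_powers_iff_mem_zpowers.mpr hmem : π b ∈ Submonoid.powers (π a))
    have hn : (a ^ k)⁻¹ * b ∈ N := by
      rw [← QuotientGroup.eq_one_iff, ← QuotientGroup.mk'_apply, map_mul, map_inv, map_pow]
      show (π a ^ k)⁻¹ * π b = 1
      rw [show π a ^ k = π b from hk, inv_mul_cancel]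
    refine ⟨k, _, ⟨hn, ?_⟩, by group⟩
    obtain ⟨s, hs, hsd⟩ := exists_pow_mul hp2 hR N (a ^ k)
    have h2 := hsd _ hn
    rw [mul_inv_cancel_left, hb, ← pow_mul, mul_comm k, pow_mul, ha, one_pow, one_mul, zpow_mul,
      zpow_natCast] at h2
    obtain ⟨i, hi⟩ := IsPGroup.iff_orderOf.mp hR (((a ^ k)⁻¹ * b) ^ p)
    rcases Nat.eq_zero_or_pos i with rfl | hi0
    · exact orderOf_eq_one_iff.mp (by simpa using hi)
    · exact absurd ((dvd_pow_self (p : ℤ) hi0.ne').trans
        (by exact_mod_cast hi ▸ orderOf_dvd_iff_zpow_eq_one.mpr h2.symm)) hs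
  have hcl : ∀ a b : R, a ^ p = 1 → b ^ p = 1 → (a * b) ^ p = 1 ∧ Commute a b := by
    intro a b ha hb
    suffices h : Commute a b from ⟨by rw [h.mul_pow, ha, hb, one_mul], h⟩
    by_cases hne : π a = 1
    · exact (mem_center_iff.mp (hNpZ ⟨(QuotientGroup.eq_one_iff a).mp hne, ha⟩) b).symm
    · obtain ⟨k, n, hn, rfl⟩ := hsplit a b ha hb hne
      exact ((Commute.refl a).pow_right k).mul_right (mem_center_iff.mp (hNpZ hn) a)
  refine ⟨hcl, ?_, fun hnc => ?_⟩
  · by_cases hex : ∀ a : R, a ^ p = 1 → π a = 1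
    · refine le_trans ?_ (hNpc.trans (Nat.le_self_pow two_ne_zero p))
      let f : {x : R // x ^ p = 1} → Np :=
        fun x => ⟨(x : R), (QuotientGroup.eq_one_iff _).mp (hex _ x.2), x.2⟩
      refine Nat.card_le_card_of_injective f fun x y hxy => Subtype.ext ?_
      exact congrArg (fun w : Np => (w : R)) hxy
    · push Not at hex
      obtain ⟨a, ha, hne⟩ := hex
      let f : zpowers a × Np → R := fun q => q.1 * q.2
      refine le_trans (Set.ncard_le_ncard (s := {x : R | x ^ p = 1}) (t := Set.range f) ?_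
        (Set.toFinite _)) ?_
      · intro x hx
        obtain ⟨k, n, hn, rfl⟩ := hsplit a x ha hx hne
        exact ⟨(⟨a ^ k, pow_mem (mem_zpowers a) k⟩, ⟨n, hn⟩), rfl⟩
      · rw [← Nat.card_coe_set_eq]
        refine (Finite.card_range_le f).trans ?_
        rw [Nat.card_prod, Nat.card_zpowers, sq]
        exact Nat.mul_le_mul (orderOf_le_of_pow_eq_one hp.out.pos ha) hNpc
  · -- find an element of order `p` outside `N`, and one inside
    obtain ⟨q, hq⟩ := IsCyclic.exists_generator (α := R ⧸ N)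
    obtain ⟨g, rfl⟩ := QuotientGroup.mk'_surjective N q
    have hgN : N ⊔ zpowers g = ⊤ := by
      rw [eq_top_iff]
      intro v _
      obtain ⟨k, hk⟩ := mem_zpowers_iff.mp (hq (π v))
      have : v * (g ^ k)⁻¹ ∈ N := by
        rw [← QuotientGroup.eq_one_iff, ← QuotientGroup.mk'_apply, map_mul, map_inv, map_zpow]
        show π v * (π g ^ k)⁻¹ = 1
        rw [hk, mul_inv_cancel]
      rw [show v = v * (g ^ k)⁻¹ * g ^ k by group]
      exact mul_mem (mem_sup_left this) (mem_sup_right (zpow_mem (mem_zpowers g) k))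
    obtain ⟨j, hj⟩ := IsPGroup.iff_orderOf.mp (hR.to_quotient N) (π g)
    have hj0 : j ≠ 0 := by
      rintro rfl
      rw [pow_zero, orderOf_eq_one_iff] at hj
      apply hnc
      have hgmem : g ∈ N := (QuotientGroup.eq_one_iff g).mp hj
      rw [sup_eq_left.mpr (zpowers_le.mpr hgmem)] at hgN
      exact Subgroup.topEquiv.isCyclic.mp (hgN ▸ hNc)
    set w := g ^ p ^ (j - 1) with hw
    have hwN : π w ≠ 1 := by
      rw [hw, map_pow]
      intro h
      have h1 := orderOf_dvd_of_pow_eq_one h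
      rw [hj] at h1
      have := (Nat.pow_dvd_pow_iff_le_right hp.out.one_lt).mp h1
      omega
    have hwp : w ^ p ∈ N := by
      rw [← QuotientGroup.eq_one_iff, ← QuotientGroup.mk'_apply, hw, ← pow_mul, ← pow_succ,
        Nat.sub_add_cancel (Nat.one_le_iff_ne_zero.mpr hj0), map_pow]
      show π g ^ p ^ j = 1
      rw [← hj, pow_orderOf_eq_one]
    obtain ⟨c, hc⟩ := IsCyclic.exists_generator (α := N)
    obtain ⟨m, hm⟩ := mem_zpowers_iff.mp (hc ⟨w ^ p, hwp⟩)
    have hm' : (c : R) ^ m = w ^ p := by simpa using congrArg Subtype.val hm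
    have hpm : (p : ℤ) ∣ m := by
      by_contra hnd
      -- otherwise `N ≤ ⟨g⟩` and `R` is cyclic
      obtain ⟨i, hi⟩ := IsPGroup.iff_orderOf.mp hR (c : R)
      obtain ⟨a, b, hab⟩ :=
        (((Nat.prime_iff_prime_int.mp hp.out).coprime_iff_not_dvd.mpr hnd).pow_left (m := i))
      have hcmem : (c : R) ∈ zpowers g := by
        have h1 : (c : R) = (w ^ p) ^ b := by
          rw [← hm', ← zpow_mul, show m * b = 1 + ((p ^ i : ℕ) : ℤ) * (-a) by
            push_cast; linear_combination hab, zpow_add, zpow_one, zpow_mul, zpow_natCast, ← hi,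
            pow_orderOf_eq_one, one_zpow, mul_one]
        rw [h1, hw]
        exact zpow_mem (pow_mem (pow_mem (mem_zpowers g) _) _) _
      apply hnc
      have hNle : N ≤ zpowers g := fun v hv => by
        obtain ⟨k, hk⟩ := mem_zpowers_iff.mp (hc ⟨v, hv⟩)
        have hk' : (c : R) ^ k = v := by simpa using congrArg Subtype.val hk
        rw [← hk']
        exact zpow_mem hcmem k
      rw [sup_eq_right.mpr hNle] at hgN
      exact Subgroup.topEquiv.isCyclic.mp (hgN ▸ (inferInstance : IsCyclic (zpowers g)))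
    obtain ⟨m', rfl⟩ := hpm
    obtain ⟨d, hd, hwd⟩ := exists_mul_pow_eq hp2 hR N w (d' := (c : R) ^ (-m')) (N.zpow_mem c.2 _)
    have hwd1 : (w * d) ^ p = 1 := by
      rw [hwd, ← hm', ← zpow_natCast ((c : R) ^ (-m')), ← zpow_mul, ← zpow_add]
      rw [show (p : ℤ) * m' + -m' * (p : ℤ) = 0 by ring, zpow_zero]
    have hpiwd : π (w * d) ≠ 1 := by
      rw [map_mul, show π d = 1 from (QuotientGroup.eq_one_iff d).mpr hd, mul_one]
      exact hwN
    have hNne : N ≠ ⊥ := by
      intro h
      apply hnc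
      rw [h, bot_sup_eq] at hgN
      exact Subgroup.topEquiv.isCyclic.mp (hgN ▸ (inferInstance : IsCyclic (zpowers g)))
    obtain ⟨z, hzN, -, hzo⟩ := exists_central_orderOf_prime hR hNne
    let W : Subgroup R :=
      { carrier := {x | x ^ p = 1}
        one_mem' := one_pow p
        mul_mem' := fun {a b} ha hb => (hcl a b ha hb).1
        inv_mem' := fun {a} (ha : a ^ p = 1) => show a⁻¹ ^ p = 1 by simp [ha] }
    show Nat.card W = p ^ 2
    obtain ⟨i, hi⟩ := IsPGroup.iff_card.mp (hR.to_subgroup W)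
    have hle2 : Nat.card W ≤ p ^ 2 := by
      -- the bound just proved
      by_contra hlt
      push Not at hlt
      have hex : ¬ ∀ a : R, a ^ p = 1 → π a = 1 := fun h => hpiwd (h _ hwd1)
      let f : zpowers (w * d) × Np → R := fun q => q.1 * q.2
      have : Nat.card W ≤ p ^ 2 := by
        refine le_trans (Set.ncard_le_ncard (s := {x : R | x ^ p = 1}) (t := Set.range f) ?_
          (Set.toFinite _)) ?_
        · intro x hx
          obtain ⟨k, n, hn, rfl⟩ := hsplit (w * d) x hwd1 hx hpiwd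
          exact ⟨(⟨(w * d) ^ k, pow_mem (mem_zpowers _) k⟩, ⟨n, hn⟩), rfl⟩
        · rw [← Nat.card_coe_set_eq]
          refine (Finite.card_range_le f).trans ?_
          rw [Nat.card_prod, Nat.card_zpowers, sq]
          exact Nat.mul_le_mul (orderOf_le_of_pow_eq_one hp.out.pos hwd1) hNpc
      omega
    have hgt : p < Nat.card W := by
      have hzW : zpowers z < W := by
        refine lt_of_le_of_ne (zpowers_le.mpr (show z ^ p = 1 by rw [← hzo, pow_orderOf_eq_one]))
          fun h => hpiwd ?_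
        have := h.ge (show w * d ∈ W from hwd1)
        exact (QuotientGroup.eq_one_iff _).mpr (zpowers_le.mpr hzN this)
      have := Set.ncard_lt_ncard (SetLike.coe_ssubset_coe.mpr hzW) (Set.toFinite _)
      rw [show (zpowers z : Set R).ncard = p from (Nat.card_coe_set_eq _).symm.trans
        (by rw [SetLike.coe_sort_coe, Nat.card_zpowers, hzo])] at this
      exact this.trans_le (le_of_eq (Nat.card_coe_set_eq _).symm)
    rw [hi] at hle2 hgt ⊢
    have h1 := (Nat.pow_le_pow_iff_right hp.out.one_lt).mp hle2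
    have h2 : 1 < i := (Nat.pow_lt_pow_iff_right hp.out.one_lt).mp (by rwa [pow_one])
    congr 1
    omega

end CfsgLib.OddOrder.BG4
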