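import Cfsg.Agent.OddOrder.BG4.Metacyclic
import Cfsg.Agent.Coprime.Abelian

/-!
# Coprime action on metacyclic `p`-groups, `p` odd (Bender–Glauberman 4.10)

* `exists_ne_top_of_metacyclic_action`: a `p'`-group acting on a nonabelian metacyclic `p`-group
  acts trivially modulo some proper subgroup.
* `isMetacyclic_subgroup`: subgroups of metacyclic groups are metacyclic.
* `isMulCommutative_commutator_of_metacyclic`: hence `⁅R, A⁆` is abelian.
* `metacyclic_action_facts`: the structure of `R = ⁅R, A⁆ C_R(A)`.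
-/

namespace CfsgLib.OddOrder.BG4

open Subgroup
open scoped commutatorElement

universe u v

variable {R : Type u} [Group R] {p : ℕ}

/-- A group generated by two commuting elements is commutative. -/
theorem mul_comm_of_closure_pair {g h : R} (hgen : closure ({g, h} : Set R) = ⊤)
    (hgh : Commute g h) (x y : R) : x * y = y * x := by
  have hc := Subgroup.isMulCommutative_closure (k := ({g, h} : Set R)) (by
    rintro a (rfl | rfl) b (rfl | rfl)
    exacts [rfl, hgh.eq, hgh.eq.symm, rfl])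
  exact congrArg Subtype.val
    (hc.is_comm.comm ⟨x, hgen.ge (mem_top x)⟩ ⟨y, hgen.ge (mem_top y)⟩)

section Core

variable [Finite R] [hp : Fact p.Prime]

/-- With `|R'| = p` and `|R : ℧| ≤ p²` every element is `g ^ s * h ^ t` modulo `℧`. -/
theorem exists_zpow_mul_zpow (hR : IsPGroup p R) (hidx : (agemo p R).index ≤ p ^ 2) {g h : R}
    (hgen : closure ({g, h} : Set R) = ⊤) (x : R) :
    ∃ s t : ℤ, ∃ w ∈ agemo p R, x = g ^ s * h ^ t * w := by
  haveI hN : (zpowers h ⊔ agemo p R).Normal :=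
    Subgroup.Normal.of_commutator_le (G := R) ((commutator_le_agemo hR hidx).trans le_sup_right)
  have htop : (⊤ : Subgroup R) ≤ zpowers g ⊔ (zpowers h ⊔ agemo p R) := by
    rw [← hgen, closure_le]
    rintro z (hz | hz)
    · rw [hz]; exact mem_sup_left (mem_zpowers g)
    · rw [hz]; exact mem_sup_right (mem_sup_left (mem_zpowers h))
  obtain ⟨a, ha, b, hb, rfl⟩ := mem_sup_of_normal_right.mp (htop (mem_top x))
  obtain ⟨b1, hb1, w, hw, rfl⟩ := mem_sup_of_normal_right.mp hb
  obtain ⟨s, rfl⟩ := mem_zpowers_iff.mp ha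
  obtain ⟨t, rfl⟩ := mem_zpowers_iff.mp hb1
  exact ⟨s, t, w, hw, (mul_assoc _ _ _).symm⟩

theorem eq_one_of_zpow_dvd {c : R} (hcp : c ^ p = 1) {k : ℤ} (hk : (p : ℤ) ∣ k) : c ^ k = 1 := by
  obtain ⟨m, rfl⟩ := hk
  rw [zpow_mul, zpow_natCast, hcp, one_zpow]

theorem dvd_of_zpow_eq_one {c : R} (hcp : c ^ p = 1) (hc1 : c ≠ 1) {k : ℤ} (hk : c ^ k = 1) :
    (p : ℤ) ∣ k := by
  rw [← orderOf_eq_prime hcp hc1]
  exact orderOf_dvd_iff_zpow_eq_one.mpr hk

/-- The case `|R'| = p`, `R'` central. -/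
theorem exists_ne_top_of_class_two (hp2 : p ≠ 2) (hR : IsPGroup p R)
    (hidx : (agemo p R).index ≤ p ^ 2) {c : R} (hc1 : c ≠ 1) (hcp : c ^ p = 1)
    (hcR : commutator R = zpowers c) (hcz : c ∈ center R)
    {A : Type v} [Group A] [Finite A] (φ : A →* MulAut R) (hcop : (Nat.card A).Coprime p) :
    ∃ M : Subgroup R, M ≠ ⊤ ∧ ∀ a x, φ a x * x⁻¹ ∈ M := by
  classical
  haveI : IsCyclic (commutator R) := hcR ▸ (inferInstance : IsCyclic (zpowers c))
  have hcom : ∀ x y : R, ⁅x, y⁆ ∈ zpowers c := fun x y =>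
    hcR.le (commutator_mem_commutator (mem_top x) (mem_top y))
  have hcc : ∀ x y z : R, Commute ⁅x, y⁆ z := fun x y z => by
    have : ⁅x, y⁆ ∈ center R := (zpowers_le.mpr hcz) (hcom x y)
    exact (mem_center_iff.mp this z).symm
  have hcomp : ∀ x y : R, ⁅x, y⁆ ^ p = 1 := fun x y => by
    obtain ⟨k, hk⟩ := mem_zpowers_iff.mp (hcom x y)
    rw [← hk, ← zpow_natCast, ← zpow_mul]
    exact eq_one_of_zpow_dvd hcp (dvd_mul_left _ _)
  -- the commutator is bilinear
  have hml : ∀ x y z : R, ⁅x * y, z⁆ = ⁅x, z⁆ * ⁅y, z⁆ := fun x y z => by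
    rw [commutatorElement_mul_left_eq_conj_mul]
    rw [← (hcc y z x).eq, mul_inv_cancel_right]
    exact (hcc y z ⁅x, z⁆).eq
  let B : R → (R →* R) := fun z => MonoidHom.mk' (fun x => ⁅x, z⁆) (fun x y => hml x y z)
  have hzl : ∀ (x z : R) (n : ℤ), ⁅x ^ n, z⁆ = ⁅x, z⁆ ^ n := fun x z n => map_zpow (B z) x n
  have hzr : ∀ (x z : R) (n : ℤ), ⁅x, z ^ n⁆ = ⁅x, z⁆ ^ n := fun x z n => by
    rw [← commutatorElement_inv, hzl, ← inv_zpow, commutatorElement_inv]
  have hmr : ∀ x y z : R, ⁅x, y * z⁆ = ⁅x, y⁆ * ⁅x, z⁆ := fun x y z => by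
    rw [← commutatorElement_inv, hml, mul_inv_rev, commutatorElement_inv, commutatorElement_inv]
    exact (hcc x z _).eq
  have hagc : ∀ w ∈ agemo p R, ∀ z : R, ⁅w, z⁆ = 1 := by
    intro w hw z
    have : agemo p R ≤ (B z).ker := by
      rw [agemo, closure_le]
      rintro _ ⟨x, rfl⟩
      show ⁅x ^ p, z⁆ = 1
      rw [← zpow_natCast, hzl, zpow_natCast, hcomp]
    exact this hw
  have hagc' : ∀ w ∈ agemo p R, ∀ z : R, ⁅z, w⁆ = 1 := fun w hw z => by
    rw [← commutatorElement_inv, hagc w hw z, inv_one]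
  -- `p ^ i`-th powers are endomorphisms
  have hpow : ∀ x y : R, (x * y) ^ p = x ^ p * y ^ p := fun x y => by
    rw [Stab.mul_pow_of_commutator_central (hcc y x)]
    obtain ⟨k2, hk2⟩ := hp.out.dvd_choose_self (k := 2) (by norm_num)
      (lt_of_le_of_ne hp.out.two_le (Ne.symm hp2))
    rw [hk2, pow_mul, hcomp, one_pow, mul_one]
  have hpowi : ∀ (i : ℕ) (x y : R), (x * y) ^ p ^ i = x ^ p ^ i * y ^ p ^ i := by
    intro i
    induction i with
    | zero => simp
    | succ i ih =>
      intro x y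
      rw [pow_succ, pow_mul, ih, hpow, ← pow_mul, ← pow_mul]
  have hcag : c ∈ agemo p R := commutator_le_agemo hR hidx (hcR.ge (mem_zpowers c))
  -- the largest `i` such that some `g ^ (p ^ i)` is a nontrivial element of `R'`
  obtain ⟨n, hn⟩ := IsPGroup.iff_card.mp hR
  have hkill : ∀ (x : R) (j : ℕ), n ≤ j → x ^ p ^ j = 1 := fun x j hj => by
    have h1 : x ^ p ^ n = 1 := hn ▸ pow_card_eq_one' (x := x)
    obtain ⟨e, rfl⟩ := Nat.exists_eq_add_of_le hj
    rw [pow_add, pow_mul, h1, one_pow]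
  let Q : ℕ → Prop := fun j => ∃ g : R, g ^ p ^ j ∈ zpowers c ∧ g ^ p ^ j ≠ 1
  have hQ1 : Q 1 := by
    obtain ⟨z, hz⟩ := exists_pow_eq_of_mem_agemo hp2 hR hcag
    exact ⟨z, by rw [pow_one, hz]; exact mem_zpowers c, by rwa [pow_one, hz]⟩
  have h1n : 1 ≤ n := by
    by_contra hcon
    obtain ⟨g, -, hg⟩ := hQ1
    exact hg (hkill g 1 (by omega))
  set i := Nat.findGreatest Q n with hi
  have hQi : Q i := Nat.findGreatest_spec h1n hQ1
  have hmax : ∀ y : R, y ^ p ^ (i + 1) ∈ zpowers c → y ^ p ^ (i + 1) = 1 := by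
    intro y hy
    by_contra hne
    rcases le_or_gt (i + 1) n with hle | hlt
    · exact Nat.findGreatest_is_greatest (Nat.lt_succ_self i) hle ⟨y, hy, hne⟩
    · exact hne (hkill y _ hlt.le)
  have hagf : ∀ w ∈ agemo p R, w ^ p ^ i ∈ zpowers c → w ^ p ^ i = 1 := by
    intro w hw hwc
    obtain ⟨y, rfl⟩ := exists_pow_eq_of_mem_agemo hp2 hR hw
    rw [← pow_mul, ← pow_succ'] at hwc ⊢
    exact hmax y hwc
  obtain ⟨g, hgc, hg1⟩ := hQi
  set c' := g ^ p ^ i with hc'
  have hc'p : c' ^ p = 1 := by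
    obtain ⟨k, hk⟩ := mem_zpowers_iff.mp hgc
    rw [← hk, ← zpow_natCast, ← zpow_mul]
    exact eq_one_of_zpow_dvd hcp (dvd_mul_left _ _)
  have hc'gen : ∀ v ∈ zpowers c, v ∈ zpowers c' := by
    have : zpowers c' = zpowers c := by
      refine eq_of_le_of_card_ge (zpowers_le.mpr hgc) ?_
      rw [Nat.card_zpowers, Nat.card_zpowers, orderOf_eq_prime hcp hc1,
        orderOf_eq_prime hc'p hg1]
    exact fun v hv => this.ge hv
  have hgag : g ∉ agemo p R := fun hmem => hg1 (hagf g hmem hgc)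
  obtain ⟨h, hgen'⟩ := exists_gen_of_not_mem_agemo hR hidx hgag
  have hgen : closure ({g, h} : Set R) = ⊤ := by rwa [Set.pair_comm]
  have hd1 : ∀ k : R, closure ({g, k} : Set R) = ⊤ → ⁅g, k⁆ ≠ 1 := by
    intro k hk h1
    apply hc1
    have hab := mul_comm_of_closure_pair hk (commutatorElement_eq_one_iff_commute.mp h1)
    have h2 : commutator R ≤ ⊥ := by
      rw [_root_.commutator_def, commutator_le]
      intro x _ y _
      exact mem_bot.mpr (commutatorElement_eq_one_iff_mul_comm.mpr (hab x y))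
    exact mem_bot.mp (h2 (hcR.ge (mem_zpowers c)))
  -- an automorphism acts on `R'` as it acts on `c'`
  have hact : ∀ (a : A) (α : ℤ), φ a c' = c' ^ α → ∀ v ∈ zpowers c, φ a v = v ^ α := by
    intro a α hα v hv
    obtain ⟨k, rfl⟩ := mem_zpowers_iff.mp (hc'gen v hv)
    rw [map_zpow, hα, ← zpow_mul, ← zpow_mul, mul_comm]
  have hinv : ∀ a : A, ∀ v ∈ zpowers c, φ a v ∈ zpowers c := by
    intro a v hv
    have hmap : (commutator R).map (φ a).toMonoidHom ≤ commutator R := by
      rw [_root_.commutator_def, map_commutator]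
      exact commutator_mono le_top le_top
    exact hcR.le (hmap (mem_map_of_mem _ (hcR.ge hv)))
  have hαp : ∀ (a : A) (α : ℤ), φ a c' = c' ^ α → ¬ (p : ℤ) ∣ α := by
    intro a α hα hdvd
    rw [eq_one_of_zpow_dvd hc'p hdvd] at hα
    exact hg1 ((φ a).injective (hα.trans (map_one (φ a)).symm))
  set L := zpowers g ⊔ agemo p R with hL
  haveI hLn : L.Normal :=
    Subgroup.Normal.of_commutator_le (G := R) ((commutator_le_agemo hR hidx).trans le_sup_right)
  have hhL : h ∉ L := by
    intro hh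
    obtain ⟨a, ha, w, hw, hah⟩ := mem_sup_of_normal_right.mp hh
    obtain ⟨s, rfl⟩ := mem_zpowers_iff.mp ha
    refine hd1 h hgen ?_
    rw [← hah, hmr, hzr, commutatorElement_self, one_zpow, one_mul, hagc' w hw]
  have hgL : g ∈ L := mem_sup_left (mem_zpowers g)
  have hpag : ∀ (x : R) (k : ℤ), (p : ℤ) ∣ k → x ^ k ∈ agemo p R := by
    rintro x k ⟨m, rfl⟩
    rw [zpow_mul, zpow_natCast]
    exact zpow_mem (pow_mem_agemo x) m
  by_cases hcase : ∀ x : R, x ^ p ^ i ∈ zpowers c → x ∈ L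
  · refine ⟨L, fun h' => hhL (h'.ge (mem_top h)), fun a => ?_⟩
    -- the image of `g`
    have hgi : φ a g ∈ L := hcase _ (by rw [← map_pow]; exact hinv a _ hgc)
    obtain ⟨b, hb, w, hw, hbw⟩ := mem_sup_of_normal_right.mp hgi
    obtain ⟨α, rfl⟩ := mem_zpowers_iff.mp hb
    have hfw : φ a c' = c' ^ α := by
      have h1 : φ a c' = (g ^ α) ^ p ^ i * w ^ p ^ i := by rw [hc', map_pow, ← hbw, hpowi]
      have h2 : (g ^ α) ^ p ^ i = c' ^ α := by
        rw [hc', ← zpow_natCast, ← zpow_natCast, ← zpow_mul, ← zpow_mul, mul_comm]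
      have h3 : w ^ p ^ i ∈ zpowers c := by
        have : φ a c' ∈ zpowers c := hinv a _ hgc
        rw [h1, h2] at this
        exact ((zpowers c).mul_mem_cancel_left (zpow_mem hgc α)).mp this
      rw [h1, h2, hagf w hw h3, mul_one]
    -- the image of `h`
    obtain ⟨s, t, w', hw', hh'⟩ := exists_zpow_mul_zpow hR hidx hgen (φ a h)
    have hcomm : φ a ⁅g, h⁆ = ⁅g, h⁆ ^ (α * t) := by
      rw [map_commutatorElement, ← hbw, hh', hml, hagc w hw, mul_one, hmr, hmr, hzl, hzr,
        commutatorElement_self, one_zpow, one_zpow, one_mul, hagc' w' hw', mul_one, hzl, hzr,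
        ← zpow_mul, mul_comm t α]
    rw [hact a α hfw _ (hcom g h)] at hcomm
    have hdiv : (p : ℤ) ∣ α * t - α :=
      dvd_of_zpow_eq_one (hcomp g h) (hd1 h hgen) (by rw [zpow_sub, ← hcomm, mul_inv_cancel])
    rw [show α * t - α = α * (t - 1) by ring] at hdiv
    have ht : (p : ℤ) ∣ t - 1 := ((Nat.prime_iff_prime_int.mp hp.out).dvd_mul.mp hdiv).resolve_left
      (hαp a α hfw)
    -- the two homomorphisms to `R ⧸ L` agree on generators
    have heq : Set.EqOn ((QuotientGroup.mk' L).comp (φ a).toMonoidHom) (QuotientGroup.mk' L)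
        (closure ({g, h} : Set R) : Set R) := by
      refine MonoidHom.eqOn_closure ?_
      rintro z (hz | hz)
      · rw [hz]
        show ((φ a g : R) : R ⧸ L) = (g : R ⧸ L)
        rw [(QuotientGroup.eq_one_iff _).mpr hgi, (QuotientGroup.eq_one_iff _).mpr hgL]
      · rw [hz]
        show ((φ a h : R) : R ⧸ L) = (h : R ⧸ L)
        have h4 : h ^ t = h * h ^ (t - 1) := by rw [← zpow_one_add]; ring_nf
        rw [hh', h4, QuotientGroup.mk_mul, QuotientGroup.mk_mul, QuotientGroup.mk_mul,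
          (QuotientGroup.eq_one_iff _).mpr (zpow_mem hgL s),
          (QuotientGroup.eq_one_iff _).mpr (mem_sup_right (hpag h _ ht) : h ^ (t - 1) ∈ L),
          (QuotientGroup.eq_one_iff _).mpr (mem_sup_right hw' : w' ∈ L), one_mul, mul_one, mul_one]
    intro x
    rw [← QuotientGroup.eq_one_iff, QuotientGroup.mk_mul, QuotientGroup.mk_inv]
    have := heq (hgen.ge (mem_top x))
    rw [mul_inv_eq_one]
    exact this
  · push Not at hcase
    obtain ⟨x, hxc, hxL⟩ := hcase
    -- now all `p ^ i`-th powers lie in `R'`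
    let f : R →* R := MonoidHom.mk' (fun x => x ^ p ^ i) (hpowi i)
    have hall : ∀ y : R, y ^ p ^ i ∈ zpowers c := by
      suffices h1 : (zpowers c).comap f ⊔ agemo p R = ⊤ by
        have := frattini_nongenerating
          (top_unique (h1.ge.trans (sup_le le_sup_left
            ((agemo_le_frattini hR).trans le_sup_right))))
        exact fun y => (this.ge (mem_top y) : y ∈ (zpowers c).comap f)
      set K := (zpowers c).comap f ⊔ agemo p R with hK
      have hgK : g ∈ K := mem_sup_left (show g ^ p ^ i ∈ zpowers c from hgc)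
      have hxK : x ∈ K := mem_sup_left (show x ^ p ^ i ∈ zpowers c from hxc)
      obtain ⟨s, t, w, hw, rfl⟩ := exists_zpow_mul_zpow hR hidx hgen x
      have hpt : ¬ (p : ℤ) ∣ t := fun hd => hxL
        (mul_mem (mul_mem (zpow_mem hgL s) (mem_sup_right (hpag h t hd))) (mem_sup_right hw))
      have htK : h ^ t ∈ K := by
        rwa [K.mul_mem_cancel_right (mem_sup_right hw), K.mul_mem_cancel_left (zpow_mem hgK s)]
          at hxK
      obtain ⟨a, b, hab⟩ := (Nat.prime_iff_prime_int.mp hp.out).coprime_iff_not_dvd.mpr hpt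
      have hhK : h ∈ K := by
        rw [show h = h ^ (a * p) * (h ^ t) ^ b by
          rw [← zpow_mul, ← zpow_add, mul_comm t b, hab, zpow_one]]
        exact mul_mem (mem_sup_right (hpag h _ (dvd_mul_left _ _))) (zpow_mem htK b)
      rw [eq_top_iff, ← hgen, closure_le]
      rintro z (hz | hz) <;> rw [hz]
      · exact hgK
      · exact hhK
    have hag1 : ∀ w ∈ agemo p R, w ^ p ^ i = 1 := fun w hw => hagf w hw (hall w)
    obtain ⟨m, hm⟩ := mem_zpowers_iff.mp (hc'gen _ (hall h))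
    set k := g ^ (-m) * h with hk
    have hgk : closure ({g, k} : Set R) = ⊤ := by
      rw [eq_top_iff, ← hgen, closure_le]
      rintro z (hz | hz) <;> rw [hz]
      · exact subset_closure (by simp)
      · rw [show h = g ^ m * k by rw [hk]; group]
        exact mul_mem (zpow_mem (subset_closure (by simp)) m) (subset_closure (by simp))
    have hzp : ∀ (y : R) (l : ℤ), (y ^ l) ^ p ^ i = (y ^ p ^ i) ^ l := fun y l => by
      rw [← zpow_natCast, ← zpow_natCast, ← zpow_mul, ← zpow_mul, mul_comm]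
    have hk1 : k ^ p ^ i = 1 := by
      rw [hk, hpowi, hzp, ← hc', ← hm, ← zpow_add, neg_add_cancel, zpow_zero]
    have hfix : ∀ a : A, φ a k * k⁻¹ ∈ agemo p R := by
      intro a
      obtain ⟨s, β, w, hw, hak⟩ := exists_zpow_mul_zpow hR hidx hgk (φ a k)
      have hs : (p : ℤ) ∣ s := by
        refine dvd_of_zpow_eq_one hc'p hg1 ?_
        have h1 : (φ a k) ^ p ^ i = 1 := by rw [← map_pow, hk1, map_one]
        rwa [hak, hpowi, hpowi, hag1 w hw, mul_one, hzp k, hk1, one_zpow, mul_one, hzp, ← hc']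
          at h1
      obtain ⟨α, t, w', hw', hag⟩ := exists_zpow_mul_zpow hR hidx hgk (φ a g)
      have hfw : φ a c' = c' ^ α := by
        rw [hc', map_pow, hag, hpowi, hpowi, hag1 w' hw', mul_one, hzp k, hk1, one_zpow, mul_one,
          hzp]
      have hcomm : φ a ⁅g, k⁆ = ⁅g, k⁆ ^ (α * β) := by
        rw [map_commutatorElement, hag, hak, hml, hml, hagc w' hw', mul_one, hmr, hmr, hmr, hmr,
          hagc' w hw, hagc' w hw, mul_one, mul_one,
          hagc' _ (hpag g s hs), hagc' _ (hpag g s hs), one_mul, one_mul,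
          hzl, hzr, hzl k, hzr k, commutatorElement_self, one_zpow, one_zpow, mul_one, ← zpow_mul,
          mul_comm β α]
      rw [hact a α hfw _ (hcom g k)] at hcomm
      have hdiv : (p : ℤ) ∣ α * β - α :=
        dvd_of_zpow_eq_one (hcomp g k) (hd1 k hgk) (by rw [zpow_sub, ← hcomm, mul_inv_cancel])
      rw [show α * β - α = α * (β - 1) by ring] at hdiv
      have hb : (p : ℤ) ∣ β - 1 :=
        ((Nat.prime_iff_prime_int.mp hp.out).dvd_mul.mp hdiv).resolve_left (hαp a α hfw)
      haveI hUn : (agemo p R).Normal := inferInstance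
      rw [hak, show k ^ β = k ^ (β - 1) * k by rw [← zpow_add_one]; ring_nf,
        show g ^ s * (k ^ (β - 1) * k) * w * k⁻¹
          = g ^ s * k ^ (β - 1) * (k * w * k⁻¹) by group]
      exact mul_mem (mul_mem (hpag g s hs) (hpag k _ hb)) (hUn.conj_mem w hw k)
    -- the norm map on the abelian group `R ⧸ ℧`
    haveI hcommV : IsMulCommutative (R ⧸ agemo p R) :=
      Subgroup.Normal.quotient_commutative_iff_commutator_le.mpr (commutator_le_agemo hR hidx)
    letI : CommGroup (R ⧸ agemo p R) :=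
      { (inferInstance : Group (R ⧸ agemo p R)) with mul_comm := hcommV.is_comm.comm }
    cases nonempty_fintype A
    let N : R →* R ⧸ agemo p R :=
      { toFun := fun y => ∏ a : A, ((φ a y : R) : R ⧸ agemo p R)
        map_one' := by simp
        map_mul' := fun y z => by simp [Finset.prod_mul_distrib] }
    refine ⟨N.ker, fun htop => ?_, fun a y => ?_⟩
    · have h1 : N k = 1 := MonoidHom.mem_ker.mp (htop.ge (mem_top k))
      have h2 : N k = (k : R ⧸ agemo p R) ^ Fintype.card A := by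
        show ∏ a : A, ((φ a k : R) : R ⧸ agemo p R) = _
        rw [Finset.prod_eq_pow_card (fun a _ => ?_), Finset.card_univ]
        rw [← mul_inv_eq_one, ← QuotientGroup.mk_inv, ← QuotientGroup.mk_mul,
          QuotientGroup.eq_one_iff]
        exact hfix a
      have h3 : (k : R ⧸ agemo p R) ^ p = 1 := by
        rw [← QuotientGroup.mk_pow, QuotientGroup.eq_one_iff]; exact pow_mem_agemo k
      have h4 : (k : R ⧸ agemo p R) = 1 := by
        have := pow_gcd_eq_one.mpr (And.intro (h2.symm.trans h1) h3)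
        rwa [← Nat.card_eq_fintype_card, hcop, pow_one] at this
      refine hd1 k hgk (hagc' k ((QuotientGroup.eq_one_iff k).mp h4) g)
    · rw [MonoidHom.mem_ker, map_mul, map_inv, mul_inv_eq_one]
      show ∏ b : A, ((φ b (φ a y) : R) : R ⧸ agemo p R) = ∏ b : A, ((φ b y : R) : R ⧸ agemo p R)
      exact Fintype.prod_equiv (Equiv.mulRight a) _ _ fun b => by
        show _ = ((φ (b * a) y : R) : R ⧸ agemo p R)
        rw [map_mul]; rfl

/-- BG 4.10, core: a `p'`-group acting on a nonabelian metacyclic `p`-group (`p` odd) acts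
trivially modulo some proper subgroup. -/
theorem exists_ne_top_of_metacyclic_action (hp2 : p ≠ 2) (hR : IsPGroup p R)
    (hm : Cfsg.IsMetacyclic R) (hna : ¬ IsMulCommutative R)
    {A : Type v} [Group A] [Finite A] (φ : A →* MulAut R) (hcop : (Nat.card A).Coprime p) :
    ∃ M : Subgroup R, M ≠ ⊤ ∧ ∀ a x, φ a x * x⁻¹ ∈ M := by
  obtain ⟨hcyc, hidx⟩ := agemo_facts_of_isMetacyclic (p := p) hm
  haveI := hcyc
  have hna' : ¬ ∀ x y : R, x * y = y * x := fun h => hna ⟨⟨h⟩⟩
  by_cases hcen : commutator R ≤ center R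
  swap
  · refine ⟨centralizer (commutator R : Set R), fun htop => hcen ?_, fun a x => ?_⟩
    · intro v hv
      rw [mem_center_iff]
      exact fun z => (mem_centralizer_iff.mp (htop.ge (mem_top z)) v hv).symm
    obtain ⟨r, hr⟩ :=
      MonoidHom.map_cyclic (MulAut.conjNormal (H := commutator R) x).toMonoidHom
    have hr' : ∀ d ∈ commutator R, x * d * x⁻¹ = d ^ r := fun d hd => by
      have := congrArg Subtype.val (hr ⟨d, hd⟩)
      simpa using this
    have hmap : ∀ b : MulAut R, ∀ d ∈ commutator R, b d ∈ commutator R := fun b d hd => by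
      have hmap : (commutator R).map b.toMonoidHom ≤ commutator R := by
        rw [_root_.commutator_def, map_commutator]
        exact commutator_mono le_top le_top
      exact hmap (mem_map_of_mem _ hd)
    rw [mem_centralizer_iff]
    intro d hd
    have hd' : x⁻¹ * d * x ∈ commutator R := by
      simpa using (inferInstance : (commutator R).Normal).conj_mem d hd x⁻¹
    have h1 : φ a x * (x⁻¹ * d * x) * (φ a x)⁻¹ = d := by
      have h2 := hr' _ (hmap (φ a)⁻¹ _ hd')
      have h3 := congrArg (φ a) h2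
      rw [map_mul, map_mul, map_inv, map_zpow, MulAut.apply_inv_self, ← hr' _ hd'] at h3
      rw [h3]; group
    calc d * (φ a x * x⁻¹) = φ a x * (x⁻¹ * d * x) * (φ a x)⁻¹ * (φ a x * x⁻¹) := by rw [h1]
      _ = φ a x * x⁻¹ * d := by group
  -- reduce modulo the `p`-th powers of `R'`
  obtain ⟨c, hc⟩ := IsCyclic.exists_generator (α := commutator R)
  have hcC : commutator R = zpowers (c : R) := by
    refine le_antisymm (fun v hv => ?_) (zpowers_le.mpr c.2)
    obtain ⟨k, hk⟩ := mem_zpowers_iff.mp (hc ⟨v, hv⟩)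
    exact mem_zpowers_iff.mpr ⟨k, by simpa using congrArg Subtype.val hk⟩
  set D := zpowers ((c : R) ^ p) with hD
  have hDz : D ≤ center R := zpowers_le.mpr (pow_mem (hcen c.2) p)
  haveI hDn : D.Normal := ⟨fun n hn g => by
    rw [mem_center_iff.mp (hDz hn) g, mul_inv_cancel_right]
    exact hn⟩
  have hc1 : (c : R) ≠ 1 := by
    intro h1
    refine hna' fun x y => commutatorElement_eq_one_iff_mul_comm.mp ?_
    have := hcC.le (commutator_mem_commutator (mem_top x) (mem_top y))
    rwa [h1, zpowers_one_eq_bot, mem_bot] at this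
  have hDinv : ∀ b : MulAut R, D.map (b : R →* R) = D := by
    intro b
    show D.map b.toMonoidHom = D
    refine eq_of_le_of_card_ge ?_ (le_of_eq
      (Subgroup.card_map_of_injective (f := b.toMonoidHom) b.injective).symm)
    rw [hD, MonoidHom.map_zpowers, zpowers_le]
    have hmap : (commutator R).map b.toMonoidHom ≤ commutator R := by
      rw [_root_.commutator_def, map_commutator]
      exact commutator_mono le_top le_top
    obtain ⟨k, hk⟩ := mem_zpowers_iff.mp (hcC.le (hmap (mem_map_of_mem _ c.2)))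
    refine mem_zpowers_iff.mpr ⟨k, ?_⟩
    rw [map_pow, ← hk, ← zpow_natCast, ← zpow_natCast, ← zpow_mul, ← zpow_mul, mul_comm]
  let ψ : A →* MulAut (R ⧸ D) :=
    { toFun := fun a => QuotientGroup.congr D D (φ a) (hDinv (φ a))
      map_one' := MulEquiv.ext fun q => by
        obtain ⟨y, rfl⟩ := QuotientGroup.mk_surjective q
        rw [QuotientGroup.congr_mk, map_one]; rfl
      map_mul' := fun a b => MulEquiv.ext fun q => by
        obtain ⟨y, rfl⟩ := QuotientGroup.mk_surjective q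
        rw [QuotientGroup.congr_mk, MulAut.mul_apply, QuotientGroup.congr_mk,
          QuotientGroup.congr_mk, map_mul]
        rfl }
  set π := QuotientGroup.mk' D with hπ
  have hcomR' : ∀ z : R, commutator R = zpowers z → commutator (R ⧸ D) = zpowers (π z) := by
    intro z hz
    rw [← MonoidHom.map_zpowers, ← hz, _root_.commutator_def, _root_.commutator_def,
      map_commutator, map_top_of_surjective π (QuotientGroup.mk'_surjective D)]
  have hcomR := hcomR' _ hcC
  have hidx' : (agemo p (R ⧸ D)).index ≤ p ^ 2 := by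
    refine le_trans (Nat.le_of_dvd (Nat.pos_of_ne_zero index_ne_zero_of_finite)
      ((index_dvd_of_le ?_).trans (index_map_dvd _ (QuotientGroup.mk'_surjective D)))) hidx
    rw [map_le_iff_le_comap, agemo, closure_le]
    rintro _ ⟨y, rfl⟩
    show π (y ^ p) ∈ agemo p (R ⧸ D)
    rw [map_pow]
    exact pow_mem_agemo _
  obtain ⟨M, hM, hMmem⟩ := exists_ne_top_of_class_two hp2 (hR.to_quotient D) hidx'
    (c := π (c : R))
    (fun h1 => hc1 (eq_one_of_mem_zpowers_pow hR ((QuotientGroup.eq_one_iff _).mp h1)))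
    (by rw [← map_pow]; exact (QuotientGroup.eq_one_iff _).mpr (mem_zpowers _)) hcomR
    (by
      rw [mem_center_iff]
      intro q
      obtain ⟨y, rfl⟩ := QuotientGroup.mk'_surjective D q
      rw [← map_mul, ← map_mul, mem_center_iff.mp (hcen c.2) y]) ψ hcop
  refine ⟨M.comap π, fun h1 => hM ?_, fun a x => ?_⟩
  · exact comap_injective (QuotientGroup.mk'_surjective D) (h1.trans (comap_top π).symm)
  · show π (φ a x * x⁻¹) ∈ M
    rw [map_mul, map_inv]
    exact hMmem a (x : R ⧸ D)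

end Core

/-- Subgroups of metacyclic groups are metacyclic. -/
theorem isMetacyclic_subgroup (H : Subgroup R) (hm : Cfsg.IsMetacyclic R) :
    Cfsg.IsMetacyclic H := by
  obtain ⟨N, hN, hNc, hQc⟩ := hm
  haveI := hN
  haveI := hNc
  haveI := hQc
  let f : H →* R ⧸ N := (QuotientGroup.mk' N).comp H.subtype
  refine ⟨f.ker, inferInstance, ?_, ?_⟩
  · exact isCyclic_of_injective
      ((H.subtype.comp f.ker.subtype).codRestrict N fun x => (QuotientGroup.eq_one_iff _).mp x.2)
      (fun x y h => Subtype.ext (Subtype.ext (congrArg Subtype.val h :)))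
  · exact isCyclic_of_injective (QuotientGroup.kerLift f) (QuotientGroup.kerLift_injective f)

theorem isMetacyclic_of_le {G : Type*} [Group G] {K L : Subgroup G} (hKL : K ≤ L)
    (hm : Cfsg.IsMetacyclic L) : Cfsg.IsMetacyclic K := by
  obtain ⟨N, hN, hNc, hQc⟩ := isMetacyclic_subgroup (K.subgroupOf L) hm
  haveI := hN
  haveI := hNc
  haveI := hQc
  let e := subgroupOfEquivOfLe hKL
  haveI : (N.map (e : K.subgroupOf L →* K)).Normal := hN.map _ e.surjective
  refine ⟨N.map (e : K.subgroupOf L →* K), inferInstance, isCyclic_of_surjective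
    (N.equivMapOfInjective (e : K.subgroupOf L →* K) e.injective).toMonoidHom
      (MulEquiv.surjective _),
    isCyclic_of_surjective (QuotientGroup.congr N _ e rfl).toMonoidHom (MulEquiv.surjective _)⟩

section Ambient

variable {G : Type*} [Group G] [Finite G] [hp : Fact p.Prime]

/-- BG 4.10: `⁅T, A⁆ = T` forces a metacyclic `T` to be abelian. -/
theorem isMulCommutative_of_commutator_eq (hp2 : p ≠ 2) {T A : Subgroup G} (hT : IsPGroup p T)
    (hm : Cfsg.IsMetacyclic T) (hA : A ≤ normalizer (T : Set G))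
    (hcop : (Nat.card A).Coprime p) (hTA : ⁅T, A⁆ = T) : IsMulCommutative T := by
  by_contra hna
  let φ : A →* MulAut T := (normalizerMonoidHom T).comp (inclusion hA)
  obtain ⟨M, hM, hMmem⟩ := exists_ne_top_of_metacyclic_action hp2 hT hm hna φ hcop
  apply hM
  have hle : T ≤ M.map T.subtype := by
    conv_lhs => rw [← hTA]
    rw [commutator_le]
    intro t ht a ha
    refine ⟨(φ ⟨a, ha⟩ ⟨t, ht⟩ * (⟨t, ht⟩ : T)⁻¹)⁻¹, inv_mem (hMmem _ _), ?_⟩
    show ((φ ⟨a, ha⟩ ⟨t, ht⟩ : T) * t⁻¹ : G)⁻¹ = ⁅t, a⁆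
    rw [show ((φ ⟨a, ha⟩ ⟨t, ht⟩ : T) : G) = a * t * a⁻¹ from rfl, commutatorElement_def]
    group
  rw [eq_top_iff]
  rintro ⟨x, hx⟩ -
  obtain ⟨y, hy, hyx⟩ := hle hx
  exact (Subtype.ext hyx : y = ⟨x, hx⟩) ▸ hy

/-- BG 4.10: the structure of a metacyclic `p`-group with coprime operators. -/
theorem metacyclic_action_facts (hp2 : p ≠ 2) (R A : Subgroup G) (hR : IsPGroup p R)
    (hm : Cfsg.IsMetacyclic R) (hA : A ≤ normalizer (R : Set G))
    (hcop : (Nat.card A).Coprime p) :
    IsMulCommutative ↥⁅R, A⁆ ∧ ⁅R, A⁆ ⊔ (R ⊓ centralizer (A : Set G)) = R ∧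
      ⁅R, A⁆ ⊓ (R ⊓ centralizer (A : Set G)) = ⊥ ∧
      (¬ IsMulCommutative R → ¬ A ≤ centralizer (R : Set G) →
        ⁅R, A⁆ ≠ ⊥ ∧ IsCyclic ↥⁅R, A⁆ ∧ (R ⊓ centralizer (A : Set G)) ≠ ⊥ ∧
          IsCyclic ↥(R ⊓ centralizer (A : Set G)) ∧ ⁅R, R⁆ ≤ ⁅R, A⁆) := by
  set T := ⁅R, A⁆ with hTdef
  set C := R ⊓ centralizer (A : Set G) with hCdef
  obtain ⟨n, hn⟩ := IsPGroup.iff_card.mp hR
  have hcopR : (Nat.card A).Coprime (Nat.card R) := by rw [hn]; exact hcop.pow_right n
  have hsolv : Group.IsSolvable R := by haveI := hR.isNilpotent; infer_instance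
  have hTR : T ≤ R := Coprime.commutator_le_of_le_normalizer hA
  have hAT : A ≤ normalizer (T : Set G) := normalizer_commutator_ge_right R A
  have hTT : ⁅T, A⁆ = T := Coprime.commutator_commutator_eq hA hcopR
  have hTab : IsMulCommutative T := isMulCommutative_of_commutator_eq hp2 (hR.to_le hTR)
    (isMetacyclic_of_le hTR hm) hAT hcop hTT
  have hsup : T ⊔ C = R := Coprime.commutator_sup_centralizer hA hcopR (Or.inr hsolv)
  have hinf : T ⊓ C = ⊥ := by
    rw [eq_bot_iff]
    intro x hx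
    have h1 := Coprime.inf_centralizer_inf_commutator_eq_bot hAT
      (hcopR.coprime_dvd_right (card_dvd_of_le hTR))
    rw [hTT] at h1
    exact h1.le ⟨⟨hx.1, hx.2.2⟩, hx.1⟩
  refine ⟨hTab, hsup, hinf, fun hna hncen => ?_⟩
  have hTne : T ≠ ⊥ := fun h => hncen (by
    rw [← commutator_eq_bot_iff_le_centralizer, commutator_comm]; exact h)
  have hCne : C ≠ ⊥ := fun h => hna (by rw [h, sup_bot_eq] at hsup; exact hsup ▸ hTab)
  -- a noncyclic factor would contain all elements of order `p`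
  have hcyc : ∀ X Y : Subgroup G, X ≤ R → Y ≤ R → X ⊓ Y = ⊥ → Y ≠ ⊥ → IsCyclic X := by
    intro X Y hX hY hXY hYne
    by_contra hnc
    obtain ⟨-, -, hX2⟩ := card_pow_eq_one_of_isMetacyclic hp2 (hR.to_le hX)
      (isMetacyclic_of_le hX hm)
    obtain ⟨-, hR2, -⟩ := card_pow_eq_one_of_isMetacyclic hp2 hR hm
    obtain ⟨y, hyY, -, hy⟩ : ∃ y, y ∈ Y ∧ True ∧ orderOf y = p := by
      obtain ⟨k, hk⟩ := IsPGroup.iff_card.mp (hR.to_le hY)
      obtain ⟨y, hy⟩ := exists_prime_orderOf_dvd_card' (G := Y) p (by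
        rw [hk]
        exact dvd_pow_self p (by rintro rfl; exact hYne (card_eq_one.mp (by simpa using hk))))
      exact ⟨y, y.2, trivial, by rwa [orderOf_coe]⟩
    let e : {x : X // x ^ p = 1} → {x : R // x ^ p = 1} := fun x =>
      ⟨⟨(x.1 : G), hX x.1.2⟩, Subtype.ext (by simpa using congrArg Subtype.val x.2)⟩
    have he : Function.Injective e := fun x x' hxx => Subtype.ext (Subtype.ext (by
      simpa [e] using congrArg (fun z : {x : R // x ^ p = 1} => ((z.1 : R) : G)) hxx))
    have hsurj : Function.Surjective e := (he.bijective_of_nat_card_le (by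
      rw [hX2 hnc]; exact hR2)).2
    obtain ⟨x, hx⟩ := hsurj ⟨⟨y, hY hyY⟩, Subtype.ext (by
      simp [← hy, pow_orderOf_eq_one])⟩
    have hxy : ((x.1 : X) : G) = y := by
      simpa [e] using congrArg (fun z : {x : R // x ^ p = 1} => ((z.1 : R) : G)) hx
    have : y ∈ X ⊓ Y := ⟨hxy ▸ x.1.2, hyY⟩
    rw [hXY, mem_bot] at this
    rw [this, orderOf_one] at hy
    exact hp.out.one_lt.ne hy
  have hCR : C ≤ R := inf_le_left
  have hCcyc : IsCyclic C := hcyc C T hCR hTR (inf_comm C T ▸ hinf) hTne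
  refine ⟨hTne, hcyc T C hTR hCR hinf hCne, hCne, hCcyc, ?_⟩
  have hRT : R ≤ normalizer (T : Set G) := normalizer_commutator_ge_left R A
  have hconj : ∀ z ∈ R, ∀ t ∈ T, z * t * z⁻¹ ∈ T := fun z hz t ht =>
    (mem_normalizer_iff.mp (hRT hz) t).mp ht
  rw [commutator_le]
  intro x hx y hy
  rw [← hsup] at hx hy
  obtain ⟨t1, ht1, c1, hc1, rfl⟩ := Coprime.exists_mul_of_mem_sup (hCR.trans hRT) hx
  obtain ⟨t2, ht2, c2, hc2, rfl⟩ := Coprime.exists_mul_of_mem_sup (hCR.trans hRT) hy
  have hcc : c1 * c2 = c2 * c1 := by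
    haveI := hCcyc
    letI := IsCyclic.commGroup (α := C)
    exact congrArg Subtype.val (mul_comm (⟨c1, hc1⟩ : C) ⟨c2, hc2⟩)
  have hid : ⁅t1 * c1, t2 * c2⁆ = t1 * (c1 * t2 * c1⁻¹) * (c2 * t1⁻¹ * c2⁻¹) * t2⁻¹ := by
    rw [commutatorElement_def]
    calc t1 * c1 * (t2 * c2) * (t1 * c1)⁻¹ * (t2 * c2)⁻¹
        = t1 * c1 * t2 * ((c2 * c1⁻¹) * t1⁻¹ * c2⁻¹) * t2⁻¹ := by group
      _ = t1 * c1 * t2 * ((c1⁻¹ * c2) * t1⁻¹ * c2⁻¹) * t2⁻¹ := by
          rw [show c2 * c1⁻¹ = c1⁻¹ * c2 from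
            ((show Commute c1 c2 from hcc).inv_left).eq.symm]
      _ = t1 * (c1 * t2 * c1⁻¹) * (c2 * t1⁻¹ * c2⁻¹) * t2⁻¹ := by group
  rw [hid]
  exact mul_mem (mul_mem (mul_mem ht1 (hconj _ (hCR hc1) _ ht2))
    (hconj _ (hCR hc2) _ (inv_mem ht1))) (inv_mem ht2)

end Ambient

end CfsgLib.OddOrder.BG4
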