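import Cfsg.Agent.OddOrder.BG4.Basic
import Cfsg.Agent.OddOrder.BG2.Abelem2
import Mathlib.LinearAlgebra.Matrix.GeneralLinearGroup.Card
import Mathlib.GroupTheory.SpecificGroups.Cyclic

/-!
# Automorphisms of `p`-groups of rank at most two (Bender–Glauberman 4.13, 4.17)

* `exists_reduction`: the automorphism group acts, with kernel a `p`-group, on an elementary
  abelian group of order at most `p²`.
* `prime_dvd_card_aut`: a prime `q ≠ p` dividing the order of an automorphism group divides
  `p² - 1` and is less than `p`.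
* `isPGroup_map_commutator`: a solvable group of odd order induces automorphisms whose derived
  group is a `p`-group.
-/

namespace CfsgLib.OddOrder.BG4

open Subgroup
open scoped commutatorElement

universe u

variable {R : Type u} [Group R] {p : ℕ}

theorem pRankLE_of_injective {H : Type*} [Group H] {k : ℕ} (f : H →* R)
    (hf : Function.Injective f) (h : Cfsg.PRankLE p k R) : Cfsg.PRankLE p k H := by
  intro A hA hAp
  haveI := hA
  rw [← Subgroup.card_map_of_injective (K := A) hf]
  refine h _ ⟨⟨?_⟩⟩ ?_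
  · rintro ⟨_, a, ha, rfl⟩ ⟨_, b, hb, rfl⟩
    exact Subtype.ext (show f a * f b = f b * f a by
      rw [← map_mul, ← map_mul, setLike_mul_comm (s := A) ha hb])
  · rintro _ ⟨a, ha, rfl⟩
    rw [← map_pow, hAp a ha, map_one]

theorem pRankLE_subgroup {k : ℕ} (H : Subgroup R) (h : Cfsg.PRankLE p k R) :
    Cfsg.PRankLE p k H :=
  pRankLE_of_injective H.subtype H.subtype_injective h

/-- A subgroup of automorphisms all of whose elements of order prime to `p` are trivial is a
`p`-group. -/
theorem isPGroup_of_coprime_trivial [Finite R] [hp : Fact p.Prime] {K : Subgroup (MulAut R)}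
    (h : ∀ a ∈ K, (orderOf a).Coprime p → a = 1) : IsPGroup p K := by
  rintro ⟨a, ha⟩
  have hpos : orderOf a ≠ 0 := (orderOf_pos a).ne'
  refine ⟨(orderOf a).factorization p, Subtype.ext ?_⟩
  show a ^ _ = 1
  refine h _ (K.pow_mem ha _) ?_
  rw [orderOf_pow' _ (pow_ne_zero _ hp.out.ne_zero),
    Nat.gcd_eq_right (Nat.ordProj_dvd _ _)]
  exact (Nat.coprime_ordCompl hp.out hpos).symm

/-- For odd `p` and rank at most two, the automorphism group acts with a `p`-group as kernel on an
elementary abelian group of order at most `p²`. -/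
theorem exists_reduction [Finite R] [hp : Fact p.Prime] (hp2 : p ≠ 2) (hR : IsPGroup p R)
    (hr : Cfsg.PRankLE p 2 R) :
    ∃ (V : Type u) (_ : Group V) (_ : Finite V) (ψ : MulAut R →* MulAut V),
      (∀ a b : V, a * b = b * a) ∧ (∀ a : V, a ^ p = 1) ∧ Nat.card V ≤ p ^ 2 ∧
        IsPGroup p ψ.ker := by
  obtain ⟨Q, hQc, hQp, hQclass, hQf⟩ := exists_critical_exponent hp2 hR
  haveI := hQc
  have hQr := pRankLE_subgroup Q hr
  have hQexp : ∀ x : Q, x ^ p = 1 := fun x => Subtype.ext (hQp x x.2)
  have hcard : Nat.card Q ≤ p ^ 3 := card_le_of_exponent hp2 hQexp hQr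
  -- it is enough to produce the group and the map on some type in any universe
  suffices h : ∃ (W : Subgroup Q) (_ : W.Characteristic),
      (∀ a b : Q ⧸ W, a * b = b * a) ∧ Nat.card (Q ⧸ W) ≤ p ^ 2 ∧
      ∀ a : MulAut R, (orderOf a).Coprime p →
        (∀ x : Q, (⟨a x, characteristic_iff_le_comap.mp hQc a x.2⟩ : Q)⁻¹ * x ∈ W) →
          ∀ x ∈ Q, a x = x by
    obtain ⟨W, hW, hcomm, hWcard, hfix⟩ := h
    haveI := hW
    let ψ₁ : MulAut R →* MulAut (Q ⧸ W) :=
      { toFun := fun a => QuotientGroup.congr W W (MulAut.characteristic Q a)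
          (characteristic_iff_map_eq.mp hW _)
        map_one' := by
          ext x
          obtain ⟨y, rfl⟩ := QuotientGroup.mk_surjective x
          rfl
        map_mul' := fun a b => by
          ext x
          obtain ⟨y, rfl⟩ := QuotientGroup.mk_surjective x
          rfl }
    refine ⟨Q ⧸ W, inferInstance, inferInstance, ψ₁, hcomm, ?_, hWcard, ?_⟩
    · intro a
      obtain ⟨y, rfl⟩ := QuotientGroup.mk_surjective a
      rw [← QuotientGroup.mk_pow, hQexp, QuotientGroup.mk_one]
    · refine isPGroup_of_coprime_trivial fun a ha hco => hQf a hco (hfix a hco fun x => ?_)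
      have h2 := DFunLike.congr_fun (MonoidHom.mem_ker.mp ha) (x : Q ⧸ W)
      exact QuotientGroup.eq.mp h2
  obtain ⟨n, hn⟩ := IsPGroup.iff_card.mp (hR.to_subgroup Q)
  by_cases hsmall : Nat.card Q ≤ p ^ 2
  · refine ⟨⊥, botCharacteristic, ?_, ?_, ?_⟩
    · have hn2 : n ≤ 2 := (Nat.pow_le_pow_iff_right hp.out.one_lt).mp (hn ▸ hsmall)
      have hQcomm : ∀ a b : Q, a * b = b * a := by
        interval_cases n
        · haveI : Subsingleton Q := (Nat.card_eq_one_iff_unique.mp (by simpa using hn)).1
          exact fun a b => Subsingleton.elim _ _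
        · haveI : IsCyclic Q := isCyclic_of_prime_card (p := p) (by simpa using hn)
          intro a b
          obtain ⟨g, hg⟩ := IsCyclic.exists_generator (α := Q)
          obtain ⟨i, rfl⟩ := mem_zpowers_iff.mp (hg a)
          obtain ⟨j, rfl⟩ := mem_zpowers_iff.mp (hg b)
          exact ((Commute.refl g).zpow_zpow i j).eq
        · exact IsPGroup.commutative_of_card_eq_prime_sq hn
      rintro ⟨a⟩ ⟨b⟩
      exact congrArg (QuotientGroup.mk' (⊥ : Subgroup Q)) (hQcomm a b)
    · exact le_of_eq_of_le (Nat.card_congr QuotientGroup.quotientBot.toEquiv) hsmall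
    · intro a _ h x hx
      have := mem_bot.mp (h ⟨x, hx⟩)
      rw [inv_mul_eq_one] at this
      exact congrArg Subtype.val this
  · -- order `p³`: nonabelian, centre of order `p`
    have hn3 : n = 3 := by
      have h1 := (Nat.pow_le_pow_iff_right hp.out.one_lt).mp (hn ▸ hcard)
      have h2 := (Nat.pow_lt_pow_iff_right hp.out.one_lt).mp (hn ▸ not_le.mp hsmall)
      omega
    subst hn3
    have hncomm : ¬ IsMulCommutative Q := fun hc => hsmall (by
      haveI := hc
      rw [← card_top (G := Q)]
      exact hQr ⊤ ⟨⟨fun a b => Subtype.ext (hc.is_comm.comm a.1 b.1)⟩⟩ fun a _ => hQexp a)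
    haveI : Nontrivial Q :=
      Finite.one_lt_card_iff_nontrivial.mp (by rw [hn]; exact Nat.one_lt_pow three_ne_zero hp.out.one_lt)
    obtain ⟨m, hm0, hm⟩ := IsPGroup.card_center_eq_prime_pow (p := p) hn (by norm_num)
    have hm1 : m = 1 := by
      have hle : m ≤ 3 := (Nat.pow_le_pow_iff_right hp.out.one_lt).mp (hm ▸ hn ▸ card_le_card_group _)
      by_contra hne
      have hidx : (center Q).index ∣ p := by
        have := card_mul_index (center Q)
        rw [hm, hn] at this
        have h3 : p ^ 3 = p ^ m * p ^ (3 - m) := by rw [← pow_add, Nat.add_sub_cancel' hle]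
        rw [h3] at this
        rw [Nat.eq_of_mul_eq_mul_left (pow_pos hp.out.pos m) this]
        exact (pow_dvd_pow p (by omega : 3 - m ≤ 1)).trans (pow_one p).dvd
      have hcyc : IsCyclic (Q ⧸ center Q) := by
        rcases (Nat.dvd_prime hp.out).mp hidx with h | h
        · haveI : Subsingleton (Q ⧸ center Q) :=
            (Nat.card_eq_one_iff_unique.mp ((index_eq_card _).symm.trans h)).1
          infer_instance
        · exact isCyclic_of_prime_card (p := p) ((index_eq_card _).symm.trans h)
      exact hncomm ⟨⟨commutative_of_cyclic_center_quotient (QuotientGroup.mk' (center Q)) (by simp)⟩⟩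
    subst hm1
    rw [pow_one] at hm
    have hccen : ∀ a b : Q, ⁅a, b⁆ ∈ center Q := fun a b =>
      mem_center_iff.mpr fun z => Subtype.ext (hQclass a a.2 b b.2 z z.2).eq.symm
    refine ⟨center Q, centerCharacteristic, ?_, ?_, ?_⟩
    · rintro ⟨a⟩ ⟨b⟩
      refine QuotientGroup.eq.mpr ?_
      rw [show (a * b)⁻¹ * (b * a) = ⁅b⁻¹, a⁻¹⁆ by rw [commutatorElement_def]; group]
      exact hccen _ _
    · rw [← index_eq_card]
      have := card_mul_index (center Q)
      rw [hm, hn] at this
      exact (Nat.eq_of_mul_eq_mul_left hp.out.pos (this.trans (by ring))).le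
    · intro a hco h x hx
      set φ : Q ≃* Q := MulAut.characteristic Q a with hφ
      have hφv : ∀ y : Q, (φ y : R) = a y := fun y => rfl
      have hd : ∀ y : Q, (φ y)⁻¹ * y ∈ center Q := h
      have hfixc : ∀ z ∈ center Q, φ z = z := by
        obtain ⟨u, w, huw⟩ : ∃ u w : Q, ⁅u, w⁆ ≠ 1 := by
          by_contra hno
          push Not at hno
          exact hncomm ⟨⟨fun u w => commutatorElement_eq_one_iff_mul_comm.mp (hno u w)⟩⟩
        have hfix : φ ⁅u, w⁆ = ⁅u, w⁆ := by
          rw [map_commutatorElement]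
          obtain ⟨s, hs, hsu⟩ : ∃ s ∈ center Q, φ u = u * s :=
            ⟨u⁻¹ * φ u, by simpa using inv_mem (hd u), by group⟩
          obtain ⟨t, ht, htw⟩ : ∃ t ∈ center Q, φ w = w * t :=
            ⟨w⁻¹ * φ w, by simpa using inv_mem (hd w), by group⟩
          have hs' := mem_center_iff.mp hs
          have ht' := mem_center_iff.mp ht
          rw [hsu, htw, commutatorElement_def, commutatorElement_def, hs' u, ht' w, mul_inv_rev,
            mul_inv_rev]
          calc s * u * (t * w) * (u⁻¹ * s⁻¹) * (w⁻¹ * t⁻¹)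
              = s * (u * t) * w * u⁻¹ * (s⁻¹ * w⁻¹) * t⁻¹ := by group
            _ = s * (t * u) * w * u⁻¹ * (w⁻¹ * s⁻¹) * t⁻¹ := by
              rw [ht' u, ← mul_inv_rev, hs' w, mul_inv_rev]
            _ = s * (t * (u * w * u⁻¹ * w⁻¹)) * s⁻¹ * t⁻¹ := by group
            _ = s * ((u * w * u⁻¹ * w⁻¹) * t) * s⁻¹ * t⁻¹ := by rw [← ht' (u * w * u⁻¹ * w⁻¹)]
            _ = (u * w * u⁻¹ * w⁻¹) * (s * t) * s⁻¹ * t⁻¹ := by
              rw [← mul_assoc s, ← hs' (u * w * u⁻¹ * w⁻¹)]; group
            _ = (u * w * u⁻¹ * w⁻¹) := by rw [← hs' t]; group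
        intro z hz
        have hne : (⟨⁅u, w⁆, hccen u w⟩ : center Q) ≠ 1 := fun hh =>
          huw (congrArg Subtype.val hh)
        obtain ⟨k, hk⟩ := mem_zpowers_iff.mp
          (zpowers_eq_top_of_prime_card hm hne ▸ mem_top (⟨z, hz⟩ : center Q))
        have hk' : ⁅u, w⁆ ^ k = z := by simpa using congrArg Subtype.val hk
        rw [← hk', map_zpow, hfix]
      set c := φ ⟨x, hx⟩ * (⟨x, hx⟩ : Q)⁻¹ with hc
      have hcc : φ c = c := hfixc c (by
        have := inv_mem (hd ⟨x, hx⟩)
        have h2 := (inferInstance : (center Q).Normal).conj_mem _ this ⟨x, hx⟩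
        rw [hc]
        simpa [mul_assoc] using h2)
      have hxc : φ ⟨x, hx⟩ = c * ⟨x, hx⟩ := by rw [hc]; group
      have h1 := autPow_apply (R := Q) hcc hxc (orderOf a)
      have h2 : φ ^ orderOf a = 1 := by
        rw [hφ, ← map_pow, pow_orderOf_eq_one, map_one]
      rw [h2, MulAut.one_apply] at h1
      have h3 : orderOf c ∣ orderOf a := orderOf_dvd_of_pow_eq_one (by simpa using h1.symm)
      have h4 : orderOf c ∣ p := orderOf_dvd_of_pow_eq_one (hQexp c)
      have h5 : c = 1 := orderOf_eq_one_iff.mp (Nat.eq_one_of_dvd_coprimes hco h3 h4)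
      rw [h5, one_mul] at hxc
      exact congrArg Subtype.val hxc

/-- The image of `ψ` into automorphisms of a group of prime or trivial order is commutative. -/
theorem mulAut_comm_of_cyclic {V : Type*} [Group V] [IsCyclic V] (a b : MulAut V) :
    a * b = b * a := by
  apply (IsCyclic.mulAutMulEquiv V).injective
  rw [map_mul, map_mul, mul_comm]

theorem isCyclic_of_card_le_prime {V : Type*} [Group V] [Finite V] [hp : Fact p.Prime]
    (hV : ∀ a : V, a ^ p = 1) (hcard : Nat.card V ≤ p ^ 2) (hne : Nat.card V ≠ p ^ 2) :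
    IsCyclic V := by
  obtain ⟨m, hm⟩ := IsPGroup.iff_card.mp (fun a => ⟨1, by simpa using hV a⟩ : IsPGroup p V)
  have hm2 := (Nat.pow_le_pow_iff_right hp.out.one_lt).mp (hm ▸ hcard)
  interval_cases m
  · haveI : Subsingleton V := (Nat.card_eq_one_iff_unique.mp (by simpa using hm)).1
    infer_instance
  · exact isCyclic_of_prime_card (p := p) (by simpa using hm)
  · exact absurd hm hne

/-- BG 4.13: prime divisors, other than `p`, of the order of a group of automorphisms of a `p`-group
of rank at most two. -/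
theorem prime_dvd_card_aut [Finite R] [hp : Fact p.Prime] (hp2 : p ≠ 2) (hR : IsPGroup p R)
    (hr : Cfsg.PRankLE p 2 R) {q : ℕ} (hq : q.Prime) (hqp : q ≠ p)
    (hdvd : q ∣ Nat.card (MulAut R)) : q ∣ p ^ 2 - 1 ∧ q < p := by
  obtain ⟨V, _, _, ψ, hcomm, hexp, hcard, hker⟩ := exists_reduction hp2 hR hr
  haveI : Fact q.Prime := ⟨hq⟩
  obtain ⟨a, ha⟩ := exists_prime_orderOf_dvd_card' (G := MulAut R) q hdvd
  have hψ : orderOf (ψ a) = q := by
    refine ((Nat.dvd_prime hq).mp (ha ▸ orderOf_map_dvd ψ a)).resolve_left fun h => ?_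
    obtain ⟨k, hk⟩ := IsPGroup.iff_orderOf.mp hker ⟨a, orderOf_eq_one_iff.mp h⟩
    rw [← Subgroup.orderOf_coe] at hk
    simp only at hk
    rw [ha] at hk
    rcases Nat.eq_zero_or_pos k with rfl | hk0
    · exact hq.ne_one (by simpa using hk)
    · exact hqp ((Nat.prime_dvd_prime_iff_eq hp.out hq).mp (hk ▸ dvd_pow_self p hk0.ne')).symm
  have hdvd' : q ∣ p ^ 2 - 1 := by
    by_cases h2 : Nat.card V = p ^ 2
    · obtain ⟨ρ, hρ⟩ := exists_matrix_rep_abelem_two (E := V) p hcomm hexp h2
      have hinj : Function.Injective ρ.toHomUnits := fun x y hxy => hρ (by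
        simpa using congrArg Units.val hxy)
      have h := (orderOf_injective ρ.toHomUnits hinj (ψ a)).trans hψ ▸
        orderOf_dvd_natCard (ρ.toHomUnits (ψ a))
      rw [Matrix.card_GL_field] at h
      simp only [Fintype.card_eq_nat_card, Nat.card_zmod] at h
      rw [Fin.prod_univ_two] at h
      rcases hq.dvd_mul.mp h with h | h
      · simpa using h
      · simp only [Fin.val_one, pow_one] at h
        rw [show p ^ 2 - p = p * (p - 1) by rw [Nat.mul_sub, mul_one, sq]] at h
        have h' := (hq.dvd_mul.mp h).resolve_left fun h' =>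
          hqp ((Nat.prime_dvd_prime_iff_eq hq hp.out).mp h')
        rw [show p ^ 2 - 1 = (p + 1) * (p - 1) by rw [← Nat.sq_sub_sq, one_pow]]
        exact h'.mul_left _
    · haveI := isCyclic_of_card_le_prime hexp hcard h2
      have h := hψ ▸ orderOf_dvd_natCard (ψ a)
      rw [IsCyclic.card_mulAut] at h
      obtain ⟨m, hm⟩ := IsPGroup.iff_card.mp (fun a => ⟨1, by simpa using hexp a⟩ : IsPGroup p V)
      have hm2 := (Nat.pow_le_pow_iff_right hp.out.one_lt).mp (hm ▸ hcard)
      rw [hm] at h
      interval_cases m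
      · exact absurd (Nat.le_of_dvd one_pos (by simpa using h)) (by have := hq.two_le; omega)
      · rw [pow_one, Nat.totient_prime hp.out] at h
        rw [show p ^ 2 - 1 = (p + 1) * (p - 1) by rw [← Nat.sq_sub_sq, one_pow]]
        exact h.mul_left _
      · exact absurd hm h2
  refine ⟨hdvd', ?_⟩
  rw [show p ^ 2 - 1 = (p + 1) * (p - 1) by rw [← Nat.sq_sub_sq, one_pow]] at hdvd'
  have hp3 : 3 ≤ p := by have := hp.out.two_le; omega
  rcases hq.dvd_mul.mp hdvd' with h | h
  · obtain ⟨c, hc⟩ := h
    rcases c with _ | _ | c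
    · omega
    · simp only [zero_add, mul_one] at hc
      have h2 : q = 2 := by
        rcases hq.eq_two_or_odd with h | h
        · exact h
        · rcases hp.out.eq_two_or_odd with h' | h' <;> omega
      omega
    · nlinarith
  · have := Nat.le_of_dvd (by omega) h
    omega

/-- BG 4.17: a solvable group of odd order acting on a `p`-group of rank at most two (`p` odd)
induces a group of automorphisms whose derived group is a `p`-group. -/
theorem isPGroup_map_commutator [Finite R] [hp : Fact p.Prime] (hp2 : p ≠ 2) (hR : IsPGroup p R)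
    (hr : Cfsg.PRankLE p 2 R) {A : Type*} [Group A] [Finite A] [Group.IsSolvable A]
    (hodd : Odd (Nat.card A)) (φ : A →* MulAut R) : IsPGroup p ((commutator A).map φ) := by
  obtain ⟨V, _, _, ψ, hcomm, hexp, hcard, hker⟩ := exists_reduction hp2 hR hr
  have key : ∀ x ∈ commutator A, ψ (φ x) ^ p = 1 := by
    intro x hx
    by_cases h2 : Nat.card V = p ^ 2
    · obtain ⟨ρ, hρ⟩ := exists_matrix_rep_abelem_two (E := V) p hcomm hexp h2
      have h := rep_two_pow_char_of_mem_commutator hodd p (ρ.comp (ψ.comp φ)) hx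
      exact hρ (by rw [map_pow, map_one]; exact h)
    · haveI := isCyclic_of_card_le_prime hexp hcard h2
      have hk : commutator A ≤ (ψ.comp φ).ker := by
        rw [commutator_eq_closure, Subgroup.closure_le]
        rintro _ ⟨g, h, rfl⟩
        rw [SetLike.mem_coe, MonoidHom.mem_ker, map_commutatorElement,
          commutatorElement_eq_one_iff_mul_comm]
        exact mulAut_comm_of_cyclic _ _
      rw [show ψ (φ x) = 1 from hk hx, one_pow]
  rintro ⟨_, x, hx, rfl⟩
  obtain ⟨k, hk⟩ := hker ⟨φ x ^ p, by rw [MonoidHom.mem_ker, map_pow]; exact key x hx⟩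
  refine ⟨k + 1, Subtype.ext ?_⟩
  have := congrArg Subtype.val hk
  simp only [SubmonoidClass.coe_pow, OneMemClass.coe_one] at this ⊢
  rw [pow_succ', pow_mul]
  exact this

end CfsgLib.OddOrder.BG4
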