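import Cfsg.Agent.OddOrder.BG4.Aut2
import Cfsg.Prelude.Def_PLocal

/-!
# Elements of order `p` in `p`-groups of rank at most two, `p > 3` (Bender–Glauberman 4.6–4.9)

* `mul_pow_class_three`: `(x * y) ^ p = x ^ p * y ^ p` in class at most three for `p > 3`, when
  the commutators have exponent `p`.
* `mul_pow_eq_one_of_rank_two`, `omegaSubgroup`, `mem_omegaOne_iff`: for `p > 3` and rank at most
  two the elements with `x ^ p = 1` form a subgroup of order at most `p³`.
* `card_pow_eq_one_quotient_le`: the bound `p²` on that set passes to quotients.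
-/

namespace CfsgLib.OddOrder.BG4

open Subgroup
open scoped commutatorElement

universe u

variable {R : Type u} [Group R] {p : ℕ}

section ClassThree

variable {x y c A B : R}

theorem shift_pow (hA : ∀ z, Commute A z) (h : c * x = x * c * A) (i : ℕ) :
    c ^ i * x = x * c ^ i * A ^ i := by
  induction i with
  | zero => simp
  | succ i ih =>
    calc c ^ (i + 1) * x = c * (c ^ i * x) := by rw [pow_succ', mul_assoc]
      _ = (c * x) * (c ^ i * A ^ i) := by rw [ih]; group
      _ = x * c * (A * c ^ i) * A ^ i := by rw [h]; group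
      _ = x * c ^ (i + 1) * A ^ (i + 1) := by
          rw [(hA (c ^ i)).eq, pow_succ' A i, pow_succ' c i]
          group

theorem mul_pow_general (hA : ∀ z, Commute A z) (hB : ∀ z, Commute B z)
    (hcx : c * x = x * c * A) (hcy : c * y = y * c * B) (hyx : y * x = c * (x * y)) (n : ℕ) :
    (x * y) ^ n = x ^ n * y ^ n * c ^ n.choose 2 * A ^ (n.choose 3 + n.choose 2) *
      B ^ (2 * n.choose 3 + 2 * n.choose 2) := by
  -- `P k l` is the central element `A ^ k * B ^ l`
  set P : ℕ → ℕ → R := fun k l => A ^ k * B ^ l with hP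
  have hPc : ∀ k l z, P k l * z = z * P k l := fun k l z =>
    (((hA z).pow_left k).mul_left ((hB z).pow_left l)).eq
  have hPm : ∀ k l k' l', P k l * P k' l' = P (k + k') (l + l') := fun k l k' l' => by
    simp only [hP]
    rw [pow_add, pow_add, mul_assoc, ← mul_assoc (B ^ l), ((hB (A ^ k')).pow_left l).eq]
    group
  have hcy' : ∀ i, c ^ i * y = y * c ^ i * P 0 i := fun i => by
    simpa [hP] using shift_pow hB hcy i
  have hcx' : ∀ i, c ^ i * x = x * c ^ i * P i 0 := fun i => by
    simpa [hP] using shift_pow hA hcx i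
  have hcyn : ∀ i m, c ^ i * y ^ m = y ^ m * c ^ i * P 0 (i * m) := by
    intro i m
    induction m with
    | zero => simp [hP]
    | succ m ih =>
      calc c ^ i * y ^ (m + 1) = c ^ i * y ^ m * y := by rw [pow_succ, mul_assoc]
        _ = y ^ m * (c ^ i * y) * P 0 (i * m) := by rw [ih, mul_assoc _ _ y, hPc]; group
        _ = y ^ m * y * c ^ i * (P 0 i * P 0 (i * m)) := by rw [hcy']; group
        _ = y ^ (m + 1) * c ^ i * P 0 (i * (m + 1)) := by
            rw [hPm, pow_succ, show i + i * m = i * (m + 1) by ring]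
  -- moving `x` through powers of `y`
  have hyn : ∀ n : ℕ, y ^ n * x = x * y ^ n * c ^ n * P n (n.choose 2 + n) := by
    intro n
    induction n with
    | zero => simp [hP]
    | succ n ih =>
      have h1 : y * x = x * y * c * P 1 1 := by
        calc y * x = (c ^ 1 * x) * y := by rw [hyx, pow_one]; group
          _ = x * (c ^ 1 * y) * P 1 0 := by rw [hcx', mul_assoc _ _ y, hPc]; group
          _ = x * y * c ^ 1 * (P 0 1 * P 1 0) := by rw [hcy']; group
          _ = x * y * c * P 1 1 := by rw [hPm, pow_one]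
      calc y ^ (n + 1) * x = y * (y ^ n * x) := by rw [pow_succ', mul_assoc]
        _ = (y * x) * y ^ n * c ^ n * P n (n.choose 2 + n) := by rw [ih]; group
        _ = x * y * (c ^ 1 * y ^ n) * c ^ n * (P 1 1 * P n (n.choose 2 + n)) := by
            rw [h1]
            calc x * y * c * P 1 1 * y ^ n * c ^ n * P n (n.choose 2 + n)
                = x * y * c * (P 1 1 * (y ^ n * c ^ n)) * P n (n.choose 2 + n) := by group
              _ = _ := by rw [hPc]; group
        _ = x * y ^ (n + 1) * (c ^ (n + 1)) * (P 0 (1 * n) * (P 1 1 * P n (n.choose 2 + n))) := by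
            rw [hcyn]
            calc x * y * (y ^ n * c ^ 1 * P 0 (1 * n)) * c ^ n * (P 1 1 * P n (n.choose 2 + n))
                = x * y * y ^ n * c ^ 1 * (P 0 (1 * n) * c ^ n) * (P 1 1 * P n (n.choose 2 + n)) := by
                  group
              _ = _ := by rw [hPc, pow_succ' y, pow_succ' c]; group
        _ = x * y ^ (n + 1) * c ^ (n + 1) * P (n + 1) ((n + 1).choose 2 + (n + 1)) := by
            rw [hPm, hPm, Nat.choose_succ_succ', Nat.choose_one_right]
            congr 2 <;> ring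
  have hmain : (x * y) ^ n =
      x ^ n * y ^ n * c ^ n.choose 2 * P (n.choose 3 + n.choose 2) (2 * n.choose 3 + 2 * n.choose 2) := by
    induction n with
    | zero => simp [hP]
    | succ n ih =>
      set i := n.choose 2 with hi
      set j := n.choose 3 + n.choose 2
      set k := 2 * n.choose 3 + 2 * n.choose 2
      calc (x * y) ^ (n + 1) = x ^ n * y ^ n * c ^ i * (P j k * (x * y)) := by
            rw [pow_succ, ih]; group
        _ = x ^ n * y ^ n * (c ^ i * x) * y * P j k := by rw [hPc]; group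
        _ = x ^ n * (y ^ n * x) * (c ^ i * y) * (P i 0 * P j k) := by
            rw [hcx']
            calc x ^ n * y ^ n * (x * c ^ i * P i 0) * y * P j k
                = x ^ n * y ^ n * x * c ^ i * (P i 0 * y) * P j k := by group
              _ = _ := by rw [hPc]; group
        _ = x ^ (n + 1) * y ^ n * c ^ n * (P n (i + n) * (c ^ i * y)) * (P i 0 * P j k) := by
            rw [hyn, pow_succ x, ← hi]; group
        _ = x ^ (n + 1) * y ^ n * (c ^ (n + i) * y) * (P n (i + n) * (P i 0 * P j k)) := by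
            rw [hPc, pow_add c]; group
        _ = x ^ (n + 1) * y ^ (n + 1) * c ^ (n + i) *
              (P 0 (n + i) * (P n (i + n) * (P i 0 * P j k))) := by
            rw [hcy', pow_succ y]; group
        _ = _ := by
            have e2 : (n + 1).choose 2 = n + i := by
              rw [Nat.choose_succ_succ', Nat.choose_one_right]
            have e3 : (n + 1).choose 3 = i + n.choose 3 := by rw [Nat.choose_succ_succ']
            rw [hPm, hPm, hPm, e2, e3]
            congr 2 <;> omega
  rw [hmain]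
  simp only [hP]
  group

/-- Class at most three with commutators of exponent `p > 3`: the `p`-th power is multiplicative. -/
theorem mul_pow_class_three [hp : Fact p.Prime] (hp3 : 3 < p) {x y : R}
    (ha : ∀ z, Commute ⁅x, ⁅y, x⁆⁆ z) (hb : ∀ z, Commute ⁅y, ⁅y, x⁆⁆ z)
    (hc : ⁅y, x⁆ ^ p = 1) (hap : ⁅x, ⁅y, x⁆⁆ ^ p = 1) (hbp : ⁅y, ⁅y, x⁆⁆ ^ p = 1) :
    (x * y) ^ p = x ^ p * y ^ p := by
  set c := ⁅y, x⁆ with hcdef
  have key : ∀ w : R, (∀ z, Commute ⁅w, c⁆ z) → c * w = w * c * ⁅w, c⁆⁻¹ := fun w hw => by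
    rw [← ((hw (w * c)).inv_left).eq, commutatorElement_def]
    group
  rw [mul_pow_general (A := ⁅x, c⁆⁻¹) (B := ⁅y, c⁆⁻¹) (fun z => (ha z).inv_left)
    (fun z => (hb z).inv_left) (key x ha) (key y hb)
    (by rw [hcdef, commutatorElement_def]; group) p]
  obtain ⟨k2, hk2⟩ := hp.out.dvd_choose_self (k := 2) (by norm_num) (by omega)
  obtain ⟨k3, hk3⟩ := hp.out.dvd_choose_self (k := 3) (by norm_num) hp3
  rw [hk2, hk3, ← mul_add, pow_mul c, hc, one_pow, mul_one, pow_mul, inv_pow, hap, inv_one,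
    one_pow, mul_one, show 2 * (p * k3) + 2 * (p * k2) = p * (2 * k3 + 2 * k2) by ring, pow_mul,
    inv_pow, hbp, inv_one, one_pow, mul_one]

end ClassThree

/-- Commutators with a normal subgroup of order at most `p²` are central. -/
theorem commutator_mem_center_of_card_le [Finite R] [hp : Fact p.Prime] (hR : IsPGroup p R)
    {N : Subgroup R} [hN : N.Normal] (hcard : Nat.card N ≤ p ^ 2) {n : R} (hn : n ∈ N) (g : R) :
    ⁅g, n⁆ ∈ center R := by
  rcases eq_or_ne N ⊥ with rfl | hne
  · rw [mem_bot.mp hn, commutatorElement_one_right]; exact one_mem _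
  obtain ⟨z, hzN, hzc, hzo⟩ := exists_central_orderOf_prime hR hne
  set Z := zpowers z with hZ
  have hZc : Z ≤ center R := zpowers_le.mpr hzc
  have hZN : Z ≤ N := zpowers_le.mpr hzN
  haveI hZn : Z.Normal := ⟨fun x hx g => by
    rwa [mem_center_iff.mp (hZc hx) g, mul_inv_cancel_right]⟩
  haveI : (N.map (QuotientGroup.mk' Z)).Normal := hN.map _ (QuotientGroup.mk'_surjective Z)
  set Nb := N.map (QuotientGroup.mk' Z) with hNb
  have hmul : Nat.card Nb * p = Nat.card N := by
    have h := card_mul_index (Z.subgroupOf N)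
    rw [Nat.card_congr (subgroupOfEquivOfLe hZN).toEquiv, Nat.card_zpowers, hzo] at h
    rw [← h, mul_comm]
    congr 1
    rw [hNb, ← relIndex_bot_left (N.map _), ← Subgroup.map_bot (QuotientGroup.mk' Z),
      relIndex_map_map, QuotientGroup.ker_mk', bot_sup_eq, sup_eq_left.mpr hZN]
    rfl
  have hle : Nat.card Nb ≤ p := by
    refine Nat.le_of_mul_le_mul_right ?_ hp.out.pos
    rw [hmul, ← sq]; exact hcard
  refine hZc ((QuotientGroup.eq_one_iff _).mp ?_)
  rw [← QuotientGroup.mk'_apply, map_commutatorElement, commutatorElement_eq_one_iff_mul_comm]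
  rcases ((hR.to_quotient Z).to_subgroup Nb).card_eq_or_dvd with h | h
  · have := (Subgroup.card_eq_one.mp h).le (mem_map_of_mem (QuotientGroup.mk' Z) hn)
    rw [mem_bot.mp this, mul_one, one_mul]
  · exact mem_center_iff.mp (le_center_of_normal_card_prime (hR.to_quotient Z)
      (le_antisymm hle (Nat.le_of_dvd Nat.card_pos h)) (mem_map_of_mem _ hn)) _

/-- BG 4.9: for `p > 3` and rank at most two, the elements of order dividing `p` are closed under
multiplication. -/
theorem mul_pow_eq_one_of_rank_two [Finite R] [hp : Fact p.Prime] (hp3 : 3 < p)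
    (hR : IsPGroup p R) (hr : Cfsg.PRankLE p 2 R) :
    ∀ x y : R, x ^ p = 1 → y ^ p = 1 → (x * y) ^ p = 1 := by
  suffices h : ∀ n, ∀ x y : R, Nat.card (closure {x, y} : Subgroup R) ≤ n → x ^ p = 1 →
      y ^ p = 1 → (x * y) ^ p = 1 from fun x y => h _ x y le_rfl
  intro n
  induction n using Nat.strong_induction_on with
  | _ n ihn =>
  intro x y hn hxp hyp
  set H : Subgroup R := closure {x, y} with hH
  have hxH : x ∈ H := subset_closure (by simp)
  have hyH : y ∈ H := subset_closure (by simp)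
  by_cases hxy : Commute x y
  · rw [hxy.mul_pow, hxp, hyp, one_mul]
  haveI := (hR.to_subgroup H).isNilpotent
  have hne : zpowers (⟨x, hxH⟩ : H) ≠ ⊤ := fun h => hxy (by
    obtain ⟨k, hk⟩ := mem_zpowers_iff.mp (h ▸ mem_top (⟨y, hyH⟩ : H))
    have : x ^ k = y := by simpa using congrArg Subtype.val hk
    exact this ▸ (Commute.refl x).zpow_right k)
  obtain ⟨M, hM, hxM⟩ := (IsCoatomic.eq_top_or_exists_le_coatom _).resolve_left hne
  have hMn : M.Normal :=
    NormalizerCondition.normal_of_coatom M Group.normalizerCondition_of_isNilpotent hM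
  have hlt : Nat.card (M.map H.subtype) < n := by
    rw [card_map_of_injective H.subtype_injective]
    refine lt_of_lt_of_le ?_ hn
    exact lt_of_le_of_ne (Nat.card_le_card_of_injective _ Subtype.val_injective)
      fun h => hM.1 ((card_eq_iff_eq_top M).mp h)
  -- the elements of order dividing `p` of `M`
  let W : Subgroup H :=
    { carrier := {m | m ∈ M ∧ m ^ p = 1}
      one_mem' := ⟨one_mem _, one_pow _⟩
      mul_mem' := fun {a b} ha hb => ⟨mul_mem ha.1 hb.1, Subtype.ext (by
        have h1 : Nat.card (closure {(a : R), (b : R)} : Subgroup R) ≤ Nat.card (M.map H.subtype) :=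
          Subgroup.card_le_of_le ((closure_le _).mpr (by
            rintro z (rfl | rfl)
            · exact ⟨a, ha.1, rfl⟩
            · exact ⟨b, hb.1, rfl⟩))
        have h2 : ((a : R) * b) ^ p = 1 := ihn _ hlt _ _ h1
          (by simpa using congrArg Subtype.val ha.2) (by simpa using congrArg Subtype.val hb.2)
        simpa using h2)⟩
      inv_mem' := fun {a} ha => ⟨inv_mem ha.1, by simp [ha.2]⟩ }
  haveI hWn : W.Normal := ⟨fun a ha g => ⟨hMn.conj_mem a ha.1 g, by rw [conj_pow, ha.2]; group⟩⟩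
  have hxW : (⟨x, hxH⟩ : H) ∈ W := ⟨hxM (mem_zpowers _), Subtype.ext (by simpa using hxp)⟩
  have hcl : closure {(⟨x, hxH⟩ : H), ⟨y, hyH⟩} = ⊤ := by
    apply map_injective H.subtype_injective
    rw [MonoidHom.map_closure, ← MonoidHom.range_eq_map, range_subtype]
    simp [Set.image_pair, hH]
  have hsup : W ⊔ zpowers (⟨y, hyH⟩ : H) = ⊤ := by
    rw [eq_top_iff, ← hcl, closure_le]
    rintro z (rfl | rfl)
    · exact mem_sup_left hxW
    · exact mem_sup_right (mem_zpowers _)
  have hcW : commutator H ≤ W :=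
    Subgroup.Normal.commutator_le_of_self_sup_commutative_eq_top hsup inferInstance
  have hWcard : Nat.card W ≤ p ^ 3 :=
    card_le_of_exponent (by omega) (fun w => Subtype.ext w.2.2)
      (pRankLE_subgroup W (pRankLE_subgroup H hr))
  have hxnot : (⟨x, hxH⟩ : H) ∉ commutator H := by
    intro hxc
    obtain ⟨hfc, -, -⟩ := Stab.frattini_facts (hR.to_subgroup H)
    have hcF : commutator H ≤ frattini H := by
      rw [commutator_eq_closure, Subgroup.closure_le]
      rintro _ ⟨a, b, rfl⟩
      exact hfc a b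
    have hy : zpowers (⟨y, hyH⟩ : H) = ⊤ := frattini_nongenerating (top_unique (by
      rw [← hcl, closure_le]
      rintro z (rfl | rfl)
      · exact mem_sup_right (hcF hxc)
      · exact mem_sup_left (mem_zpowers _)))
    obtain ⟨k, hk⟩ := mem_zpowers_iff.mp (hy ▸ mem_top (⟨x, hxH⟩ : H))
    have : y ^ k = x := by simpa using congrArg Subtype.val hk
    exact hxy (this ▸ ((Commute.refl y).zpow_left k))
  have hccard : Nat.card (commutator H) ≤ p ^ 2 := by
    obtain ⟨i, hi⟩ := IsPGroup.iff_card.mp ((hR.to_subgroup H).to_subgroup (commutator H))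
    have hlt' : Nat.card (commutator H) < Nat.card W :=
      Set.ncard_lt_ncard (SetLike.coe_ssubset_coe.mpr
        (lt_of_le_of_ne hcW fun h => hxnot (h.ge hxW))) (Set.toFinite _)
    rw [hi] at hlt' ⊢
    have := (Nat.pow_lt_pow_iff_right hp.out.one_lt).mp (hlt'.trans_le hWcard)
    exact Nat.pow_le_pow_right hp.out.pos (by omega)
  have hmem : ∀ a b : H, ⁅a, b⁆ ∈ commutator H := fun a b =>
    commutator_mem_commutator (mem_top a) (mem_top b)
  have hcomc : ∀ w : H, ∀ n ∈ commutator H, ∀ z : H, Commute ⁅w, n⁆ z := fun w n hn' z =>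
    (mem_center_iff.mp (commutator_mem_center_of_card_le (hR.to_subgroup H) hccard hn' w) z).symm
  have hpow : ∀ n ∈ commutator H, n ^ p = 1 := fun n hn' => (hcW hn').2
  have h := mul_pow_class_three hp3 (x := (⟨x, hxH⟩ : H)) (y := ⟨y, hyH⟩)
    (hcomc _ _ (hmem _ _)) (hcomc _ _ (hmem _ _)) (hpow _ (hmem _ _)) (hpow _ (hmem _ _))
    (hpow _ (hmem _ _))
  have h' : (x * y) ^ p = x ^ p * y ^ p := by simpa using congrArg Subtype.val h
  rw [h', hxp, hyp, one_mul]

/-- For `p > 3` and rank at most two: the subgroup of elements with `x ^ p = 1`. -/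
def omegaSubgroup [Finite R] [Fact p.Prime] (hp3 : 3 < p) (hR : IsPGroup p R)
    (hr : Cfsg.PRankLE p 2 R) : Subgroup R where
  carrier := {x | x ^ p = 1}
  one_mem' := one_pow p
  mul_mem' := fun {a b} => mul_pow_eq_one_of_rank_two hp3 hR hr a b
  inv_mem' := fun {a} (ha : a ^ p = 1) => show a⁻¹ ^ p = 1 by simp [ha]

theorem mem_omegaOne_iff [Finite R] [Fact p.Prime] (hp3 : 3 < p) (hR : IsPGroup p R)
    (hr : Cfsg.PRankLE p 2 R) {x : R} : x ∈ Cfsg.omegaOne p (⊤ : Subgroup R) ↔ x ^ p = 1 := by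
  constructor
  · exact fun hx => (closure_le (K := omegaSubgroup hp3 hR hr)).mpr (fun y hy => hy.2) hx
  · exact fun hx => subset_closure ⟨mem_top x, hx⟩

theorem card_pow_eq_one_le [Finite R] [hp : Fact p.Prime] (hp3 : 3 < p) (hR : IsPGroup p R)
    (hr : Cfsg.PRankLE p 2 R) : Nat.card {x : R // x ^ p = 1} ≤ p ^ 3 :=
  card_le_of_exponent (R := omegaSubgroup hp3 hR hr) (by omega) (fun w => Subtype.ext w.2)
    (pRankLE_subgroup _ hr)

theorem pRankLE_of_card_pow_eq_one [Finite R] {k : ℕ}
    (h : Nat.card {x : R // x ^ p = 1} ≤ p ^ k) : Cfsg.PRankLE p k R := by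
  intro A _ hA
  let f : A → {x : R // x ^ p = 1} := fun a => ⟨(a : R), hA a a.2⟩
  refine (Nat.card_le_card_of_injective f fun a b hab => Subtype.ext ?_).trans h
  exact congrArg (fun w : {x : R // x ^ p = 1} => (w : R)) hab

theorem card_pow_eq_one_le_of_omegaOne [Finite R] {m : ℕ}
    (h : Nat.card (Cfsg.omegaOne p (⊤ : Subgroup R)) ≤ m) :
    Nat.card {x : R // x ^ p = 1} ≤ m := by
  let f : {x : R // x ^ p = 1} → (Cfsg.omegaOne p (⊤ : Subgroup R) : Subgroup R) :=
    fun x => ⟨(x : R), Subgroup.subset_closure ⟨mem_top _, x.2⟩⟩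
  refine (Nat.card_le_card_of_injective f fun a b hab => Subtype.ext ?_).trans h
  exact congrArg (fun w : (Cfsg.omegaOne p (⊤ : Subgroup R) : Subgroup R) => (w : R)) hab

theorem card_omegaOne_eq [Finite R] [hp : Fact p.Prime] (hp3 : 3 < p) (hR : IsPGroup p R)
    (hr : Cfsg.PRankLE p 2 R) :
    Nat.card (Cfsg.omegaOne p (⊤ : Subgroup R)) = Nat.card {x : R // x ^ p = 1} :=
  Nat.card_congr (Equiv.subtypeEquivRight fun _ => mem_omegaOne_iff hp3 hR hr)

theorem card_quotient_central_prime [Finite R] [hp : Fact p.Prime] (hp3 : 3 < p)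
    (hR : IsPGroup p R) (hE : Nat.card {x : R // x ^ p = 1} ≤ p ^ 2) (Z : Subgroup R) [Z.Normal]
    (hZ : Nat.card Z = p) : Nat.card {x : R ⧸ Z // x ^ p = 1} ≤ p ^ 2 := by
  have hZc := le_center_of_normal_card_prime hR hZ
  -- the general step: a subgroup of exponent `p` and order at least `p³` of `R ⧸ Z` is impossible
  have key : ∀ X : Subgroup (R ⧸ Z), (∀ x ∈ X, x ^ p = 1) → p ^ 3 ≤ Nat.card X →
      (∀ a ∈ X, ∀ b ∈ X, ∀ d ∈ X, Commute ⁅a, b⁆ d) → False := by
    intro X hXp hXcard hXcl
    set Y := X.comap (QuotientGroup.mk' Z) with hY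
    have hYp : ∀ y ∈ Y, y ^ p ∈ Z := fun y hy => by
      rw [← QuotientGroup.eq_one_iff, QuotientGroup.mk_pow]; exact hXp _ hy
    have hcen : ∀ z ∈ Z, ∀ w : R, Commute z w := fun z hz w => (mem_center_iff.mp (hZc hz) w).symm
    have hcl3 : ∀ a ∈ Y, ∀ b ∈ Y, ∀ d ∈ Y, ⁅d, ⁅a, b⁆⁆ ∈ Z := by
      intro a ha b hb d hd
      rw [← QuotientGroup.eq_one_iff, ← QuotientGroup.mk'_apply, map_commutatorElement,
        map_commutatorElement, commutatorElement_eq_one_iff_mul_comm]
      exact ((hXcl _ ha _ hb _ hd).eq).symm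
    have hcp : ∀ a ∈ Y, ∀ b ∈ Y, ⁅a, b⁆ ^ p = 1 := by
      intro a ha b hb
      set e := ⁅a, b⁆
      have hee : ∀ w, Commute ⁅a, e⁆ w := hcen _ (hcl3 a ha b hb a ha)
      have h1 : a * e * a⁻¹ = ⁅a, e⁆ * e := by rw [commutatorElement_def a e]; group
      have h2 : a * b * a⁻¹ = e * b := by
        show _ = ⁅a, b⁆ * b
        rw [commutatorElement_def]; group
      have hn : ∀ n : ℕ, a ^ n * b * (a ^ n)⁻¹ = e ^ n * ⁅a, e⁆ ^ n.choose 2 * b := by
        intro n
        induction n with
        | zero => simp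
        | succ n ih =>
          have h3 : a * e ^ n * a⁻¹ = ⁅a, e⁆ ^ n * e ^ n := by
            rw [← conj_pow, h1, (hee e).mul_pow]
          calc a ^ (n + 1) * b * (a ^ (n + 1))⁻¹ = a * (a ^ n * b * (a ^ n)⁻¹) * a⁻¹ := by
                rw [pow_succ']; group
            _ = (a * e ^ n * a⁻¹) * (a * ⁅a, e⁆ ^ n.choose 2 * a⁻¹) * (a * b * a⁻¹) := by
                rw [ih]; group
            _ = ⁅a, e⁆ ^ n * (e ^ n * ⁅a, e⁆ ^ n.choose 2) * e * b := by
                rw [h3, h2, ← ((hee a).pow_left _).eq]; group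
            _ = ⁅a, e⁆ ^ n * ⁅a, e⁆ ^ n.choose 2 * (e ^ n * e) * b := by
                rw [← ((hee (e ^ n)).pow_left _).eq]; group
            _ = (⁅a, e⁆ ^ (n.choose 2 + n) * e ^ (n + 1)) * b := by
                rw [← pow_add, add_comm n, pow_succ e n]
            _ = e ^ (n + 1) * ⁅a, e⁆ ^ (n + 1).choose 2 * b := by
                rw [((hee _).pow_left _).eq, Nat.choose_succ_succ', Nat.choose_one_right,
                  add_comm n (n.choose 2)]
      have hlast := hn p
      rw [(hcen _ (hYp a ha) b).eq, mul_inv_cancel_right] at hlast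
      obtain ⟨k2, hk2⟩ := hp.out.dvd_choose_self (k := 2) (by norm_num) (by omega)
      have hz : ⁅a, e⁆ ^ p = 1 := by
        have := pow_card_eq_one' (G := Z) (x := ⟨_, hcl3 a ha b hb a ha⟩)
        rw [hZ] at this
        exact congrArg Subtype.val this
      rw [hk2, pow_mul, hz, one_pow, mul_one] at hlast
      exact mul_eq_right.mp hlast.symm
    have hhom : ∀ a ∈ Y, ∀ b ∈ Y, (a * b) ^ p = a ^ p * b ^ p := by
      intro a ha b hb
      have hmemc : ⁅b, a⁆ ∈ Y :=
        Y.mul_mem (Y.mul_mem (Y.mul_mem hb ha) (Y.inv_mem hb)) (Y.inv_mem ha)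
      exact mul_pow_class_three hp3 (hcen _ (hcl3 b hb a ha a ha)) (hcen _ (hcl3 b hb a ha b hb))
        (hcp b hb a ha) (hcp a ha _ hmemc) (hcp b hb _ hmemc)
    let f : Y →* Z := MonoidHom.mk' (fun y => ⟨(y : R) ^ p, hYp y y.2⟩)
      fun a b => Subtype.ext (hhom a a.2 b b.2)
    have hk : Nat.card f.ker ≤ p ^ 2 := by
      refine le_trans (Nat.card_le_card_of_injective
        (fun y : f.ker => (⟨((y : Y) : R), congrArg Subtype.val (MonoidHom.mem_ker.mp y.2)⟩ :
          {x : R // x ^ p = 1})) fun _ _ h => ?_) hE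
      exact Subtype.ext (Subtype.ext (congrArg (fun w : {x : R // x ^ p = 1} => (w : R)) h))
    have hY' : Nat.card Y = p * Nat.card X := by
      show Nat.card (QuotientGroup.mk ⁻¹' (X : Set (R ⧸ Z))) = _
      rw [Nat.card_congr (QuotientGroup.preimageMkEquivSubgroupProdSet Z _), Nat.card_prod, hZ,
        SetLike.coe_sort_coe]
    have h3 := card_mul_index f.ker
    rw [hY', index_ker] at h3
    have h4 : Nat.card f.range ≤ p := hZ ▸ card_le_card_group _
    have h5 : p * p ^ 3 ≤ p ^ 2 * p := by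
      calc p * p ^ 3 ≤ p * Nat.card X := Nat.mul_le_mul_left p hXcard
        _ = Nat.card f.ker * Nat.card f.range := h3.symm
        _ ≤ p ^ 2 * p := Nat.mul_le_mul hk h4
    have h6 : p ^ 4 ≤ p ^ 3 := by ring_nf; ring_nf at h5; exact h5
    have := (Nat.pow_le_pow_iff_right hp.out.one_lt).mp h6
    omega
  have hQ := hR.to_quotient Z
  have hrank : Cfsg.PRankLE p 2 (R ⧸ Z) := by
    intro X hX hXp
    by_contra hlt
    obtain ⟨i, hi⟩ := card_elementary_eq_pow hXp
    rw [hi] at hlt
    have hi2 := (Nat.pow_lt_pow_iff_right hp.out.one_lt).mp (not_le.mp hlt)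
    refine key X hXp (hi ▸ Nat.pow_le_pow_right hp.out.pos hi2) fun a ha b hb d hd => ?_
    haveI := hX
    rw [(commutatorElement_eq_one_iff_mul_comm).mpr (setLike_mul_comm (s := X) ha hb)]
    exact Commute.one_left d
  set W := omegaSubgroup hp3 hQ hrank with hW
  show Nat.card W ≤ p ^ 2
  obtain ⟨i, hi⟩ := IsPGroup.iff_card.mp (hQ.to_subgroup W)
  rw [hi]
  refine Nat.pow_le_pow_right hp.out.pos ?_
  by_contra h3
  have hW3 : Nat.card W ≤ p ^ 3 := card_pow_eq_one_le hp3 hQ hrank
  have hp1 : p ^ 3 ≤ Nat.card W := hi ▸ Nat.pow_le_pow_right hp.out.pos (by omega)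
  refine key W (fun x hx => hx) hp1 fun a ha b hb d hd => ?_
  -- a group of order `p³` has central commutators
  haveI := (hQ.to_subgroup W).isNilpotent
  have hcen : ⁅(⟨a, ha⟩ : W), ⟨b, hb⟩⁆ ∈ center W := by
    haveI : Nontrivial W := Finite.one_lt_card_iff_nontrivial.mp
      (lt_of_lt_of_le (Nat.one_lt_pow three_ne_zero hp.out.one_lt) hp1)
    obtain ⟨z, -, hzc, hzo⟩ := exists_central_orderOf_prime (hQ.to_subgroup W)
      (N := (⊤ : Subgroup W)) top_ne_bot
    have hidx : (center W).index ≤ p ^ 2 := by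
      have h1 := card_mul_index (center W)
      have h2 : p ≤ Nat.card (center W) :=
        Nat.le_of_dvd Nat.card_pos (hzo ▸ Subgroup.orderOf_dvd_natCard _ hzc)
      have h5 : p * (center W).index ≤ p * p ^ 2 := by
        calc p * (center W).index ≤ Nat.card (center W) * (center W).index :=
              Nat.mul_le_mul_right _ h2
          _ ≤ p ^ 3 := by rw [h1]; exact hW3
          _ = p * p ^ 2 := by ring
      exact Nat.le_of_mul_le_mul_left h5 hp.out.pos
    obtain ⟨j, hj⟩ := IsPGroup.iff_card.mp ((hQ.to_subgroup W).to_quotient (center W))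
    rw [← QuotientGroup.eq_one_iff, ← QuotientGroup.mk'_apply, map_commutatorElement,
      commutatorElement_eq_one_iff_mul_comm]
    rw [index_eq_card, hj] at hidx
    have hj2 := (Nat.pow_le_pow_iff_right hp.out.one_lt).mp hidx
    interval_cases j
    · haveI : Subsingleton (W ⧸ center W) := (Nat.card_eq_one_iff_unique.mp (by simpa using hj)).1
      exact Subsingleton.elim _ _
    · haveI : IsCyclic (W ⧸ center W) := isCyclic_of_prime_card (p := p) (by simpa using hj)
      obtain ⟨g, hg⟩ := IsCyclic.exists_generator (α := W ⧸ center W)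
      obtain ⟨k, hk⟩ := mem_zpowers_iff.mp (hg (QuotientGroup.mk' (center W) ⟨a, ha⟩))
      obtain ⟨l, hl⟩ := mem_zpowers_iff.mp (hg (QuotientGroup.mk' (center W) ⟨b, hb⟩))
      rw [← hk, ← hl]
      exact ((Commute.refl g).zpow_zpow k l).eq
    · exact IsPGroup.commutative_of_card_eq_prime_sq hj _ _
  exact (congrArg Subtype.val (mem_center_iff.mp hcen ⟨d, hd⟩)).symm

/-- The bound `p²` on the number of elements with `x ^ p = 1` passes to quotients (`p > 3`). -/
theorem card_pow_eq_one_quotient_le [Finite R] [hp : Fact p.Prime] (hp3 : 3 < p)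
    (hR : IsPGroup p R) (hE : Nat.card {x : R // x ^ p = 1} ≤ p ^ 2) (T : Subgroup R) [T.Normal] :
    Nat.card {x : R ⧸ T // x ^ p = 1} ≤ p ^ 2 := by
  suffices h : ∀ n : ℕ, ∀ (S : Type u) [Group S] [Finite S], IsPGroup p S →
      Nat.card {x : S // x ^ p = 1} ≤ p ^ 2 → ∀ (T : Subgroup S) [T.Normal], Nat.card T ≤ n →
      Nat.card {x : S ⧸ T // x ^ p = 1} ≤ p ^ 2 from h _ R hR hE T le_rfl
  intro n
  induction n using Nat.strong_induction_on with
  | _ n ih =>
  intro S _ _ hS hE T _ hTn
  have htr : ∀ {P Q : Type u} [Group P] [Group Q] (e : P ≃* Q),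
      Nat.card {x : P // x ^ p = 1} = Nat.card {x : Q // x ^ p = 1} := fun e =>
    Nat.card_congr (Equiv.subtypeEquiv e.toEquiv fun x => by
      simp [← map_pow])
  rcases eq_or_ne T ⊥ with hT | hT
  · rw [htr ((QuotientGroup.quotientMulEquivOfEq hT).trans QuotientGroup.quotientBot)]
    exact hE
  obtain ⟨z, hzT, hzc, hzo⟩ := exists_central_orderOf_prime hS hT
  haveI : (zpowers z).Normal := ⟨fun x hx g => by
    rwa [mem_center_iff.mp (zpowers_le.mpr hzc hx) g, mul_inv_cancel_right]⟩
  have hZ : Nat.card (zpowers z) = p := by rw [Nat.card_zpowers, hzo]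
  have hle : zpowers z ≤ T := zpowers_le.mpr hzT
  rw [← htr (QuotientGroup.quotientQuotientEquivQuotient (zpowers z) T hle)]
  refine ih (Nat.card (T.map (QuotientGroup.mk' (zpowers z)))) ?_ _
    (hS.to_quotient _) (card_quotient_central_prime hp3 hS hE _ hZ) _ le_rfl
  refine lt_of_lt_of_le ?_ hTn
  have h1 : Nat.card (T.map (QuotientGroup.mk' (zpowers z))) * p = Nat.card T := by
    have h := card_mul_index ((zpowers z).subgroupOf T)
    rw [Nat.card_congr (subgroupOfEquivOfLe hle).toEquiv, hZ] at h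
    rw [← h, mul_comm]
    congr 1
    rw [← relIndex_bot_left (T.map _), ← Subgroup.map_bot (QuotientGroup.mk' (zpowers z)),
      relIndex_map_map, QuotientGroup.ker_mk', bot_sup_eq, sup_eq_left.mpr hle]
    rfl
  rw [← h1]
  exact lt_mul_of_one_lt_right Nat.card_pos hp.out.one_lt

end CfsgLib.OddOrder.BG4
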