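import Cfsg.Agent.OddOrder.BG4.MetacyclicAction
import Cfsg.Agent.OddOrder.BG4.Aut2
import Cfsg.Agent.OddOrder.BG4.Omega

/-!
# Blackburn: rank two `p`-groups with fixed-point-free odd operators (Bender–Glauberman 4.16)

* `exists_ne_top_of_fixed`: a coprime action fixing an element of an abelian quotient is trivial
  modulo some proper subgroup.
* `card_cube_facts`: centre and derived group of a nonabelian group of order `p³`.
* `omega_sup_centralizer_eq_top`: if `Ω₁(R)` is nonabelian of order `p³` and `[R, A] = R`, then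
  `R = Ω₁(R) C_R(Ω₁(R))`.
* `blackburn_rank_two`: BG 4.16.
-/

namespace CfsgLib.OddOrder.BG4

open Subgroup
open scoped commutatorElement

universe u v

variable {R : Type u} [Group R] {p : ℕ}

theorem commutatorElement_zpow_left' {a b : R} (h : ∀ z, Commute ⁅a, b⁆ z) (n : ℤ) :
    ⁅a ^ n, b⁆ = ⁅a, b⁆ ^ n := by
  have h1 : b * a * b⁻¹ = ⁅a, b⁆⁻¹ * a := by rw [commutatorElement_def]; group
  have h2 : b * a ^ n * b⁻¹ = (⁅a, b⁆⁻¹) ^ n * a ^ n := by
    rw [← conj_zpow, h1, ((h a).inv_left).mul_zpow]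
  calc ⁅a ^ n, b⁆ = a ^ n * (b * a ^ n * b⁻¹)⁻¹ := by rw [commutatorElement_def]; group
    _ = a ^ n * (a ^ n)⁻¹ * ⁅a, b⁆ ^ n := by rw [h2, mul_inv_rev, inv_zpow, inv_inv, mul_assoc]
    _ = ⁅a, b⁆ ^ n := by rw [mul_inv_cancel, one_mul]

theorem commutatorElement_zpow_right' {a b : R} (h : ∀ z, Commute ⁅a, b⁆ z) (n : ℤ) :
    ⁅a, b ^ n⁆ = ⁅a, b⁆ ^ n := by
  have hb : ∀ z, Commute ⁅b, a⁆ z := fun z => by
    rw [← commutatorElement_inv]; exact (h z).inv_left
  rw [← commutatorElement_inv, commutatorElement_zpow_left' hb, ← inv_zpow, commutatorElement_inv]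

theorem commutatorElement_mul_left_of_commute {s d t : R} (h : Commute d t) :
    ⁅s * d, t⁆ = ⁅s, t⁆ := by
  rw [commutatorElement_mul_left_eq_conj_mul, commutatorElement_eq_one_iff_commute.mpr h]
  group

theorem commutatorElement_mul_right_of_commute {s t w : R} (h : Commute s w) :
    ⁅s, t * w⁆ = ⁅s, t⁆ := by
  rw [commutatorElement_def, commutatorElement_def]
  calc s * (t * w) * s⁻¹ * (t * w)⁻¹ = s * t * (w * s⁻¹) * w⁻¹ * t⁻¹ := by group
    _ = s * t * (s⁻¹ * w) * w⁻¹ * t⁻¹ := by rw [h.inv_left.eq]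
    _ = s * t * s⁻¹ * t⁻¹ := by group

/-- A coprime action fixing an element of an abelian quotient of `R` is trivial modulo a proper
subgroup of `R`. -/
theorem exists_ne_top_of_fixed {N : Subgroup R} [N.Normal]
    (hN : ∀ a b : R ⧸ N, a * b = b * a) {A : Type v} [Group A] [Finite A] (φ : A →* MulAut R)
    (hcop : (Nat.card A).Coprime p) {k : R} (hkp : k ^ p ∈ N) (hk : k ∉ N)
    (hfix : ∀ a, φ a k * k⁻¹ ∈ N) : ∃ M : Subgroup R, M ≠ ⊤ ∧ ∀ a y, φ a y * y⁻¹ ∈ M := by
  classical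
  letI : CommGroup (R ⧸ N) := { (inferInstance : Group (R ⧸ N)) with mul_comm := hN }
  cases nonempty_fintype A
  let f : R →* R ⧸ N :=
    { toFun := fun y => ∏ a : A, ((φ a y : R) : R ⧸ N)
      map_one' := by simp
      map_mul' := fun y z => by simp [Finset.prod_mul_distrib] }
  refine ⟨f.ker, fun htop => hk ?_, fun a y => ?_⟩
  · have h1 : f k = 1 := MonoidHom.mem_ker.mp (htop.ge (mem_top k))
    have h2 : f k = (k : R ⧸ N) ^ Fintype.card A := by
      show ∏ a : A, ((φ a k : R) : R ⧸ N) = _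
      rw [Finset.prod_eq_pow_card (fun a _ => ?_), Finset.card_univ]
      rw [← mul_inv_eq_one, ← QuotientGroup.mk_inv, ← QuotientGroup.mk_mul,
        QuotientGroup.eq_one_iff]
      exact hfix a
    have h3 : (k : R ⧸ N) ^ p = 1 := by rwa [← QuotientGroup.mk_pow, QuotientGroup.eq_one_iff]
    have h4 := pow_gcd_eq_one.mpr (And.intro (h2.symm.trans h1) h3)
    rw [← Nat.card_eq_fintype_card, hcop, pow_one] at h4
    exact (QuotientGroup.eq_one_iff k).mp h4
  · rw [MonoidHom.mem_ker, map_mul, map_inv, mul_inv_eq_one]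
    show ∏ b : A, ((φ b (φ a y) : R) : R ⧸ N) = ∏ b : A, ((φ b y : R) : R ⧸ N)
    exact Fintype.prod_equiv (Equiv.mulRight a) _ _ fun b => by
      show _ = ((φ (b * a) y : R) : R ⧸ N)
      rw [map_mul]; rfl

/-- Centre and derived group of a nonabelian group of order `p³`. -/
theorem card_cube_facts [Finite R] [hp : Fact p.Prime] (hcard : Nat.card R = p ^ 3)
    (hna : ¬ ∀ a b : R, a * b = b * a) :
    Nat.card (center R) = p ∧ ∀ a b : R, ⁅a, b⁆ ∈ center R := by
  have hR : IsPGroup p R := IsPGroup.of_card hcard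
  haveI : Nontrivial R := Finite.one_lt_card_iff_nontrivial.mp
    (by rw [hcard]; exact Nat.one_lt_pow (by omega) hp.out.one_lt)
  obtain ⟨k, hk⟩ := IsPGroup.iff_card.mp (hR.to_subgroup (center R))
  have hk0 : k ≠ 0 := by
    rintro rfl
    haveI := hR.center_nontrivial
    exact (Finite.one_lt_card (α := center R)).ne' (by simpa using hk)
  have hmul := card_mul_index (center R)
  rw [hk, hcard] at hmul
  obtain ⟨j, hj⟩ := hR.index (center R)
  rw [hj, ← pow_add] at hmul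
  have hkj := Nat.pow_right_injective hp.out.two_le hmul
  have hk1 : k = 1 := by
    by_contra hk1
    haveI : IsCyclic (R ⧸ center R) := by
      rcases (show j = 0 ∨ j = 1 by omega) with rfl | rfl
      · haveI : Subsingleton (R ⧸ center R) := (Nat.card_eq_one_iff_unique.mp
          (by rw [← index_eq_card, hj, pow_zero])).1
        infer_instance
      · exact isCyclic_of_prime_card (p := p) (by rw [← index_eq_card, hj, pow_one])
    exact hna (commutative_of_cyclic_center_quotient (QuotientGroup.mk' (center R))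
      (by rw [QuotientGroup.ker_mk']))
  refine ⟨by rw [hk, hk1, pow_one], fun a b => ?_⟩
  rw [← QuotientGroup.eq_one_iff, ← QuotientGroup.mk'_apply, map_commutatorElement,
    commutatorElement_eq_one_iff_commute]
  exact commute_of_card_le_sq (hR.to_quotient _) (by
    rw [← index_eq_card, hj]; exact Nat.pow_le_pow_right hp.out.pos (by omega)) _ _

section Core

variable [Finite R] [hp : Fact p.Prime]

/-- BG 4.16, main step: `R = Ω₁(R) C_R(Ω₁(R))`. -/
theorem omega_sup_centralizer_eq_top (hp3 : 3 < p) (hR : IsPGroup p R) {Ω : Subgroup R}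
    (hΩ : ∀ x, x ∈ Ω ↔ x ^ p = 1) (hcard : Nat.card Ω = p ^ 3)
    (hna : ¬ ∀ a b : Ω, a * b = b * a) {A : Type v} [Group A] [Finite A] (φ : A →* MulAut R)
    (hcop : (Nat.card A).Coprime p) (hodd : Odd (Nat.card A))
    (hfull : ∀ M : Subgroup R, (∀ a y, φ a y * y⁻¹ ∈ M) → M = ⊤) :
    Nat.card ↥(Ω ⊓ centralizer (Ω : Set R)) = p ∧ IsCyclic ↥(centralizer (Ω : Set R)) ∧
      (∀ a ∈ Ω, ∀ b ∈ Ω, ⁅a, b⁆ ∈ Ω ⊓ centralizer (Ω : Set R)) ∧
      Ω ⊔ centralizer (Ω : Set R) = ⊤ := by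
  have hp2 : p ≠ 2 := by omega
  have hpZ : Prime (p : ℤ) := Nat.prime_iff_prime_int.mp hp.out
  haveI hΩn : Ω.Normal := ⟨fun n hn g => (hΩ _).mpr (by rw [conj_pow, (hΩ n).mp hn]; group)⟩
  set R₂ := centralizer (Ω : Set R) with hR2def
  set Z0 := Ω ⊓ R₂ with hZ0def
  have hΩinv : ∀ (b : MulAut R), ∀ y ∈ Ω, b y ∈ Ω := fun b y hy =>
    (hΩ _).mpr (by rw [← map_pow, (hΩ y).mp hy, map_one])
  have hR2inv : ∀ (b : MulAut R), ∀ y ∈ R₂, b y ∈ R₂ := by
    intro b y hy w hw
    have h := congrArg b (hy (b⁻¹ w) (hΩinv b⁻¹ w hw))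
    simpa [map_mul] using h
  have hZ0inv : ∀ (b : MulAut R), ∀ y ∈ Z0, b y ∈ Z0 := fun b y hy =>
    ⟨hΩinv b y hy.1, hR2inv b y hy.2⟩
  obtain ⟨hcz, hcomc⟩ := card_cube_facts hcard hna
  have hmapZ : (center Ω).map Ω.subtype = Z0 := by
    ext x
    constructor
    · rintro ⟨⟨y, hy⟩, hyc, rfl⟩
      exact ⟨hy, fun w hw => congrArg Subtype.val (mem_center_iff.mp hyc ⟨w, hw⟩)⟩
    · rintro ⟨hxΩ, hxC⟩
      exact ⟨⟨x, hxΩ⟩, mem_center_iff.mpr fun w => Subtype.ext (hxC w w.2), rfl⟩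
  have hZ0card : Nat.card Z0 = p := by
    rw [← hmapZ, card_map_of_injective Ω.subtype_injective, hcz]
  haveI hR2n : R₂.Normal := inferInstance
  haveI hZ0n : Z0.Normal := inferInstance
  have hZ0c : Z0 ≤ center R := le_center_of_normal_card_prime hR hZ0card
  have hcomm : ∀ a ∈ Ω, ∀ b ∈ Ω, ⁅a, b⁆ ∈ Z0 := fun a ha b hb =>
    hmapZ.le ⟨⁅(⟨a, ha⟩ : Ω), ⟨b, hb⟩⁆, hcomc _ _, by simp [commutatorElement_def]⟩
  have hcen : ∀ a ∈ Ω, ∀ b ∈ Ω, ∀ z, Commute ⁅a, b⁆ z := fun a ha b hb z =>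
    (mem_center_iff.mp (hZ0c (hcomm a ha b hb)) z).symm
  have hZ0Ω : Z0 ≤ Ω := inf_le_left
  -- `R₂` is cyclic
  have hR2cyc : IsCyclic R₂ := by
    have hle : Nat.card {x : R₂ // x ^ p = 1} ≤ p := by
      refine le_trans ?_ hZ0card.le
      let f : {x : R₂ // x ^ p = 1} → Z0 := fun x =>
        ⟨((x.1 : R₂) : R), (hΩ _).mpr (by simpa using congrArg Subtype.val x.2), x.1.2⟩
      exact Nat.card_le_card_of_injective f fun x y h =>
        Subtype.ext (Subtype.ext (congrArg (fun w : Z0 => (w : R)) h))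
    have hm := isMetacyclic_of_card_pow_eq_one hp3 (hR.to_subgroup R₂)
      (hle.trans (Nat.le_self_pow two_ne_zero p))
    by_contra hnc
    have h := (card_pow_eq_one_of_isMetacyclic hp2 (hR.to_subgroup R₂) hm).2.2 hnc
    rw [h] at hle
    nlinarith [hp.out.two_le]
  refine ⟨hZ0card, hR2cyc, hcomm, ?_⟩
  set D := Ω ⊔ R₂ with hDdef
  by_contra hne
  obtain ⟨x, -, hxD⟩ := SetLike.exists_of_lt (lt_top_iff_ne_top.mpr hne)
  -- `W` is the preimage of the fixed points on `Ω / Z0`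
  set π0 := QuotientGroup.mk' Z0 with hπ0
  set W := Ω ⊓ (center (R ⧸ Z0)).comap π0 with hWdef
  haveI hWn : W.Normal := inferInstance
  have hWmem : ∀ {w : R}, w ∈ W → ∀ y : R, ⁅y, w⁆ ∈ Z0 := by
    intro w hw y
    rw [← QuotientGroup.eq_one_iff, ← QuotientGroup.mk'_apply, map_commutatorElement,
      commutatorElement_eq_one_iff_mul_comm]
    exact mem_center_iff.mp hw.2 (π0 y)
  have hWof : ∀ {w : R}, w ∈ Ω → (∀ y : R, ⁅y, w⁆ ∈ Z0) → w ∈ W := by
    intro w hwΩ h
    refine ⟨hwΩ, mem_center_iff.mpr fun q => ?_⟩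
    obtain ⟨y, rfl⟩ := QuotientGroup.mk'_surjective Z0 q
    rw [← commutatorElement_eq_one_iff_mul_comm, ← map_commutatorElement,
      QuotientGroup.mk'_apply, QuotientGroup.eq_one_iff]
    exact h y
  have hZ0W : Z0 ≤ W := fun z hz => hWof hz.1 fun y => by
    rw [commutatorElement_eq_one_iff_mul_comm.mpr (mem_center_iff.mp (hZ0c hz) y)]
    exact one_mem _
  have hWinv : ∀ (b : MulAut R), ∀ w ∈ W, b w ∈ W := fun b w hw => hWof (hΩinv b w hw.1) fun y => by
    have h := hZ0inv b _ (hWmem hw (b⁻¹ y))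
    rwa [map_commutatorElement, MulAut.apply_inv_self] at h
  -- `u ∈ W`, `v ∈ Ω` not commuting with it
  obtain ⟨u, huW, huZ⟩ : ∃ u ∈ W, u ∉ Z0 := by
    haveI : (Ω.map π0).Normal := hΩn.map _ (QuotientGroup.mk'_surjective Z0)
    have hne0 : Ω.map π0 ≠ ⊥ := fun h => by
      rw [Subgroup.map_eq_bot_iff, hπ0, QuotientGroup.ker_mk'] at h
      have h1 := Subgroup.card_le_of_le h
      rw [hcard, hZ0card] at h1
      have := Nat.pow_le_pow_iff_right hp.out.one_lt |>.mp (h1.trans_eq (pow_one p).symm)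
      omega
    obtain ⟨_, ⟨u, hu, rfl⟩, huc, huo⟩ := exists_central_orderOf_prime (hR.to_quotient Z0) hne0
    refine ⟨u, ⟨hu, huc⟩, fun h => hp.out.one_lt.ne ?_⟩
    rw [← huo, show π0 u = 1 from (QuotientGroup.eq_one_iff u).mpr h, orderOf_one]
  have huΩ : u ∈ Ω := huW.1
  obtain ⟨v, hvΩ, huv⟩ : ∃ v ∈ Ω, ⁅u, v⁆ ≠ 1 := by
    by_contra h
    push Not at h
    exact huZ ⟨huΩ, fun w hw => (commutatorElement_eq_one_iff_mul_comm.mp (h w hw)).symm⟩
  have hΩgen : closure ({u, v} : Set R) = Ω := by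
    refine eq_of_le_of_card_ge ((closure_le Ω).mpr ?_) ?_
    · rintro z (hz | hz) <;> rw [hz]
      exacts [huΩ, hvΩ]
    rw [hcard]
    obtain ⟨i, hi⟩ := IsPGroup.iff_card.mp (hR.to_subgroup (closure ({u, v} : Set R)))
    rw [hi]
    refine Nat.pow_le_pow_right hp.out.pos ?_
    by_contra hlt
    refine huv (commutatorElement_eq_one_iff_commute.mpr ?_)
    have h := commute_of_card_le_sq (hR.to_subgroup (closure ({u, v} : Set R)))
      (by rw [hi]; exact Nat.pow_le_pow_right hp.out.pos (by omega))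
      ⟨u, subset_closure (by simp)⟩ ⟨v, subset_closure (by simp)⟩
    exact congrArg Subtype.val h.eq
  set z0 := ⁅u, v⁆ with hz0def
  have hz0 : z0 ∈ Z0 := hcomm u huΩ v hvΩ
  have hz0gen : ∀ z ∈ Z0, ∃ k : ℤ, z0 ^ k = z := by
    intro z hz
    have h : zpowers z0 = Z0 := by
      refine eq_of_le_of_card_ge (zpowers_le.mpr hz0) ?_
      rw [hZ0card, Nat.card_zpowers, orderOf_eq_prime ((hΩ z0).mp hz0.1) huv]
    exact mem_zpowers_iff.mp (h.ge hz)
  -- elements normalising `Ω` trivially modulo `Z0` lie in `D`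
  have hsplit : ∀ y : R, ⁅y, u⁆ ∈ Z0 → ⁅y, v⁆ ∈ Z0 →
      ∃ i j : ℤ, (u ^ j * v ^ (-i))⁻¹ * y ∈ R₂ := by
    intro y h1 h2
    obtain ⟨i, hi⟩ := hz0gen _ h1
    obtain ⟨j, hj⟩ := hz0gen _ h2
    refine ⟨i, j, ?_⟩
    set w := u ^ j * v ^ (-i) with hw
    have hwu : ⁅w, u⁆ = ⁅y, u⁆ := by
      rw [hw, commutatorElement_mul_left_eq_conj_mul,
        commutatorElement_eq_one_iff_commute.mpr ((Commute.refl u).zpow_left j), mul_one,
        commutatorElement_zpow_left' (hcen v hvΩ u huΩ), ← commutatorElement_inv u v, ← hz0def,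
        inv_zpow, ← zpow_neg, neg_neg, hi]
      rw [mem_center_iff.mp (hZ0c h1) (u ^ j), mul_inv_cancel_right]
    have hwv : ⁅w, v⁆ = ⁅y, v⁆ := by
      rw [hw, commutatorElement_mul_left_of_commute ((Commute.refl v).zpow_left (-i)),
        commutatorElement_zpow_left' (hcen u huΩ v hvΩ), ← hz0def, hj]
    have hfix : ∀ t : R, ⁅w, t⁆ = ⁅y, t⁆ → Commute (w⁻¹ * y) t := fun t ht => by
      rw [commutatorElement_def, commutatorElement_def] at ht
      have ht' : w * t * w⁻¹ = y * t * y⁻¹ := mul_right_cancel ht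
      show w⁻¹ * y * t = t * (w⁻¹ * y)
      calc w⁻¹ * y * t = w⁻¹ * (y * t * y⁻¹) * y := by group
        _ = w⁻¹ * (w * t * w⁻¹) * y := by rw [ht']
        _ = t * (w⁻¹ * y) := by group
    have hle : Ω ≤ centralizer ({w⁻¹ * y} : Set R) := by
      rw [← hΩgen, closure_le]
      rintro z (hz | hz) <;> rw [hz] <;> intro g hg <;> rw [Set.mem_singleton_iff] at hg <;>
        rw [hg]
      exacts [(hfix u hwu).eq, (hfix v hwv).eq]
    exact fun g hg => ((hle hg) _ rfl).symm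
  have hD : ∀ y : R, ⁅y, u⁆ ∈ Z0 → ⁅y, v⁆ ∈ Z0 → y ∈ D := by
    intro y h1 h2
    obtain ⟨i, j, h⟩ := hsplit y h1 h2
    rw [show y = (u ^ j * v ^ (-i)) * ((u ^ j * v ^ (-i))⁻¹ * y) by group]
    exact mul_mem_sup (mul_mem (zpow_mem huΩ j) (zpow_mem hvΩ _)) h
  -- `D` is the centraliser of `Ω / Z0`
  haveI : (Ω.map π0).Normal := hΩn.map _ (QuotientGroup.mk'_surjective Z0)
  have hΩ0card : Nat.card (Ω.map π0) ≤ p ^ 2 := by
    have h := card_mul_index (Z0.subgroupOf Ω)
    rw [Nat.card_congr (subgroupOfEquivOfLe hZ0Ω).toEquiv, hZ0card, hcard] at h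
    have h2 : Nat.card (Ω.map π0) = (Z0.subgroupOf Ω).index := by
      rw [← relIndex_bot_left (Ω.map _), ← Subgroup.map_bot π0, relIndex_map_map, hπ0,
        QuotientGroup.ker_mk', bot_sup_eq, sup_eq_left.mpr hZ0Ω]
      rfl
    rw [h2]
    exact le_of_eq (Nat.eq_of_mul_eq_mul_left hp.out.pos (h.trans (by ring)))
  have hΩΩ : ∀ y : R, ∀ t ∈ Ω, ⁅y, t⁆ ∈ Ω := fun y t ht => by
    rw [commutatorElement_def]
    exact mul_mem (hΩn.conj_mem t ht y) (inv_mem ht)
  have hΩW : ∀ y : R, ∀ t ∈ Ω, ⁅y, t⁆ ∈ W := by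
    intro y t ht
    have hc2 := commutator_mem_center_of_card_le (hR.to_quotient Z0) hΩ0card
      (mem_map_of_mem π0 ht) (π0 y)
    rw [← map_commutatorElement] at hc2
    exact ⟨hΩΩ y t ht, hc2⟩
  have hDeq : D = (centralizer (Ω.map π0 : Set (R ⧸ Z0))).comap π0 := by
    refine le_antisymm (sup_le (fun a ha => ?_) fun a ha => ?_) fun y hy => ?_
    · rintro _ ⟨b, hb, rfl⟩
      rw [← commutatorElement_eq_one_iff_mul_comm, ← map_commutatorElement, hπ0,
        QuotientGroup.mk'_apply, QuotientGroup.eq_one_iff]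
      exact hcomm b hb a ha
    · rintro _ ⟨b, hb, rfl⟩
      rw [← map_mul, ← map_mul, ha b hb]
    · have h : ∀ t ∈ Ω, ⁅y, t⁆ ∈ Z0 := fun t ht => by
        rw [← QuotientGroup.eq_one_iff, ← QuotientGroup.mk'_apply, map_commutatorElement,
          commutatorElement_eq_one_iff_mul_comm]
        exact (hy _ (mem_map_of_mem π0 ht)).symm
      exact hD y (h u huΩ) (h v hvΩ)
  have hDcomm : ∀ d ∈ D, ∀ t ∈ Ω, Commute (π0 d) (π0 t) := fun d hd t ht =>
    ((hDeq.le hd) _ (mem_map_of_mem π0 ht)).symm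
  haveI hDn : D.Normal := inferInstance
  have hDidx : D.index = p := by
    obtain ⟨k, hk⟩ := hR.index D
    have hle : D.index ≤ p := by
      rw [hDeq, index_comap_of_surjective _ (QuotientGroup.mk'_surjective Z0)]
      refine index_centralizer_le (hR.to_quotient Z0) ?_ ?_
      · rintro _ ⟨t, ht, rfl⟩
        rw [← map_pow, (hΩ t).mp ht, map_one]
      · exact hΩ0card
    rw [hk] at hle ⊢
    have hk0 : k ≠ 0 := fun h => hne (index_eq_one.mp (by rw [hk, h, pow_zero]))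
    have hk1 : k ≤ 1 := (Nat.pow_le_pow_iff_right hp.out.one_lt).mp (by rwa [pow_one])
    rw [show k = 1 by omega, pow_one]
  have hxgen : ∀ y : R, ∃ μ : ℤ, ∃ d ∈ D, y = x ^ μ * d := by
    intro y
    haveI : Fact (Nat.card (R ⧸ D)).Prime := ⟨by rw [← index_eq_card, hDidx]; exact hp.out⟩
    have hx1 : (x : R ⧸ D) ≠ 1 := fun h => hxD ((QuotientGroup.eq_one_iff x).mp h)
    have hm : (y : R ⧸ D) ∈ zpowers (x : R ⧸ D) :=
      (zpowers_eq_top_of_prime_card (by rw [← index_eq_card, hDidx]) hx1).ge (mem_top _)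
    obtain ⟨μ, hμ⟩ := mem_zpowers_iff.mp hm
    refine ⟨μ, (x ^ μ)⁻¹ * y, ?_, by group⟩
    rw [← QuotientGroup.mk_zpow] at hμ
    exact QuotientGroup.eq.mp hμ
  -- the structure of `W`
  have hvW : v ∉ W := by
    intro hv
    apply hxD
    exact hD x (hWmem huW x) (hWmem hv x)
  have hWform : ∀ w ∈ W, ∃ j : ℤ, ∃ z ∈ Z0, w = u ^ j * z := by
    intro w hw
    obtain ⟨i, j, h⟩ := hsplit w (hcomm w hw.1 u huΩ) (hcomm w hw.1 v hvΩ)
    set z := (u ^ j * v ^ (-i))⁻¹ * w with hz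
    have hzΩ : z ∈ Ω :=
      mul_mem (inv_mem (mul_mem (zpow_mem huΩ j) (zpow_mem hvΩ _))) hw.1
    have hzZ : z ∈ Z0 := ⟨hzΩ, h⟩
    have hvi : v ^ (-i) ∈ W := by
      rw [show v ^ (-i) = (u ^ j)⁻¹ * w * z⁻¹ by rw [hz]; group]
      exact mul_mem (mul_mem (inv_mem (zpow_mem huW j)) hw) (inv_mem (hZ0W hzZ))
    by_cases hdvd : (p : ℤ) ∣ -i
    · refine ⟨j, z, hzZ, ?_⟩
      rw [hz, eq_one_of_zpow_dvd ((hΩ v).mp hvΩ) hdvd]
      group
    · obtain ⟨a, b, hab⟩ := hpZ.coprime_iff_not_dvd.mpr hdvd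
      refine absurd ?_ hvW
      rw [show v = v ^ (a * p) * (v ^ (-i)) ^ b by
        rw [← zpow_mul, ← zpow_add, mul_comm (-i) b, hab, zpow_one],
        eq_one_of_zpow_dvd ((hΩ v).mp hvΩ) (dvd_mul_left _ a), one_mul]
      exact zpow_mem hvi b
  -- the commutator of `x` and `v`
  obtain ⟨k, hkp, z1, hz1, hxv⟩ : ∃ k : ℤ, ¬ (p : ℤ) ∣ k ∧ ∃ z ∈ Z0, ⁅x, v⁆ = u ^ k * z := by
    have hw : ⁅x, v⁆ ∈ W := hΩW x v hvΩ
    obtain ⟨k, z, hz, hkz⟩ := hWform _ hw
    refine ⟨k, fun hdvd => hxD ?_, z, hz, hkz⟩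
    rw [eq_one_of_zpow_dvd ((hΩ u).mp huΩ) hdvd, one_mul] at hkz
    exact hD x (hWmem huW x) (hkz ▸ hz)
  -- `y ^ p ∈ R₂` for all `y`
  have hpR2 : ∀ y : R, y ^ p ∈ R₂ := by
    intro y
    have hgen : ∀ t ∈ Ω, ⁅y, t⁆ ∈ Ω := hΩΩ y
    have hWt : ∀ t ∈ Ω, ⁅y, t⁆ ∈ W := hΩW y
    have hfix : ∀ t ∈ Ω, Commute (y ^ p) t := by
      intro t ht
      set w := ⁅y, t⁆ with hw
      set c := ⁅y, w⁆ with hc
      have hcz0 : c ∈ Z0 := hWmem (hWt t ht) y
      have hcc : ∀ s, Commute c s := fun s => (mem_center_iff.mp (hZ0c hcz0) s).symm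
      have key : ∀ n : ℕ, y ^ n * t * (y ^ n)⁻¹ = w ^ n * c ^ n.choose 2 * t := by
        intro n
        induction n with
        | zero => simp
        | succ n ih =>
          have h1 : y * t * y⁻¹ = w * t := by rw [hw, commutatorElement_def]; group
          have h2 : y * w ^ n * y⁻¹ = c ^ n * w ^ n := by
            rw [← conj_pow, show y * w * y⁻¹ = c * w by rw [hc, commutatorElement_def]; group,
              (hcc w).mul_pow]
          calc y ^ (n + 1) * t * (y ^ (n + 1))⁻¹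
              = y * (y ^ n * t * (y ^ n)⁻¹) * y⁻¹ := by rw [pow_succ']; group
            _ = (y * w ^ n * y⁻¹) * (y * c ^ n.choose 2 * y⁻¹) * (y * t * y⁻¹) := by
                rw [ih]; group
            _ = c ^ n * w ^ n * c ^ n.choose 2 * (w * t) := by
                rw [h1, h2, ← ((hcc y).pow_left _).eq, mul_inv_cancel_right]
            _ = w ^ n * (c ^ n * (c ^ n.choose 2 * w)) * t := by
                rw [((hcc (w ^ n)).pow_left n).eq]; group
            _ = w ^ n * (w * (c ^ n * c ^ n.choose 2)) * t := by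
                rw [← mul_assoc (c ^ n), ← pow_add, ((hcc w).pow_left _).eq]
            _ = w ^ (n + 1) * c ^ (n + 1).choose 2 * t := by
                rw [← mul_assoc, ← pow_succ, ← pow_add, Nat.choose_succ_succ',
                  Nat.choose_one_right]
      have hlast := key p
      obtain ⟨k2, hk2⟩ := hp.out.dvd_choose_self (k := 2) (by norm_num) (by omega)
      rw [(hΩ w).mp (hgen t ht), hk2, pow_mul, (hΩ c).mp hcz0.1, one_pow, one_mul, one_mul,
        mul_inv_eq_iff_eq_mul] at hlast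
      exact hlast
    exact fun t ht => (hfix t ht).eq.symm
  -- `N0 = W R₂` has abelian quotient
  set N0 := W ⊔ R₂ with hN0def
  haveI hN0n : N0.Normal := inferInstance
  have hN0c : ∀ a b : R ⧸ N0, a * b = b * a := by
    set πN := QuotientGroup.mk' N0 with hπN
    have hgen : closure ({πN x, πN v} : Set (R ⧸ N0)) = ⊤ := by
      rw [eq_top_iff]
      intro q _
      obtain ⟨y, rfl⟩ := QuotientGroup.mk'_surjective N0 q
      obtain ⟨μ, d, hd, rfl⟩ := hxgen y
      rw [map_mul, map_zpow]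
      refine mul_mem (zpow_mem (subset_closure (Set.mem_insert _ _)) μ) ?_
      have hle : D ≤ (closure ({πN x, πN v} : Set (R ⧸ N0))).comap πN := by
        refine sup_le ?_ fun r hr => ?_
        · rw [← hΩgen, closure_le]
          rintro z (hz | hz) <;> rw [hz]
          · rw [SetLike.mem_coe, mem_comap]
            rw [show πN u = 1 from (QuotientGroup.eq_one_iff u).mpr (mem_sup_left huW)]
            exact one_mem _
          · exact subset_closure (Set.mem_insert_of_mem _ rfl)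
        · rw [mem_comap]
          rw [show πN r = 1 from (QuotientGroup.eq_one_iff r).mpr (mem_sup_right hr)]
          exact one_mem _
      exact hle hd
    refine mul_comm_of_closure_pair hgen ?_
    rw [← commutatorElement_eq_one_iff_commute, ← map_commutatorElement, hπN,
      QuotientGroup.mk'_apply, QuotientGroup.eq_one_iff, hxv]
    exact mem_sup_left (mul_mem (zpow_mem huW k) (hZ0W hz1))
  have hvN0 : v ∉ N0 := by
    intro hv
    obtain ⟨w, hw, r, hr, hwr⟩ := mem_sup_of_normal_right.mp hv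
    apply hvW
    rw [← hwr]
    refine mul_mem hw (hZ0W ⟨?_, hr⟩)
    rw [show r = w⁻¹ * v by rw [← hwr]; group]
    exact Ω.mul_mem (Ω.inv_mem hw.1) hvΩ
  -- the `p`-th power map modulo `U = R₂ ^ p`
  haveI := hR2cyc
  obtain ⟨r0, hr0⟩ := IsCyclic.exists_generator (α := R₂)
  have hR2eq : R₂ = zpowers (r0 : R) := by
    refine le_antisymm (fun w hw => ?_) (zpowers_le.mpr r0.2)
    obtain ⟨i, hi⟩ := mem_zpowers_iff.mp (hr0 ⟨w, hw⟩)
    exact mem_zpowers_iff.mpr ⟨i, by simpa using congrArg Subtype.val hi⟩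
  set r : R := (r0 : R) with hrdef
  have hrR2 : r ∈ R₂ := r0.2
  set U := zpowers (r ^ p) with hUdef
  haveI hUn : U.Normal := by
    refine ⟨fun n hn g => ?_⟩
    obtain ⟨i, rfl⟩ := mem_zpowers_iff.mp hn
    obtain ⟨l, hl⟩ := mem_zpowers_iff.mp (hR2eq.le (hR2n.conj_mem r hrR2 g))
    refine mem_zpowers_iff.mpr ⟨l * i, ?_⟩
    rw [← conj_zpow, ← conj_pow, ← hl, ← zpow_natCast, ← zpow_natCast, ← zpow_mul, ← zpow_mul,
      ← zpow_mul]
    ring_nf
  set πU := QuotientGroup.mk' U with hπU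
  have hR2p : ∀ w ∈ R₂, w ^ p ∈ U := by
    intro w hw
    obtain ⟨i, rfl⟩ := mem_zpowers_iff.mp (hR2eq.le hw)
    refine mem_zpowers_iff.mpr ⟨i, ?_⟩
    rw [← zpow_natCast, ← zpow_natCast, ← zpow_mul, ← zpow_mul, mul_comm]
  have hr1 : r ≠ 1 := by
    intro h
    have hle : Z0 ≤ ⊥ := fun z hz => by
      have := hR2eq.le hz.2
      rwa [h, zpowers_one_eq_bot] at this
    have := Subgroup.card_le_of_le hle
    rw [hZ0card, card_bot] at this
    exact absurd this (by have := hp.out.two_le; omega)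
  have hrU : πU r ≠ 1 := fun h =>
    hr1 (eq_one_of_mem_zpowers_pow hR ((QuotientGroup.eq_one_iff r).mp h))
  have hR2cen : ∀ w ∈ R₂, ∀ q, Commute (πU w) q := by
    intro w hw q
    haveI : (R₂.map πU).Normal := hR2n.map _ (QuotientGroup.mk'_surjective U)
    have hmap : R₂.map πU = zpowers (πU r) := by rw [hR2eq, MonoidHom.map_zpowers]
    have hc : Nat.card (R₂.map πU) = p := by
      rw [hmap, Nat.card_zpowers]
      refine orderOf_eq_prime ?_ hrU
      rw [← map_pow]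
      exact (QuotientGroup.eq_one_iff _).mpr (mem_zpowers _)
    exact (mem_center_iff.mp (le_center_of_normal_card_prime (hR.to_quotient U) hc
      (mem_map_of_mem πU hw)) q).symm
  have hN0U : ∀ c ∈ N0, (πU c) ^ p = 1 ∧ ∀ y : R, ∀ q, Commute ⁅πU y, πU c⁆ q := by
    intro c hc
    obtain ⟨w, hw, s, hs, rfl⟩ := mem_sup_of_normal_right.mp hc
    refine ⟨?_, fun y q => ?_⟩
    · rw [map_mul, ((hR2cen s hs (πU w)).symm).mul_pow, ← map_pow, ← map_pow,
        (hΩ w).mp hw.1, map_one, one_mul]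
      exact (QuotientGroup.eq_one_iff _).mpr (hR2p s hs)
    · rw [map_mul, commutatorElement_mul_right_of_commute (hR2cen s hs (πU y)).symm,
        ← map_commutatorElement]
      obtain ⟨q, rfl⟩ := QuotientGroup.mk'_surjective U q
      exact ((show Commute q ⁅y, w⁆ from mem_center_iff.mp (hZ0c (hWmem hw y)) q).map πU).symm
  have hcomN0 : ∀ a b : R, ⁅a, b⁆ ∈ N0 := fun a b => by
    rw [← QuotientGroup.eq_one_iff, ← QuotientGroup.mk'_apply, map_commutatorElement,
      commutatorElement_eq_one_iff_mul_comm]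
    exact hN0c _ _
  let P : R →* R ⧸ U := MonoidHom.mk' (fun y => πU (y ^ p)) fun a b => by
    show πU ((a * b) ^ p) = πU (a ^ p) * πU (b ^ p)
    rw [map_pow, map_mul, map_pow, map_pow]
    obtain ⟨h1, h2⟩ := hN0U _ (hcomN0 b a)
    rw [map_commutatorElement] at h1
    have ha' := h2 a
    have hb' := h2 b
    rw [map_commutatorElement] at ha' hb'
    have hpow1 : ∀ y : R, ⁅πU y, ⁅πU b, πU a⁆⁆ ^ p = 1 := by
      intro y
      have hmem : ⁅y, ⁅b, a⁆⁆ ∈ N0 := hcomN0 _ _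
      have := (hN0U _ hmem).1
      rwa [map_commutatorElement, map_commutatorElement] at this
    exact mul_pow_class_three hp3 ha' hb' h1 (hpow1 a) (hpow1 b)
  have hPD : D ≤ P.ker := by
    refine sup_le (fun t ht => ?_) fun t ht => ?_
    · show πU (t ^ p) = 1
      rw [(hΩ t).mp ht, map_one]
    · exact (QuotientGroup.eq_one_iff _).mpr (hR2p t ht)
  obtain ⟨s, hs⟩ := mem_zpowers_iff.mp (hR2eq.le (hpR2 x))
  have hsp : ¬ (p : ℤ) ∣ s := by
    rintro ⟨m, rfl⟩
    obtain ⟨d, hd, hxd⟩ := exists_mul_pow_eq hp2 hR R₂ x (d' := r ^ (-m)) (zpow_mem hrR2 _)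
    apply hxD
    have hxdΩ : x * d ∈ Ω := (hΩ _).mpr (by
      rw [hxd, ← hs, ← zpow_natCast (r ^ (-m)), ← zpow_mul, ← zpow_add]
      rw [show (p : ℤ) * m + -m * (p : ℤ) = 0 by ring, zpow_zero])
    rw [show x = x * d * d⁻¹ by group]
    exact mul_mem_sup hxdΩ (inv_mem hd)
  -- every `a` fixes `v` modulo `W`
  have hfix : ∀ a : A, φ a v * v⁻¹ ∈ W := by
    intro a
    set b := φ a with hb
    -- images
    obtain ⟨α, zu, hzu, hbu⟩ := hWform _ (hWinv b u huW)
    obtain ⟨β, wv, hwv, hbv⟩ : ∃ β : ℤ, ∃ w ∈ W, b v = v ^ β * w := by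
      obtain ⟨i, j, h⟩ := hsplit (b v) (hcomm _ (hΩinv b v hvΩ) u huΩ)
        (hcomm _ (hΩinv b v hvΩ) v hvΩ)
      set z := (u ^ j * v ^ (-i))⁻¹ * b v with hz
      have hzZ : z ∈ Z0 :=
        ⟨Ω.mul_mem (Ω.inv_mem (Ω.mul_mem (Ω.zpow_mem huΩ j) (Ω.zpow_mem hvΩ _))) (hΩinv b v hvΩ), h⟩
      refine ⟨-i, (v ^ (-i))⁻¹ * u ^ j * v ^ (-i) * z, ?_, by rw [hz]; group⟩
      refine mul_mem ?_ (hZ0W hzZ)
      have := hWn.conj_mem _ (zpow_mem huW j) (v ^ (-i))⁻¹
      rwa [inv_inv] at this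
    obtain ⟨μ, d, hd, hbx⟩ := hxgen (b x)
    obtain ⟨ρ, hρ⟩ := mem_zpowers_iff.mp (hR2eq.le (hR2inv b r hrR2))
    have hαp : ¬ (p : ℤ) ∣ α := by
      intro hdvd
      rw [eq_one_of_zpow_dvd ((hΩ u).mp huΩ) hdvd, one_mul] at hbu
      apply huZ
      have := hZ0inv b⁻¹ _ hzu
      rwa [← hbu, MulAut.inv_apply_self] at this
    -- `z0`
    have e1 : (p : ℤ) ∣ ρ - α * β := by
      obtain ⟨l, z, hz, hwl⟩ := hWform _ hwv
      have hcu : Commute (u ^ α) wv := by
        rw [hwl]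
        exact ((Commute.refl u).zpow_zpow α l).mul_right
          (mem_center_iff.mp (hZ0c hz) (u ^ α))
      have hcz : Commute zu (v ^ β * wv) := (mem_center_iff.mp (hZ0c hzu) _).symm
      have h1 : b z0 = z0 ^ (α * β) := by
        rw [hz0def, map_commutatorElement, hbu, hbv, commutatorElement_mul_left_of_commute hcz,
          commutatorElement_mul_right_of_commute hcu,
          commutatorElement_zpow_right' (fun q => hcen _ (zpow_mem huΩ α) v hvΩ q),
          commutatorElement_zpow_left' (hcen u huΩ v hvΩ), ← zpow_mul]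
      obtain ⟨e, he⟩ := mem_zpowers_iff.mp (hR2eq.le hz0.2)
      have h2 : b z0 = z0 ^ ρ := by
        rw [← he, map_zpow, ← hρ, ← zpow_mul, ← zpow_mul, mul_comm]
      refine dvd_of_zpow_eq_one ((hΩ z0).mp hz0.1) huv ?_
      rw [zpow_sub, ← h1, ← h2, mul_inv_cancel]
    -- `x ^ p`
    have e2 : (p : ℤ) ∣ ρ * s - μ * s := by
      have h1 : P (b x) = P x ^ μ := by
        rw [hbx, map_mul, MonoidHom.mem_ker.mp (hPD hd), mul_one, map_zpow]
      have h2 : P (b x) = πU r ^ (ρ * s) := by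
        show πU (b x ^ p) = _
        rw [← map_pow, ← hs, map_zpow, ← hρ, ← zpow_mul, map_zpow]
      have h3 : P x = πU r ^ s := by
        show πU (x ^ p) = _
        rw [← hs, map_zpow]
      rw [h2, h3, ← zpow_mul, mul_comm s μ] at h1
      refine dvd_of_zpow_eq_one (c := πU r) ?_ hrU ?_
      · rw [← map_pow]; exact (QuotientGroup.eq_one_iff _).mpr (mem_zpowers _)
      · rw [zpow_sub, h1, mul_inv_cancel]
    -- `[x, v]`
    have e3 : (p : ℤ) ∣ α * k - μ * β * k := by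
      have hu0 : π0 u ≠ 1 := fun h => huZ ((QuotientGroup.eq_one_iff u).mp h)
      have hxvπ : ⁅π0 x, π0 v⁆ = π0 u ^ k := by
        rw [← map_commutatorElement, hxv, map_mul, map_zpow,
          show π0 z1 = 1 from (QuotientGroup.eq_one_iff z1).mpr hz1, mul_one]
      have hucen : ∀ w ∈ W, ∀ q, Commute (π0 w) q := fun w hw q =>
        (mem_center_iff.mp hw.2 q).symm
      have hxvc : ∀ q, Commute ⁅π0 x, π0 v⁆ q := fun q => by
        rw [hxvπ]; exact (hucen u huW q).zpow_left k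
      have hxvc' : ∀ q, Commute ⁅π0 x, π0 v ^ β⁆ q := fun q => by
        rw [commutatorElement_zpow_right' hxvc]; exact (hxvc q).zpow_left β
      have h1 : π0 (b ⁅x, v⁆) = π0 u ^ (α * k) := by
        rw [hxv, map_mul, map_mul, map_zpow, hbu, map_zpow, map_mul, map_zpow,
          show π0 zu = 1 from (QuotientGroup.eq_one_iff zu).mpr hzu,
          show π0 (b z1) = 1 from (QuotientGroup.eq_one_iff _).mpr (hZ0inv b z1 hz1), mul_one,
          mul_one, ← zpow_mul]
      have h2 : π0 (b ⁅x, v⁆) = π0 u ^ (μ * β * k) := by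
        rw [map_commutatorElement, hbx, hbv, map_commutatorElement, map_mul, map_mul, map_zpow,
          map_zpow, commutatorElement_mul_right_of_commute (hucen wv hwv _).symm,
          commutatorElement_mul_left_of_commute ((hDcomm d hd v hvΩ).zpow_right β),
          commutatorElement_zpow_left' hxvc', commutatorElement_zpow_right' hxvc, hxvπ,
          ← zpow_mul, ← zpow_mul]
        ring_nf
      refine dvd_of_zpow_eq_one (c := π0 u) ?_ hu0 ?_
      · rw [← map_pow, (hΩ u).mp huΩ, map_one]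
      · rw [zpow_sub, ← h1, ← h2, mul_inv_cancel]
    have e2' : (p : ℤ) ∣ ρ - μ := by
      rw [← sub_mul] at e2
      exact (hpZ.dvd_mul.mp e2).resolve_right hsp
    have e3' : (p : ℤ) ∣ α - μ * β := by
      rw [← sub_mul] at e3
      exact (hpZ.dvd_mul.mp e3).resolve_right hkp
    have e4 : (p : ℤ) ∣ α * (β ^ 2 - 1) := by
      rw [show α * (β ^ 2 - 1) = -(α - μ * β) + β * (ρ - μ) - β * (ρ - α * β) by ring]
      exact dvd_sub (dvd_add e3'.neg_right (e2'.mul_left β)) (e1.mul_left β)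
    have e5 : (p : ℤ) ∣ β ^ 2 - 1 := (hpZ.dvd_mul.mp e4).resolve_left hαp
    -- iterate
    set πW := QuotientGroup.mk' W with hπW
    have hiter : ∀ m : ℕ, πW (φ (a ^ m) v) = πW v ^ (β ^ m) := by
      intro m
      induction m with
      | zero => simp
      | succ m ih =>
        have hw : (v ^ (β ^ m))⁻¹ * φ (a ^ m) v ∈ W := by
          rw [← QuotientGroup.eq_one_iff, ← QuotientGroup.mk'_apply, map_mul, map_inv, map_zpow,
            ← hπW, ih, inv_mul_cancel]
        have hbw : πW (b ((v ^ (β ^ m))⁻¹ * φ (a ^ m) v)) = 1 :=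
          (QuotientGroup.eq_one_iff _).mpr (hWinv b _ hw)
        rw [map_mul, map_inv, map_zpow, map_mul, map_inv, map_zpow, hbv, map_mul, map_zpow,
          show πW wv = 1 from (QuotientGroup.eq_one_iff wv).mpr hwv, mul_one, inv_mul_eq_one]
          at hbw
        rw [pow_succ', map_mul, MulAut.mul_apply, ← hb, ← hbw, ← zpow_mul, pow_succ']
    have e6 : (p : ℤ) ∣ β ^ Nat.card A - 1 := by
      have h := hiter (Nat.card A)
      rw [pow_card_eq_one', map_one] at h
      refine dvd_of_zpow_eq_one (c := πW v) ?_ (fun h1 => hvW ((QuotientGroup.eq_one_iff v).mp h1))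
        ?_
      · rw [← map_pow, (hΩ v).mp hvΩ, map_one]
      · rw [zpow_sub, zpow_one, ← h]; exact mul_inv_cancel _
    obtain ⟨n, hn⟩ := hodd
    have e7 : (p : ℤ) ∣ β - 1 := by
      have h1 : (p : ℤ) ∣ β ^ Nat.card A - β := by
        rw [hn, show β ^ (2 * n + 1) - β = β * ((β ^ 2) ^ n - 1 ^ n) by rw [pow_succ, pow_mul]; ring]
        exact (e5.trans (sub_dvd_pow_sub_pow (β ^ 2) 1 n)).mul_left β
      simpa using dvd_sub e6 h1
    rw [hbv, show β = 1 + (β - 1) by ring, zpow_add, zpow_one,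
      eq_one_of_zpow_dvd ((hΩ v).mp hvΩ) e7, mul_one]
    exact hWn.conj_mem wv hwv v
  obtain ⟨M, hM, hMm⟩ := exists_ne_top_of_fixed hN0c φ hcop (k := v)
    (by rw [(hΩ v).mp hvΩ]; exact one_mem _) hvN0 fun a => mem_sup_left (hfix a)
  exact hM (hfull M hMm)

end Core

section Ambient

variable {G : Type*} [Group G] [Finite G] [hp : Fact p.Prime]

/-- BG 4.16 (Blackburn). -/
theorem blackburn_rank_two (hp2 : p ≠ 2) (R A : Subgroup G) (hR : IsPGroup p R) (hR1 : R ≠ ⊥)
    (hr : Cfsg.PRankLE p 2 R) (hA : A ≤ normalizer (R : Set G)) (hcop : (Nat.card A).Coprime p)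
    (hAodd : Odd (Nat.card A)) (hRA : ⁅R, A⁆ = R) :
    3 < p ∧ (IsMulCommutative R ∨ ∃ R₁ R₂ : Subgroup G, R₁ ⊔ R₂ = R ∧
      (∀ a ∈ R₁, ∀ b ∈ R₂, a * b = b * a) ∧ ¬ IsMulCommutative R₁ ∧ Nat.card R₁ = p ^ 3 ∧
      Monoid.exponent R₁ = p ∧ IsCyclic R₂ ∧
      closure {x : G | x ∈ R₂ ∧ x ^ p = 1} = ⁅R₁, R₁⁆) := by
  let φ : A →* MulAut R := (normalizerMonoidHom R).comp (inclusion hA)
  have hfull : ∀ M : Subgroup R, (∀ a y, φ a y * y⁻¹ ∈ M) → M = ⊤ := by
    intro M hM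
    have hle : R ≤ M.map R.subtype := by
      conv_lhs => rw [← hRA]
      rw [commutator_le]
      intro t ht a ha
      refine ⟨(φ ⟨a, ha⟩ ⟨t, ht⟩ * (⟨t, ht⟩ : R)⁻¹)⁻¹, inv_mem (hM _ _), ?_⟩
      show ((φ ⟨a, ha⟩ ⟨t, ht⟩ : R) * t⁻¹ : G)⁻¹ = ⁅t, a⁆
      rw [show ((φ ⟨a, ha⟩ ⟨t, ht⟩ : R) : G) = a * t * a⁻¹ from rfl, commutatorElement_def]
      group
    rw [eq_top_iff]
    rintro ⟨x, hx⟩ -
    obtain ⟨y, hy, hyx⟩ := hle hx
    exact (Subtype.ext hyx : y = ⟨x, hx⟩) ▸ hy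
  have hp3 : 3 < p := by
    by_contra h
    have hp3 : p = 3 := by have := hp.out.two_le; omega
    have htriv : φ.range = ⊥ := by
      by_contra hne
      obtain ⟨q, hq, hqd⟩ := Nat.exists_prime_and_dvd (mt Subgroup.card_eq_one.mp hne)
      have hqA : q ∣ Nat.card A := hqd.trans (card_range_dvd φ)
      have hqp : q ≠ p := by
        rintro rfl
        exact (Nat.prime_iff.mp hp.out).not_unit
          (Nat.isUnit_iff.mpr (Nat.eq_one_of_dvd_coprimes hcop hqA dvd_rfl))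
      have hlt := (prime_dvd_card_aut hp2 hR hr hq hqp
        (hqd.trans (card_subgroup_dvd_card _))).2
      have hq2 : q = 2 := by have := hq.two_le; omega
      subst hq2
      exact (Nat.not_even_iff_odd.mpr hAodd) (even_iff_two_dvd.mpr hqA)
    have hbot : (⊥ : Subgroup R) = ⊤ := hfull ⊥ fun a y => by
      rw [mem_bot, show φ a = 1 from mem_bot.mp (htriv.le ⟨a, rfl⟩)]
      simp
    apply hR1
    rw [eq_bot_iff]
    intro x hx
    have := mem_bot.mp (hbot.ge (mem_top (⟨x, hx⟩ : R)))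
    exact mem_bot.mpr (congrArg Subtype.val this)
  refine ⟨hp3, ?_⟩
  set Ω := omegaSubgroup hp3 hR hr with hΩdef
  have hΩ : ∀ x, x ∈ Ω ↔ x ^ p = 1 := fun x => Iff.rfl
  have hΩ3 : Nat.card Ω ≤ p ^ 3 := card_pow_eq_one_le hp3 hR hr
  by_cases hle : Nat.card Ω ≤ p ^ 2
  · left
    exact isMulCommutative_of_commutator_eq hp2 hR (isMetacyclic_of_card_pow_eq_one hp3 hR hle)
      hA hcop hRA
  right
  have hcard : Nat.card Ω = p ^ 3 := by
    obtain ⟨i, hi⟩ := IsPGroup.iff_card.mp (hR.to_subgroup Ω)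
    rw [hi] at hle hΩ3 ⊢
    have h1 := (Nat.pow_le_pow_iff_right hp.out.one_lt).mp hΩ3
    have h2 : ¬ i ≤ 2 := fun h => hle (Nat.pow_le_pow_right hp.out.pos h)
    congr 1
    omega
  have hna : ¬ ∀ a b : Ω, a * b = b * a := by
    intro h
    have := hr Ω ⟨⟨h⟩⟩ (fun a ha => (hΩ a).mp ha)
    exact hle this
  obtain ⟨hZ, hcyc, hcomm, htop⟩ :=
    omega_sup_centralizer_eq_top hp3 hR hΩ hcard hna φ hcop hAodd hfull
  set C := centralizer (Ω : Set R) with hC
  refine ⟨Ω.map R.subtype, C.map R.subtype, ?_, ?_, ?_, ?_, ?_, ?_, ?_⟩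
  · rw [← Subgroup.map_sup, htop, ← MonoidHom.range_eq_map, range_subtype]
  · rintro _ ⟨a, ha, rfl⟩ _ ⟨b, hb, rfl⟩
    rw [← map_mul, ← map_mul, hb a ha]
  · intro h
    refine hna fun a b => Subtype.ext (R.subtype_injective ?_)
    simpa using congrArg Subtype.val
      (h.is_comm.comm ⟨_, mem_map_of_mem R.subtype a.2⟩ ⟨_, mem_map_of_mem R.subtype b.2⟩)
  · rw [card_map_of_injective R.subtype_injective, hcard]
  · have hexp : Monoid.exponent (Ω.map R.subtype) ∣ p :=
      Monoid.exponent_dvd_of_forall_pow_eq_one (by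
        rintro ⟨_, a, ha, rfl⟩
        refine Subtype.ext ?_
        show R.subtype a ^ p = 1
        rw [← map_pow, (hΩ a).mp ha, map_one])
    refine ((Nat.dvd_prime hp.out).mp hexp).resolve_left fun h1 => ?_
    have hsub : Subsingleton (Ω.map R.subtype) := Monoid.exp_eq_one_iff.mp h1
    have := Nat.card_of_subsingleton (1 : Ω.map R.subtype)
    rw [card_map_of_injective R.subtype_injective, hcard] at this
    exact (Nat.one_lt_pow (by omega) hp.out.one_lt).ne' this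
  · exact isCyclic_of_surjective (C.equivMapOfInjective R.subtype R.subtype_injective).toMonoidHom
      (MulEquiv.surjective _)
  · rw [← map_commutator]
    have heq : ⁅Ω, Ω⁆ = Ω ⊓ C := by
      refine eq_of_le_of_card_ge (commutator_le.mpr hcomm) ?_
      rw [hZ]
      rcases (hR.to_subgroup ⁅Ω, Ω⁆).card_eq_or_dvd with h | h
      · exfalso
        refine hna fun a b => Subtype.ext ?_
        have := (Subgroup.card_eq_one.mp h).le (commutator_mem_commutator a.2 b.2)
        exact commutatorElement_eq_one_iff_mul_comm.mp (mem_bot.mp this)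
      · exact Nat.le_of_dvd Nat.card_pos h
    rw [heq]
    refine le_antisymm ((closure_le _).mpr ?_) ?_
    · rintro _ ⟨⟨a, ha, rfl⟩, hap⟩
      refine mem_map_of_mem _ ⟨(hΩ a).mpr (R.subtype_injective ?_), ha⟩
      rw [map_pow, map_one]
      exact hap
    · rintro _ ⟨a, ha, rfl⟩
      exact subset_closure ⟨mem_map_of_mem _ ha.2, by rw [← map_pow, (hΩ a).mp ha.1, map_one]⟩

end Ambient

end CfsgLib.OddOrder.BG4
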